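import Cfsg.Agent.H257.OZ.SuzFacts
import Cfsg.Agent.SuzThree.Basic
import Cfsg.Agent.H264.QS.Suz6
import Cfsg.Agent.Lib.ListFast
import Cfsg.Agent.H620.RIM.Nb
import Cfsg.Agent.H51.Mult
import Cfsg.Agent.H990.TC.Univ
import Cfsg.Agent.KFacts.FiTF.FixZ_m3
import Cfsg.Agent.H836.Facts
import Cfsg.Agent.H922.QS.FiThree
import Cfsg.Agent.H326.QS.FiRow
import Cfsg.Agent.S2053
import Mathlib
import Cfsg.Agent.H32.NX9.RDef_m3
import Cfsg.Agent.Lib.CoprimeAbelian
import Cfsg.Agent.H37.NW.Red_m3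
import Cfsg.Agent.H586.GW.Final
import Cfsg.Agent.FastGrp
import Cfsg.Agent.Prune
set_option linter.all false

section
prune_inst 0x7fd0bcf90fa88ddfffff7e3ffed5dffdf4ecefffefdff9fbffe1619faf9feb6349c56b85efee58fe9ef6e2b438f87b93f97eca3fea6bdc7ffffd5ff41ffbee1fadeeb50951978c341ffc6fff9bf17fae7f3fffffffffffffffffffffffffffffffffffffffff

-- part: H759/RIM/SuzS
section
prune_inst 0x2f4306f0577220000001c0012a20020b13100010200600001c9e605060049cb632943a1011a7016101110ac6048068068135c01594010000020008600411c012014ab62e6833cbc0031000640e805180c00000000000000000000000000000000000000000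
set_option linter.all false
open scoped Cfsg.Agent.FastGrp

/-!
# S4816, row `Suz`: upper bounds for some centralizers in `Suz` (helper759)
-/

set_option autoImplicit false
set_option maxRecDepth 1000000
set_option exponentiation.threshold 5000

namespace Cfsg.Agent.H759.RIM.SuzS

open Cfsg Cfsg.Spor Subgroup Cfsg.Agent.H123.Cls Cfsg.Agent.H123.Cls.SuzDat Cfsg.Agent.Lib.BitNet
open Cfsg.Agent.H763.Ore.SuzModel (A N A_conj card_A card_N N_le_A T_mem_A T_notMem T_inv)
open Cfsg.Agent.OddHalf.Table.SuzRep (ψ ψ_val ψ_injective)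
open Cfsg.Agent.OddHalf.Table.SuzGraph (T okT)
open Cfsg.Agent.OddHalf.Table.SuzNets (nT)
open Cfsg.Agent.Lib.BitNetSimple (appF appF_eq)
open Cfsg.Agent.SporadicRecognition.SuzOrder (el card_Suz)
open Cfsg.Agent.SuzThree.Basic (el_append el_reverse t5 eq_one_of_t5)
open Cfsg.Agent.SporadicRecognition.SuzPhi (wd)
open Cfsg.Agent.H257.OZ Cfsg.Agent.H257.OZ.SuzF
open Equiv (Perm)

/-! ### words -/

def w10 : List ℕ := [1, 0, 3, 1, 5, 6, 2, 4, 1, 6, 5, 1, 3, 0, 4, 2]
def w12 : List ℕ := [1, 4, 2, 3, 4, 1, 3, 2]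
def w13 : List ℕ := [4, 0, 3, 1, 0, 4, 1, 3]
def w14 : List ℕ := [1, 0, 1, 0]
def w20 : List ℕ := [6, 5, 3, 2, 1, 3, 5, 6, 1, 2]
def w21 : List ℕ := [4, 2, 1, 6, 3, 5, 1, 2, 4, 5, 3, 6]
def w29 : List ℕ := [1, 6, 5, 1, 2, 6, 1, 2, 1, 5]
def o10 : List ℕ := [1, 0, 4, 6, 1, 2, 3, 5, 6, 1, 0, 2, 1, 5, 1, 2, 3, 4, 3, 2, 3, 0, 1, 2, 0, 1, 6, 3, 4, 1]
def o12 : List ℕ := [3, 5, 1, 2, 6, 1, 0, 1, 2, 1, 3, 2, 1, 4, 3, 2, 1, 0, 1, 6, 5, 4, 1, 2, 3, 2, 1, 5, 6, 4, 3]
def o13 : List ℕ := [0, 1, 6, 5, 1, 2, 3, 2, 1, 4, 3, 2, 5, 1, 6, 1, 5, 3, 2, 3, 4, 1, 2, 3, 2, 1, 6, 5, 3]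
def u7 : List ℕ := [0, 4, 3, 2, 1, 0, 3, 4, 6, 1, 2, 3, 2, 4, 3, 5, 1, 2, 3, 2, 1, 6, 1, 5, 2, 1, 6, 4, 2, 3, 1, 0]
def u9 : List ℕ := [2, 6, 5, 1, 2, 3, 2, 4, 6, 1, 5, 6, 1, 2, 3, 5, 2, 3, 4, 3, 1, 0, 1, 2, 3, 2, 1]
def u10 : List ℕ := [2, 1, 3, 2, 1, 4, 3, 2, 1, 3, 4, 5, 6, 1, 2, 3, 2, 1, 5, 6, 1, 5, 2, 1, 0, 1, 5, 3, 2, 1, 6, 5, 3, 1]
def wI : List ℕ := [0, 1, 2, 1, 0, 1, 0, 3, 2, 3, 1, 2, 3, 2, 1, 0, 1, 2]
def wT : List ℕ := [2, 4, 3, 5, 6, 1, 2, 3, 2, 1, 6, 5, 1, 2, 3, 2, 3, 4, 1, 2]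

/-- the element of a word -/
noncomputable def g (l : List ℕ) : Suz := el (l.map gn)

theorem g_append (l m : List ℕ) : g (l ++ m) = g l * g m := by rw [g, List.map_append, el_append]; rfl

theorem g_reverse (l : List ℕ) : g l.reverse = (g l)⁻¹ := by rw [g, List.map_reverse, el_reverse]; rfl

/-- powers of words -/
def rep (l : List ℕ) (n : ℕ) : List ℕ := (List.replicate n l).flatten

theorem g_rep (l : List ℕ) (n : ℕ) : g (rep l n) = g l ^ n := by
  induction n with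
  | zero =>
    rw [pow_zero, rep, List.replicate_zero, List.flatten_nil, g, List.map_nil, el, List.map_nil, List.prod_nil]
  | succ n ih =>
    rw [rep, List.replicate_succ, List.flatten_cons, g_append, pow_succ']
    exact congrArg _ ih

theorem eq_of {l m : List ℕ} (h : t5 (wd ((l ++ m.reverse).map gn)) = true) : g l = g m := by
  have h1 : g (l ++ m.reverse) = 1 := eq_one_of_t5 (Cfsg.Agent.SuzThree.Basic.Rep.el _) h
  rw [g_append, g_reverse] at h1
  exact mul_inv_eq_one.1 h1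

theorem tab_of {l : List ℕ} (hl : ∀ x ∈ l, x < 7) {P : ℕ}
    (h : allN (fun p => Nat.beq (evw 11 gens l p) (lk 11 P p)) 1782 = true) (p : Fin 1782) :
    (ψ (g l) p : ℕ) = lk 11 P p := by
  rw [g, ev_tab l hl]
  exact Nat.eq_of_beq_eq_true ((allN_iff _ _).1 h p p.2)

theorem t10 : allN (fun p => Nat.beq (evw 11 gens w10 p) (lk 11 p10 p)) 1782 = true :=
  Cfsg.Agent.H257.OZ.SuzF.word_sb5 (Cfsg.Agent.H257.OZ.SuzF.tab_sb5 10 rfl) (by decide) (by decide +kernel)
theorem t12 : allN (fun p => Nat.beq (evw 11 gens w12 p) (lk 11 p12 p)) 1782 = true :=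
  Cfsg.Agent.H257.OZ.SuzF.word_sb5 (Cfsg.Agent.H257.OZ.SuzF.tab_sb5 12 rfl) (by decide) (by decide +kernel)
theorem t13 : allN (fun p => Nat.beq (evw 11 gens w13 p) (lk 11 p13 p)) 1782 = true :=
  Cfsg.Agent.H257.OZ.SuzF.word_sb5 (Cfsg.Agent.H257.OZ.SuzF.tab_sb5 13 rfl) (by decide) (by decide +kernel)
theorem t14 : allN (fun p => Nat.beq (evw 11 gens w14 p) (lk 11 p14 p)) 1782 = true :=
  Cfsg.Agent.H257.OZ.SuzF.word_sb5 (Cfsg.Agent.H257.OZ.SuzF.tab_sb5 14 rfl) (by decide) (by decide +kernel)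
theorem t20 : allN (fun p => Nat.beq (evw 11 gens w20 p) (lk 11 p20 p)) 1782 = true :=
  Cfsg.Agent.H257.OZ.SuzF.word_sb5 (Cfsg.Agent.H257.OZ.SuzF.tab_sb5 20 rfl) (by decide) (by decide +kernel)
theorem t21 : allN (fun p => Nat.beq (evw 11 gens w21 p) (lk 11 p21 p)) 1782 = true :=
  Cfsg.Agent.H257.OZ.SuzF.word_sb5 (Cfsg.Agent.H257.OZ.SuzF.tab_sb5 21 rfl) (by decide) (by decide +kernel)
theorem t29 : allN (fun p => Nat.beq (evw 11 gens w29 p) (lk 11 p29 p)) 1782 = true :=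
  Cfsg.Agent.H257.OZ.SuzF.word_sb5 (Cfsg.Agent.H257.OZ.SuzF.tab_sb5 29 rfl) (by decide) (by decide +kernel)

theorem m10 : (p10, 55, [396, 0, 476, 4, 396, 0, 0]) ∈ D := mem_D (y := 10) rfl
theorem m12 : (p12, 39, [400, 2, 400, 2, 400, 2, 42]) ∈ D := mem_D (y := 12) rfl
theorem m13 : (p13, 29, [400, 2, 400, 2, 400, 2, 162]) ∈ D := mem_D (y := 13) rfl
theorem m14 : (p14, 599, [400, 2, 400, 2, 400, 2, 1782]) ∈ D := mem_D (y := 14) rfl
theorem m20 : (p20, 53, [432, 0, 432, 0, 324, 0, 0]) ∈ D := mem_D (y := 20) rfl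
theorem m21 : (p21, 17, [432, 0, 432, 0, 540, 0, 0]) ∈ D := mem_D (y := 21) rfl
theorem m29 : (p29, 167, [476, 4, 476, 4, 476, 4, 4]) ∈ D := mem_D (y := 29) rfl

/-- the centralizer in `A` -/
noncomputable def cA (x : Suz) : ℕ := Nat.card ↥(A ⊓ centralizer {ψ x})

instance : Finite Suz := fin

theorem card_le_cA (x : Suz) : Nat.card (centralizer ({x} : Set Suz)) ≤ cA x := by
  rw [← card_inf]
  exact Nat.card_mono (Set.toFinite _) (inf_le_inf_right _ N_le_A)

theorem cA_le {l : List ℕ} (hl : ∀ x ∈ l, x < 7) {x : ℕ × ℕ × List ℕ} (hx : x ∈ D)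
    (h : allN (fun p => Nat.beq (evw 11 gens l p) (lk 11 x.1 p)) 1782 = true) : cA (g l) ≤ x.2.1 + 1 :=
  cent_A_le hx (tab_of hl h)

/-- conjugate elements of `A` -/
theorem cA_conj {a : Perm (Fin 1782)} (ha : a ∈ A) {x y : Suz} (h : ψ x * a = a * ψ y) : cA x = cA y := by
  have h1 : (A ⊓ centralizer {ψ y}).map (MulAut.conj a).toMonoidHom = A ⊓ centralizer {ψ x} := by
    have hx : ψ x = a * ψ y * a⁻¹ := by rw [← h]; group
    ext z
    rw [mem_map]
    constructor
    · rintro ⟨w, hw, rfl⟩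
      refine mem_inf.2 ⟨A.mul_mem (A.mul_mem ha (mem_inf.1 hw).1) (A.inv_mem ha), ?_⟩
      have h2 := mem_centralizer_singleton_iff.1 (mem_inf.1 hw).2
      rw [mem_centralizer_singleton_iff, hx]
      change a * w * a⁻¹ * (a * ψ y * a⁻¹) = a * ψ y * a⁻¹ * (a * w * a⁻¹)
      calc a * w * a⁻¹ * (a * ψ y * a⁻¹) = a * (w * ψ y) * a⁻¹ := by group
        _ = a * (ψ y * w) * a⁻¹ := by rw [h2]
        _ = _ := by group
    · intro hz
      refine ⟨a⁻¹ * z * a, mem_inf.2 ⟨A.mul_mem (A.mul_mem (A.inv_mem ha) (mem_inf.1 hz).1) ha, ?_⟩, ?_⟩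
      · have h2 := mem_centralizer_singleton_iff.1 (mem_inf.1 hz).2
        rw [hx] at h2
        rw [mem_centralizer_singleton_iff]
        calc a⁻¹ * z * a * ψ y = a⁻¹ * (z * (a * ψ y * a⁻¹)) * a := by group
          _ = a⁻¹ * (a * ψ y * a⁻¹ * z) * a := by rw [h2]
          _ = _ := by group
      · change a * (a⁻¹ * z * a) * a⁻¹ = z
        group
  rw [cA, cA, ← h1]
  exact (card_map_of_injective (MulAut.conj a).injective)

/-- an outer element commuting with `x` -/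
theorem half {x : Suz} {w : Suz} (h : T * ψ x * T * ψ w = ψ w * ψ x) {m : ℕ} (hm : cA x ≤ 2 * m) :
    Nat.card (centralizer ({x} : Set Suz)) ≤ m := by
  rw [← card_inf]
  have hT : T * T = 1 := by
    have := T_inv
    nth_rewrite 1 [← this]
    exact inv_mul_cancel _
  have hc : ψ x * (T * ψ w) = T * ψ w * ψ x := by
    calc ψ x * (T * ψ w) = T * (T * ψ x * T * ψ w) := by
          rw [← mul_assoc, ← mul_assoc, ← mul_assoc, ← mul_assoc, hT, one_mul]
      _ = T * ψ w * ψ x := by rw [h, mul_assoc]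
  refine card_le_half (H := N ⊓ centralizer {ψ x}) (C := A ⊓ centralizer {ψ x}) (inf_le_inf_right _ N_le_A)
    (a := T * ψ w) (mem_inf.2 ⟨A.mul_mem T_mem_A (N_le_A ⟨w, rfl⟩), ?_⟩) ?_ hm inferInstance
  · rw [mem_centralizer_singleton_iff, hc]
  · intro h1
    have h2 := (mem_inf.1 h1).1
    rw [N.mul_mem_cancel_right ⟨w, rfl⟩] at h2
    exact T_notMem h2

/-- an outer element commuting with `x` commutes with its powers -/
theorem half_pow {x : Suz} {w : Suz} (h : T * ψ x * T * ψ w = ψ w * ψ x) {k m : ℕ} (hm : cA (x ^ k) ≤ 2 * m) :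
    Nat.card (centralizer ({x ^ k} : Set Suz)) ≤ m := by
  refine half (w := w) ?_ hm
  have hT : T * T = 1 := by
    have := T_inv
    nth_rewrite 1 [← this]
    exact inv_mul_cancel _
  have h1 : T * ψ x * T = ψ w * ψ x * (ψ w)⁻¹ := by rw [← h]; group
  have h2 : ∀ k : ℕ, T * ψ x ^ k * T = (T * ψ x * T) ^ k := by
    intro k
    induction k with
    | zero => rw [pow_zero, pow_zero, mul_one, hT]
    | succ k ih =>
      rw [pow_succ, pow_succ, ← ih]
      calc T * (ψ x ^ k * ψ x) * T = T * ψ x ^ k * (T * T) * ψ x * T := by rw [hT]; group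
        _ = _ := by group
  rw [map_pow, h2, h1, conj_pow]
  group

theorem T_val (p : Fin 1782) : (T p : ℕ) = appF nT p := by
  rw [appF_eq]
  rfl

/-- five points decide -/
private theorem ext5 {x w y : Suz} (h : ∀ p : Fin 1782, (p : ℕ) ∈ [14, 98, 1, 1575, 0] →
    (((T * ψ x * T * ψ w) p : Fin 1782) : ℕ) = (ψ y p : ℕ)) : T * ψ x * T * ψ w = ψ y := by
  have h1 := A_conj T_mem_A (n := ψ x) ⟨x, rfl⟩
  rw [T_inv] at h1
  obtain ⟨z, hz⟩ := h1
  rw [← hz, ← map_mul] at h ⊢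
  have h2 : y⁻¹ * (z * w) = 1 := by
    refine Cfsg.Agent.SporadicRecognition.SuzOrder.eq_one_of_fix fun q hq => ?_
    have h3 : q < 1782 := by
      simp only [List.mem_cons, List.not_mem_nil, or_false] at hq
      omega
    have h4 : ψ (y⁻¹ * (z * w)) ⟨q, h3⟩ = ⟨q, h3⟩ := by
      rw [map_mul, map_inv, Equiv.Perm.mul_apply, Fin.ext (h ⟨q, h3⟩ hq)]
      exact (ψ y).symm_apply_apply _
    exact (ψ_val _ ⟨q, h3⟩).symm.trans (congrArg Fin.val h4)
  rw [← inv_mul_eq_one.1 h2]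

theorem outer_of {l w : List ℕ} {P : ℕ} (hl : ∀ p : Fin 1782, (ψ (g l) p : ℕ) = lk 11 P p) (hw : ∀ x ∈ w, x < 7)
    (h : ([14, 98, 1, 1575, 0].all fun p =>
      Nat.beq (appF nT (lk 11 P (appF nT (evw 11 gens w p)))) (evw 11 gens w (lk 11 P p))) = true) :
    T * ψ (g l) * T * ψ (g w) = ψ (g w) * ψ (g l) := by
  rw [← map_mul]
  refine ext5 fun p hp => ?_
  rw [map_mul, Equiv.Perm.mul_apply, Equiv.Perm.mul_apply, Equiv.Perm.mul_apply, Equiv.Perm.mul_apply, T_val, hl, T_val, g,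
    ev_tab w hw, ev_tab w hw, hl]
  exact Nat.eq_of_beq_eq_true (List.all_eq_true.1 h p hp)

theorem co10 : ([14, 98, 1, 1575, 0].all fun p =>
    Nat.beq (appF nT (lk 11 p10 (appF nT (evw 11 gens o10 p)))) (evw 11 gens o10 (lk 11 p10 p))) = true := by decide +kernel
theorem co12 : ([14, 98, 1, 1575, 0].all fun p =>
    Nat.beq (appF nT (lk 11 p12 (appF nT (evw 11 gens o12 p)))) (evw 11 gens o12 (lk 11 p12 p))) = true := by decide +kernel
theorem co13 : ([14, 98, 1, 1575, 0].all fun p =>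
    Nat.beq (appF nT (lk 11 p13 (appF nT (evw 11 gens o13 p)))) (evw 11 gens o13 (lk 11 p13 p))) = true := by decide +kernel

/-- **14A** -/
theorem c14 : Nat.card (centralizer ({g w10} : Set Suz)) ≤ 28 :=
  half (outer_of (tab_of (by decide) t10) (by decide) co10) (cA_le (by decide) m10 t10)

/-- **10B** -/
theorem c10' : Nat.card (centralizer ({g w12} : Set Suz)) ≤ 20 :=
  half (outer_of (tab_of (by decide) t12) (by decide) co12) (cA_le (by decide) m12 t12)

/-- **15C** -/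
theorem c15 : Nat.card (centralizer ({g w13} : Set Suz)) ≤ 15 :=
  half (outer_of (tab_of (by decide) t13) (by decide) co13) (cA_le (by decide) m13 t13)

/-- **18A** -/
theorem c18 : Nat.card (centralizer ({g w21} : Set Suz)) ≤ 18 :=
  (card_le_cA _).trans (cA_le (by decide) m21 t21)

theorem r7 : g w10 ^ 8 * g u7 = g u7 * g w29 := by
  rw [← g_rep, ← g_append, ← g_append]
  exact eq_of (by decide +kernel)

/-- **7A** -/
theorem c7 : Nat.card (centralizer ({g w10 ^ 8} : Set Suz)) ≤ 84 := by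
  refine half_pow (outer_of (tab_of (by decide) t10) (by decide) co10) ?_
  rw [cA_conj (N_le_A ⟨g u7, rfl⟩) (y := g w29) (by rw [← map_mul, ← map_mul, r7])]
  exact cA_le (by decide) m29 t29

theorem r5 : g w13 ^ 6 * g [0] = g [0] * g w14 := by
  rw [← g_rep, ← g_append, ← g_append]
  exact eq_of (by decide +kernel)

/-- **5B** -/
theorem c5 : Nat.card (centralizer ({g w13 ^ 6} : Set Suz)) ≤ 300 := by
  refine half_pow (outer_of (tab_of (by decide) t13) (by decide) co13) ?_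
  rw [cA_conj (N_le_A ⟨g [0], rfl⟩) (y := g w14) (by rw [← map_mul, ← map_mul, r5])]
  exact cA_le (by decide) m14 t14

theorem r10 : g w13 ^ 6 * g wI * g u10 = g u10 * g w12 := by
  rw [← g_rep, ← g_append, ← g_append, ← g_append]
  exact eq_of (by decide +kernel)

theorem card_conj {G : Type*} [Group G] {x y a : G} (h : x * a = a * y) :
    Nat.card (centralizer ({x} : Set G)) = Nat.card (centralizer ({y} : Set G)) := by
  have h1 : (centralizer ({y} : Set G)).map (MulAut.conj a).toMonoidHom = centralizer ({x} : Set G) := by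
    have hx : x = a * y * a⁻¹ := by rw [← h]; group
    ext z
    rw [mem_map, mem_centralizer_singleton_iff]
    constructor
    · rintro ⟨w, hw, rfl⟩
      have h2 := mem_centralizer_singleton_iff.1 hw
      rw [hx]
      change a * w * a⁻¹ * (a * y * a⁻¹) = a * y * a⁻¹ * (a * w * a⁻¹)
      calc a * w * a⁻¹ * (a * y * a⁻¹) = a * (w * y) * a⁻¹ := by group
        _ = a * (y * w) * a⁻¹ := by rw [h2]
        _ = _ := by group
    · intro hz
      rw [hx] at hz
      refine ⟨a⁻¹ * z * a, mem_centralizer_singleton_iff.2 ?_, ?_⟩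
      · calc a⁻¹ * z * a * y = a⁻¹ * (z * (a * y * a⁻¹)) * a := by group
          _ = a⁻¹ * (a * y * a⁻¹ * z) * a := by rw [hz]
          _ = _ := by group
      · change a * (a⁻¹ * z * a) * a⁻¹ = z
        group
  rw [← h1]
  exact card_map_of_injective (MulAut.conj a).injective

/-- **10B** as a product -/
theorem c10 : Nat.card (centralizer ({g w13 ^ 6 * g wI} : Set Suz)) ≤ 20 := by
  rw [card_conj r10]
  exact c10'

theorem co9 : ([14, 98, 1, 1575, 0].all fun p =>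
    Nat.beq (appF nT (it 11 p21 10 (appF nT (evw 11 gens u9 p)))) (evw 11 gens u9 (lk 11 p20 p))) = true := by decide +kernel

/-- **9A** -/
theorem c9 : Nat.card (centralizer ({g w21 ^ 10} : Set Suz)) ≤ 54 := by
  refine (card_le_cA _).trans ?_
  have hT : T * T = 1 := by
    have := T_inv
    nth_rewrite 1 [← this]
    exact inv_mul_cancel _
  rw [cA_conj (A.mul_mem T_mem_A (N_le_A ⟨g u9, rfl⟩)) (y := g w20) ?_]
  · exact cA_le (by decide) m20 t20
  · have h1 : T * ψ (g w21 ^ 10) * T * ψ (g u9) = ψ (g u9) * ψ (g w20) := by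
      rw [← map_mul]
      refine ext5 fun p hp => ?_
      rw [map_mul, Equiv.Perm.mul_apply, Equiv.Perm.mul_apply, Equiv.Perm.mul_apply, Equiv.Perm.mul_apply, T_val, map_pow,
        pow_tab (tab_of (by decide) t21), T_val, tab_of (by decide) t20 p |> fun h => (by
          have := ev_tab u9 (by decide) (ψ (g w20) p); rw [h] at this; exact this : (ψ (g u9) (ψ (g w20) p) : ℕ) =
            evw 11 gens u9 (lk 11 p20 p))]
      rw [show (ψ (g u9) p : ℕ) = evw 11 gens u9 p from ev_tab u9 (by decide) p]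
      exact Nat.eq_of_beq_eq_true (List.all_eq_true.1 co9 p hp)
    calc ψ (g w21 ^ 10) * (T * ψ (g u9)) = T * (T * ψ (g w21 ^ 10) * T * ψ (g u9)) := by
          rw [← mul_assoc, ← mul_assoc, ← mul_assoc, ← mul_assoc, hT, one_mul]
      _ = T * ψ (g u9) * ψ (g w20) := by rw [h1, mul_assoc]

end Cfsg.Agent.H759.RIM.SuzS

private theorem dce_00d9c7809ac6 : _root_.True := by
  try have : _root_.True := by simp only [_root_.Cfsg.Agent.H759.RIM.SuzS.g.eq_1]
  try have : _root_.True := by simp only [_root_.Cfsg.Agent.H759.RIM.SuzS.cA.eq_1]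
  try have : _root_.True := by simp only [_root_.Cfsg.Agent.H759.RIM.SuzS.rep.eq_1]
  exact _root_.True.intro
end

-- part: H759/RIM/SuzY
section
set_option linter.all false
open scoped Cfsg.Agent.FastGrp

/-!
# S4816, row `Suz`: relations in the sixfold cover (helper759)
-/

set_option autoImplicit false
set_option maxRecDepth 1000000
set_option exponentiation.threshold 5000

namespace Cfsg.Agent.H759.RIM.SuzY

open Cfsg Cfsg.Spor Subgroup Cfsg.Agent.H759.RIM.SuzS
open Cfsg.Agent.H123.Cls.SuzDat (gn)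
open Cfsg.Agent.H257.OZ Cfsg.Agent.H257.OZ.SuzF Cfsg.Agent.H123.Cls Cfsg.Agent.H123.Cls.SuzDat
open Cfsg.Agent.Lib.PackMat (okG checkEq checkScalar)
open Cfsg.Agent.H58.SuzRep (M12 C12 Y q q_surj q_ker z z_mem q_z orderOf_z coe_z coe_z_pow s coe_s u coe_prod W ok_W ok6 s6
  mk mk6 prod_eq)

/-- the lift of a word -/
noncomputable def r (l : List ℕ) : Y := ((l.map gn).map s).prod

theorem q_r (l : List ℕ) : q (r l) = g l := Cfsg.Agent.H264.QS.Suz6.q_word _

theorem r_append (l m : List ℕ) : r (l ++ m) = r l * r m := by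
  rw [r, List.map_append, List.map_append, List.prod_append]; rfl

theorem r_rep (l : List ℕ) (n : ℕ) : r (rep l n) = r l ^ n := by
  induction n with
  | zero =>
    rw [pow_zero, rep, List.replicate_zero, List.flatten_nil, r, List.map_nil, List.map_nil, List.prod_nil]
  | succ n ih =>
    rw [rep, List.replicate_succ, List.flatten_cons, r_append, pow_succ']
    exact congrArg _ ih

/-- packed codes of a word -/
noncomputable def V (l : List ℕ) : List ℕ := W (l.map gn)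

theorem coe_r (l : List ℕ) : ((r l : M12ˣ) : M12) = ((V l).map mk).prod := by
  rw [r, coe_s, coe_prod]; rfl

theorem r_eq {l m : List ℕ} (h : checkEq C12 (V l) (V m) 0 12 = true) : r l = r m := by
  apply Subtype.ext
  apply Units.ext
  rw [coe_r, coe_r]
  exact prod_eq (ok_W _) (ok_W _) h

/-- minus one -/
noncomputable def ζ : Y := z ^ 3

theorem coe_ζ : ((ζ : M12ˣ) : M12) = (6 : ZMod 7) • (1 : M12) := by
  rw [ζ, coe_z_pow]
  rfl

theorem r_eq_neg {l m : List ℕ} (h : checkEq C12 (V l) (s6 :: V m) 0 12 = true) : r l = ζ * r m := by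
  have h1 := prod_eq (ok_W (l.map gn)) (w := s6 :: V m)
    (fun g hg => by
      rcases List.mem_cons.1 hg with rfl | hg
      · exact ok6
      · exact ok_W _ g hg) h
  apply Subtype.ext
  apply Units.ext
  rw [coe_r, Subgroup.coe_mul, Units.val_mul, coe_r, coe_ζ, smul_mul_assoc, one_mul]
  rw [List.map_cons, List.prod_cons, mk6, smul_mul_assoc, one_mul] at h1
  exact h1

theorem r_nil : r [] = 1 := rfl

/-! ### the prime 3 -/

theorem R21 : r w21 ^ 18 = 1 := by
  rw [← r_rep, ← r_nil]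
  exact r_eq (by decide +kernel)

/-! ### the prime 7 -/

private noncomputable def _root_.Cfsg.Agent.LsF.f3f6b18_0 : {f // @Cfsg.Agent.Lib.PackMat.rep = f} := ⟨_, by first | (delta Cfsg.Agent.Lib.PackMat.rep; rewrite [Cfsg.Agent.LsF.nmul_pat, Cfsg.Agent.LsF.nsub_pat, Cfsg.Agent.LsF.ndiv_pat, Cfsg.Agent.LsF.npow_pat]; exact rfl) | exact rfl⟩
private noncomputable def _root_.Cfsg.Agent.LsF.f3f6b18_1 : {f // @Cfsg.Agent.Lib.PackMat.gmask = f} := ⟨_, by first | (delta Cfsg.Agent.Lib.PackMat.gmask; rewrite [Cfsg.Agent.LsF.f3f6b18_0.2, Cfsg.Agent.LsF.nmul_pat, Cfsg.Agent.LsF.nsub_pat, Cfsg.Agent.LsF.npow_pat]; exact rfl) | exact rfl⟩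
private noncomputable def _root_.Cfsg.Agent.LsF.f3f6b18_2 : {f // @Cfsg.Agent.Lib.PackMat.GMc = f} := ⟨_, by first | (delta Cfsg.Agent.Lib.PackMat.GMc; rewrite [Cfsg.Agent.LsF.f3f6b18_1.2]; exact rfl) | exact rfl⟩
private noncomputable def _root_.Cfsg.Agent.LsF.f3f6b18_3 : {f // @Cfsg.Agent.Lib.PackMat.FMc = f} := ⟨_, by first | (delta Cfsg.Agent.Lib.PackMat.FMc; rewrite [Cfsg.Agent.LsF.nadd_pat, Cfsg.Agent.LsF.nmul_pat, Cfsg.Agent.LsF.nsub_pat, Cfsg.Agent.LsF.npow_pat]; exact rfl) | exact rfl⟩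
private noncomputable def _root_.Cfsg.Agent.LsF.f3f6b18_4 : {f // @Cfsg.Agent.Lib.PackMat.LOc = f} := ⟨_, by first | (delta Cfsg.Agent.Lib.PackMat.LOc; rewrite [Cfsg.Agent.LsF.f3f6b18_0.2, Cfsg.Agent.LsF.nmul_pat, Cfsg.Agent.LsF.nsub_pat, Cfsg.Agent.LsF.npow_pat]; exact rfl) | exact rfl⟩
private noncomputable def _root_.Cfsg.Agent.LsF.f3f6b18_5 : {f // @Cfsg.Agent.Lib.PackMat.HIc = f} := ⟨_, by first | (delta Cfsg.Agent.Lib.PackMat.HIc; rewrite [Cfsg.Agent.LsF.f3f6b18_0.2, Cfsg.Agent.LsF.nmul_pat, Cfsg.Agent.LsF.nsub_pat, Cfsg.Agent.LsF.npow_pat]; exact rfl) | exact rfl⟩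
private noncomputable def _root_.Cfsg.Agent.LsF.f3f6b18_6 : {f // @Cfsg.Agent.Lib.PackMat.HTc = f} := ⟨_, by first | (delta Cfsg.Agent.Lib.PackMat.HTc; rewrite [Cfsg.Agent.LsF.f3f6b18_0.2, Cfsg.Agent.LsF.nmul_pat, Cfsg.Agent.LsF.nsub_pat, Cfsg.Agent.LsF.npow_pat]; exact rfl) | exact rfl⟩
private noncomputable def _root_.Cfsg.Agent.LsF.f3f6b18_7 : {f // @Cfsg.Agent.Lib.PackMat.withC = f} := ⟨_, by first | (delta Cfsg.Agent.Lib.PackMat.withC; rewrite [Cfsg.Agent.LsF.f3f6b18_2.2, Cfsg.Agent.LsF.f3f6b18_3.2, Cfsg.Agent.LsF.f3f6b18_4.2, Cfsg.Agent.LsF.f3f6b18_5.2, Cfsg.Agent.LsF.f3f6b18_6.2]; exact rfl) | exact rfl⟩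
private noncomputable def _root_.Cfsg.Agent.LsF.f3f6b18_8 : {f // @Cfsg.Agent.Lib.PackMat.unitRow = f} := ⟨_, by first | (delta Cfsg.Agent.Lib.PackMat.unitRow; rewrite [Cfsg.Agent.LsF.nmul_pat, Cfsg.Agent.LsF.nsub_pat, Cfsg.Agent.LsF.npow_pat]; exact rfl) | exact rfl⟩
private noncomputable def _root_.Cfsg.Agent.LsF.f3f6b18_9 : {f // @Cfsg.Agent.Lib.PackMat.foldK = f} := ⟨_, by first | (delta Cfsg.Agent.Lib.PackMat.foldK Nat.brecOn.go Nat.brecOn Cfsg.Agent.Lib.PackMat.foldK._f; (try delta Cfsg.Agent.Lib.PackMat.foldBoundIter.match_1); (try delta Nat.casesOn); first | dsimp -zeta only | exact rfl) | exact rfl⟩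
private noncomputable def _root_.Cfsg.Agent.LsF.f3f6b18_10 : {f // @Cfsg.Agent.Lib.PackMat.stepK = f} := ⟨_, by first | (delta Cfsg.Agent.Lib.PackMat.stepK; rewrite [Cfsg.Agent.LsF.f3f6b18_9.2]; exact rfl) | exact rfl⟩
private noncomputable def _root_.Cfsg.Agent.LsF.f3f6b18_11 : {f // @Cfsg.Agent.Lib.PackMat.runK = f} := ⟨_, by first | (delta Cfsg.Agent.Lib.PackMat.runK List.brecOn List.brecOn.go Cfsg.Agent.Lib.PackMat.runK._f; rewrite [Cfsg.Agent.LsF.f3f6b18_10.2]; (try delta Cfsg.Agent.Lib.PackMat.runK.match_1); (try delta List.casesOn); first | dsimp -zeta only | exact rfl) | exact rfl⟩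
private noncomputable def _root_.Cfsg.Agent.LsF.f3f6b18_12 : {f // @Cfsg.Agent.Lib.PackMat.checkEqK = f} := ⟨_, by first | (delta Cfsg.Agent.Lib.PackMat.checkEqK Cfsg.Agent.Lib.PackMat.checkEqK._f Nat.brecOn.go Nat.brecOn; rewrite [Cfsg.Agent.LsF.f3f6b18_11.2, Cfsg.Agent.LsF.cond_eq]; (try delta Cfsg.Agent.Lib.PackMat.foldBoundIter.match_1); (try delta Nat.casesOn); first | dsimp -zeta only | exact rfl) | exact rfl⟩
private noncomputable def _root_.Cfsg.Agent.LsF.f3f6b18_13 : {f // @Cfsg.Agent.Lib.PackMat.checkEq = f} := ⟨_, by first | (delta Cfsg.Agent.Lib.PackMat.checkEq; rewrite [Cfsg.Agent.LsF.f3f6b18_7.2, Cfsg.Agent.LsF.f3f6b18_8.2, Cfsg.Agent.LsF.f3f6b18_12.2, Cfsg.Agent.LsF.nadd_pat, Cfsg.Agent.LsF.cond_eq]; exact rfl) | exact rfl⟩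
private noncomputable def _root_.Cfsg.Agent.LsF.f3f6b18_14 : {f // @Cfsg.Agent.H58.SuzRep.code = f} := ⟨_, by first | (delta Cfsg.Agent.H58.SuzRep.code; (try delta Cfsg.Agent.H58.SuzRep.code.match_1); (try delta Cfsg.Spor.Suz.Gen.casesOn); exact rfl) | exact rfl⟩
private noncomputable def _root_.Cfsg.Agent.LsF.f3f6b18_15 : {f // @Cfsg.Agent.H58.SuzRep.W = f} := ⟨_, by first | (delta Cfsg.Agent.H58.SuzRep.W; rewrite [Cfsg.Agent.LsF.f3f6b18_14.2, Cfsg.Agent.LsF.map_eq]; exact rfl) | exact rfl⟩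
private noncomputable def _root_.Cfsg.Agent.LsF.f3f6b18_16 : {f // @Cfsg.Agent.H123.Cls.SuzDat.gn = f} := ⟨_, by first | (delta Cfsg.Agent.H123.Cls.SuzDat.gn; (try delta Cfsg.Agent.H123.Cls.SuzDat.gn.match_1); (try rewrite [Cfsg.Agent.LsF.instDecEq_eq, Cfsg.Agent.LsF.dite_eq]); exact rfl) | exact rfl⟩
private noncomputable def _root_.Cfsg.Agent.LsF.f3f6b18_17 : {f // @Cfsg.Agent.H759.RIM.SuzY.V = f} := ⟨_, by first | (delta Cfsg.Agent.H759.RIM.SuzY.V; rewrite [Cfsg.Agent.LsF.f3f6b18_15.2, Cfsg.Agent.LsF.f3f6b18_16.2, Cfsg.Agent.LsF.map_eq]; exact rfl) | exact rfl⟩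
private noncomputable def _root_.Cfsg.Agent.LsF.f3f6b18_18 : {f // @Cfsg.Agent.H759.RIM.SuzS.rep = f} := ⟨_, by first | (delta Cfsg.Agent.H759.RIM.SuzS.rep; rewrite [Cfsg.Agent.LsF.flatten_eq, Cfsg.Agent.LsF.replicate_eq]; exact rfl) | exact rfl⟩
theorem R10 : r w10 ^ 14 = ζ := by
  rw [← r_rep, ← mul_one ζ, ← r_nil]
  exact r_eq_neg (by ((try (rewrite [Cfsg.Agent.LsF.f3f6b18_13.2, Cfsg.Agent.LsF.f3f6b18_17.2, Cfsg.Agent.LsF.f3f6b18_18.2])); decide +kernel))

theorem T3 : r wT ^ 3 = 1 := by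
  rw [← r_rep, ← r_nil]
  exact r_eq (by decide +kernel)

theorem TX : r wT * r w10 ^ 8 = r w10 ^ 8 * r wT := by
  rw [← r_rep, ← r_append, ← r_append]
  exact r_eq (by ((try (rewrite [Cfsg.Agent.LsF.f3f6b18_13.2, Cfsg.Agent.LsF.f3f6b18_17.2, Cfsg.Agent.LsF.f3f6b18_18.2, Cfsg.Agent.LsF.lappend_pat])); decide +kernel))

/-- `I J = ζ J I` with `J = T I T⁻¹` -/
theorem TIJ : r w10 ^ 7 * (r wT * r w10 ^ 7 * r wT ^ 2) = ζ * (r wT * r w10 ^ 7 * r wT ^ 2 * r w10 ^ 7) := by
  rw [← r_rep, ← r_rep, ← r_append, ← r_append, ← r_append, ← r_append]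
  exact r_eq_neg (by ((try (rewrite [Cfsg.Agent.LsF.f3f6b18_13.2, Cfsg.Agent.LsF.f3f6b18_17.2, Cfsg.Agent.LsF.f3f6b18_18.2, Cfsg.Agent.LsF.lappend_pat])); decide +kernel))

/-- `T J T⁻¹ = I J` -/
theorem TJ : r wT * (r wT * r w10 ^ 7 * r wT ^ 2) * r wT ^ 2 = r w10 ^ 7 * (r wT * r w10 ^ 7 * r wT ^ 2) := by
  rw [← r_rep, ← r_rep, ← r_append, ← r_append, ← r_append, ← r_append, ← r_append]
  exact r_eq (by ((try (rewrite [Cfsg.Agent.LsF.f3f6b18_13.2, Cfsg.Agent.LsF.f3f6b18_17.2, Cfsg.Agent.LsF.f3f6b18_18.2, Cfsg.Agent.LsF.lappend_pat])); decide +kernel))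

/-! ### the prime 5 -/

theorem R13 : r w13 ^ 15 = 1 := by
  rw [← r_rep, ← r_nil]
  exact r_eq (by decide +kernel)

theorem II : r wI * r wI = ζ := by
  rw [← r_append, ← mul_one ζ, ← r_nil]
  exact r_eq_neg (by decide +kernel)

theorem IX : r wI * r w13 ^ 6 = r w13 ^ 6 * r wI := by
  rw [← r_rep, ← r_append, ← r_append]
  exact r_eq (by decide +kernel)

theorem IJ : r wI * (r w13 ^ 10 * r wI * r w13 ^ 5) = ζ * (r w13 ^ 10 * r wI * r w13 ^ 5 * r wI) := by
  rw [← r_rep, ← r_rep, ← r_append, ← r_append, ← r_append, ← r_append]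
  exact r_eq_neg (by ((try (rewrite [Cfsg.Agent.LsF.f3f6b18_13.2, Cfsg.Agent.LsF.f3f6b18_17.2, Cfsg.Agent.LsF.f3f6b18_18.2, Cfsg.Agent.LsF.lappend_pat])); decide +kernel))

theorem JK : r w13 ^ 10 * (r w13 ^ 10 * r wI * r w13 ^ 5) * r w13 ^ 5 = r wI * (r w13 ^ 10 * r wI * r w13 ^ 5) := by
  rw [← r_rep, ← r_rep, ← r_append, ← r_append, ← r_append, ← r_append, ← r_append]
  exact r_eq (by ((try (rewrite [Cfsg.Agent.LsF.f3f6b18_13.2, Cfsg.Agent.LsF.f3f6b18_17.2, Cfsg.Agent.LsF.f3f6b18_18.2, Cfsg.Agent.LsF.lappend_pat])); decide +kernel))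

theorem SX : r [3] * r w13 ^ 6 = r w13 ^ 6 * r [3] := by
  rw [← r_rep, ← r_append, ← r_append]
  exact r_eq (by decide +kernel)

/-- `S T S⁻¹ = T⁻¹` with `T = R ^ 10` -/
theorem ST : r [3] * r w13 ^ 10 = r w13 ^ 5 * r [3] := by
  rw [← r_rep, ← r_rep, ← r_append, ← r_append]
  exact r_eq (by decide +kernel)

/-! ### some elements are not trivial -/

theorem ne_one_of {l : List ℕ} (hl : ∀ x ∈ l, x < 7) (p : Fin 1782)
    (h : Nat.beq (Cfsg.Agent.H123.Cls.evw 11 Cfsg.Agent.H123.Cls.SuzDat.gens l p) p = false) : g l ≠ 1 := by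
  intro h1
  have h2 := ev_tab l hl p
  rw [← g, h1, map_one] at h2
  rw [← h2] at h
  simp at h

theorem ne7 : g w10 ^ 7 ≠ 1 := by
  rw [← g_rep]
  exact ne_one_of (by decide) 0 (by decide +kernel)

theorem neI : g wI ≠ 1 := ne_one_of (by decide) 4 (by decide +kernel)

theorem neT : g w13 ^ 10 ≠ 1 := by
  rw [← g_rep]
  exact ne_one_of (by decide) 4 (by decide +kernel)

end Cfsg.Agent.H759.RIM.SuzY

private theorem dce_4b3a90a5ee55 : _root_.True := by
  try have : _root_.True := by simp only [_root_.Cfsg.Agent.H759.RIM.SuzY.ζ.eq_1]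
  try have : _root_.True := by simp only [_root_.Cfsg.Agent.H759.RIM.SuzY.r.eq_1]
  exact _root_.True.intro
end

-- part: H878/RIM/FiTool
section
prune_inst 0xe4304a000322000000000002800020300000000000200000c920000400004b620902a100000010000000a00040040000004c0040000000000a000000011c05211000420003100c00200000002001100000000000000000000000000000000000000000000
set_option linter.all false
open scoped Cfsg.Agent.FastGrp

-- part: H878/RIM/Cnt
section
/-!
# S4816: the counting tools with any lower bound of the number of characters (helper878, after helper620, helper849)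

* `Cnt f m S` : for every perfect central extension of `S` with kernel of order `m` and every faithful character of the
  kernel there are at least `f` irreducible characters over it;
* `nb_of_dz_f`, `nb_of_cent_f` : the defect zero count and the centralizer count;
* `LGood m g` : in every perfect central extension with kernel of order `m`, the lifts of elements which commute with `g`
  commute with the lifts of `g`; `cnt_of_list` : pairwise not conjugate elements with `LGood m`;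
* `pow_of_good` : the order of the commutators in a perfect central extension, from one other extension.
-/

set_option autoImplicit false
set_option linter.unusedSectionVars false

namespace Cfsg.Agent.H878.RIM

open Cfsg Subgroup Finset
open Cfsg.Agent.Characters.Core
open Cfsg.Agent.SmallSimple.ThetaSetup Cfsg.Agent.SmallSimple.ThetaOrtho Cfsg.Agent.SmallSimple.ThetaCount
open Cfsg.Agent.SmallSimple.TheoremC Cfsg.Agent.SmallSimple.TheoremCCor
open Cfsg.Agent.SmallSimple.SingularCount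
open Cfsg.Agent.H622.Over Cfsg.Agent.H849.RIM Cfsg.Agent.H665.RIM Cfsg.Agent.H620.RIM

universe u v

/-- at least `f` irreducible characters over every faithful character of the kernel -/
def Cnt (f m : ℕ) (S : Type u) [Group S] : Prop :=
  ∀ (G : Type u) [Group G] [Finite G] (Z : Subgroup G) [Z.Normal], Z ≤ center G → ((G ⧸ Z) ≃* S) → Nat.card Z = m →
    commutator G = ⊤ → ∀ c : Z →* ℂˣ, Function.Injective c →
      f ≤ Nat.card {χ : IrrCharacter G // Lies Z c (χ : G → ℂ)}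

section tool

variable {G : Type u} [Group G] [Finite G] {p : ℕ} [Fact p.Prime] {P : Sylow p G} {K : Subgroup G}

/-- A character vanishing on the `p`-singular elements, `p ∣ |G|`, has degree divisible by `p`. -/
theorem exists_dz_f (hK : IsComp p (P : Subgroup G) K) (hP : Nat.card P = p) {Z : Subgroup G} [Z.Normal]
    (hZ : Z ≤ center G) (hZK : Z ≤ K) (c : Z →* ℂˣ) {w : ℕ}
    (hw : (centralizer ((P : Subgroup G) : Set G)).relIndex (normalizer ((P : Subgroup G) : Set G)) = w)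
    (A : Finset (IrrCharacter K)) (hA : ∀ θ : IrrCharacter K, LiesK Z c K (θ : K → ℂ) → θ ∈ A)
    {f : ℕ} (hf : f ≤ Nat.card {χ : IrrCharacter G // Lies Z c (χ : G → ℂ)})
    (hlt : ∑ θ ∈ A, (Nat.card (stabAct hK (θ : K → ℂ)) ^ 2 + (p - 1)) < w * f) :
    ∃ χ : IrrCharacter G, Lies Z c (χ : G → ℂ) ∧ ∀ g : G, p ∣ orderOf g → (χ : G → ℂ) g = 0 := by
  classical
  by_contra hcon
  push Not at hcon
  have := finite_irr (G := G)
  have := Fintype.ofFinite (IrrCharacter G)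
  have h1 := card_mul_le hK hP hZ hZK hw A hA (Finset.univ.filter fun χ : IrrCharacter G => Lies Z c (χ : G → ℂ))
    (fun χ hχ => ⟨(mem_filter.1 hχ).2, by
      obtain ⟨g, hg, hne⟩ := hcon χ (mem_filter.1 hχ).2
      exact ⟨g, hg, hne⟩⟩)
  have h2 := hf
  rw [Nat.card_eq_fintype_card, Fintype.card_subtype] at h2
  have h3 := Nat.mul_le_mul_left w h2
  omega

/-- **Defect zero over a central character, `p ∥ |G|`.**  `S = G ⧸ Z`, `y ∈ S` of order `p`, `|C_S(y)| = p k`,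
`|N_S(⟨y⟩)| = w p k`, the complement of `⟨y⟩` in `C_S(y)` has at most `k'` classes, and there are more than
`k' (w ^ 2 + p - 1) / w` classes of `S` with `MGood`. -/
theorem exists_dz_quot_f {Z : Subgroup G} [Z.Normal] (hZ : Z ≤ center G) (hZp : ¬ p ∣ Nat.card Z)
    (hsq : ¬ p ^ 2 ∣ Nat.card (G ⧸ Z)) {y : G ⧸ Z} (hy : orderOf y = p) {k w k' : ℕ}
    (hC : Nat.card (centralizer ({y} : Set (G ⧸ Z))) = p * k)
    (hN : Nat.card (normalizer ((zpowers y : Subgroup (G ⧸ Z)) : Set (G ⧸ Z))) = w * (p * k)) (c : Z →* ℂˣ)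
    {f : ℕ} (hf : f ≤ Nat.card {χ : IrrCharacter G // Lies Z c (χ : G → ℂ)})
    (hk' : ∀ C₀ : Subgroup (G ⧸ Z), C₀ ≤ centralizer {y} → Nat.card C₀ = k → Nat.card (ConjClasses C₀) ≤ k')
    (hlt : k' * (w ^ 2 + (p - 1)) < w * f) :
    ∃ χ : IrrCharacter G, Lies Z c (χ : G → ℂ) ∧ p ∣ charDegree (χ : G → ℂ) := by
  classical
  have hp : p.Prime := Fact.out
  have hfin : Finite (IrrCharacter G) := finite_irr
  obtain ⟨u, rfl, hu⟩ := exists_lift hZp hy
  -- the Sylow subgroup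
  have hcG := card_eq_card_quotient_mul_card_subgroup Z
  have hG2 : ¬ p ^ 2 ∣ Nat.card G := by
    rw [hcG]
    intro h
    have hco : (p ^ 2).Coprime (Nat.card Z) := Nat.Coprime.pow_left 2 ((hp.coprime_iff_not_dvd).2 hZp)
    exact hsq (hco.dvd_of_dvd_mul_right h)
  have hzp : IsPGroup p (zpowers u) := IsPGroup.of_card (n := 1) (by rw [Nat.card_zpowers, hu, pow_one])
  obtain ⟨P, hPle⟩ := hzp.exists_le_sylow
  have hP : Nat.card P = p := by
    obtain ⟨n, hn⟩ := (IsPGroup.iff_card).1 P.2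
    have h1 : Nat.card P ∣ Nat.card G := card_subgroup_dvd_card _
    have h2 : n < 2 := by
      by_contra h3
      push Not at h3
      exact hG2 ((pow_dvd_pow p h3).trans (hn ▸ h1))
    have h3 : p ∣ Nat.card P := by
      have := card_dvd_of_le hPle
      rwa [Nat.card_zpowers, hu] at this
    interval_cases n
    · rw [hn, pow_zero, Nat.dvd_one] at h3
      exact absurd h3 hp.one_lt.ne'
    · rw [hn, pow_one]
  have hPz : (P : Subgroup G) = zpowers u := by
    symm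
    refine eq_of_le_of_card_ge hPle ?_
    rw [Nat.card_zpowers, hu]
    exact hP.le
  obtain ⟨K, hK⟩ := exists_isComp P hP
  have huP : u ∈ (P : Subgroup G) := hPle (mem_zpowers u)
  have hu1 : u ≠ 1 := by
    rintro rfl
    rw [orderOf_one] at hu
    exact hp.one_lt.ne hu
  have hCP : centralizer ((P : Subgroup G) : Set G) = centralizer ({u} : Set G) :=
    (Blocks.CyclicOrtho.centralizer_eq P hP huP hu1).symm
  -- the centralizer
  have hcent : centralizer ((P : Subgroup G) : Set G) =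
      (centralizer ({(u : G ⧸ Z)} : Set (G ⧸ Z))).comap (QuotientGroup.mk' Z) := by
    rw [hCP]
    ext x
    rw [mem_centralizer_singleton_iff, mem_comap, mem_centralizer_singleton_iff]
    constructor
    · intro h
      have := congrArg (QuotientGroup.mk' Z) h
      simpa only [_root_.QuotientGroup.mk'_apply, _root_.QuotientGroup.mk_mul] using this
    · intro h
      have h1 : (x : G ⧸ Z) * u * (x : G ⧸ Z)⁻¹ = (u : G ⧸ Z) ^ 1 := by
        have h2 : (x : G ⧸ Z) * u = u * x := h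
        rw [h2, mul_inv_cancel_right, pow_one]
      have h2 := comm_of_comm hZ hZp hu h1
      rw [pow_one, mul_inv_eq_iff_eq_mul] at h2
      exact h2
  have hnorm : normalizer ((P : Subgroup G) : Set G) =
      (normalizer ((zpowers (u : G ⧸ Z) : Subgroup (G ⧸ Z)) : Set (G ⧸ Z))).comap (QuotientGroup.mk' Z) := by
    have hPm : (P : Subgroup G).map (QuotientGroup.mk' Z) = zpowers (u : G ⧸ Z) := by
      rw [hPz, MonoidHom.map_zpowers]
      rfl
    apply le_antisymm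
    · intro x hx
      rw [mem_comap, ← hPm]
      exact Subgroup.le_normalizer_map _ (_root_.Subgroup.mem_map_of_mem _ hx)
    · intro x hx
      rw [mem_comap] at hx
      have h1 : (x : G ⧸ Z) * u * (x : G ⧸ Z)⁻¹ ∈ zpowers (u : G ⧸ Z) :=
        (mem_normalizer_iff.1 hx (u : G ⧸ Z)).1 (mem_zpowers _)
      obtain ⟨j, hj⟩ := mem_powers_iff_mem_zpowers.2 h1
      have h2 := comm_of_comm hZ hZp hu (x := x) (j := j) hj.symm
      refine mem_normalizer_fintype fun n hn => ?_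
      have hn' : n ∈ zpowers u := by rw [← hPz]; exact hn
      obtain ⟨i, rfl⟩ := mem_powers_iff_mem_zpowers.2 hn'
      show x * u ^ i * x⁻¹ ∈ (P : Subgroup G)
      rw [← conj_pow, h2, hPz]
      exact pow_mem (pow_mem (mem_zpowers u) j) i
  have hcC : Nat.card (centralizer ((P : Subgroup G) : Set G)) = p * k * Nat.card Z := by
    rw [hcent, card_comap, hC]
  have hcN : Nat.card (normalizer ((P : Subgroup G) : Set G)) = w * (p * k) * Nat.card Z := by
    rw [hnorm, card_comap, hN]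
  have hcK : Nat.card K = k * Nat.card Z := by
    have h1 : Nat.card P * Nat.card K = Nat.card (centralizer ((P : Subgroup G) : Set G)) := by
      rw [← Nat.card_prod]
      exact Nat.card_congr (_root_.Cfsg.Agent.SmallSimple.ThetaSetup.prodEquiv hK hP).toEquiv
    rw [hP, hcC, mul_assoc] at h1
    exact Nat.eq_of_mul_eq_mul_left hp.pos h1
  have hZK : Z ≤ K := by
    intro z hz
    rw [hK]
    refine ⟨?_, fun h => hZp ?_⟩
    · rw [mem_centralizer_iff]
      intro g _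
      exact mem_center_iff.1 (hZ hz) g
    · have h1 := _root_.orderOf_dvd_natCard (⟨z, hz⟩ : Z)
      rw [← orderOf_submonoid] at h1
      exact h.trans h1
  have hk0 : 0 < k := by
    rcases Nat.eq_zero_or_pos k with h | h
    · rw [h, zero_mul] at hcK
      exact absurd hcK Nat.card_pos.ne'
    · exact h
  have hw : (centralizer ((P : Subgroup G) : Set G)).relIndex (normalizer ((P : Subgroup G) : Set G)) = w := by
    have h1 : centralizer ((P : Subgroup G) : Set G) ≤ normalizer ((P : Subgroup G) : Set G) :=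
      centralizer_le_normalizer _
    have h2 := Subgroup.card_mul_index ((centralizer ((P : Subgroup G) : Set G)).subgroupOf
      (normalizer ((P : Subgroup G) : Set G)))
    rw [Nat.card_congr (subgroupOfEquivOfLe h1).toEquiv, hcC, hcN] at h2
    have h3 : 0 < p * k * Nat.card Z := Nat.mul_pos (Nat.mul_pos hp.pos hk0) Nat.card_pos
    rw [Subgroup.relIndex]
    apply Nat.eq_of_mul_eq_mul_left h3
    rw [h2]
    ring
  have hfK : Finite (IrrCharacter K) := finite_irr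
  have := Fintype.ofFinite (IrrCharacter K)
  set A : Finset (IrrCharacter K) := univ.filter fun θ => LiesK Z c K (θ : K → ℂ) with hA
  have hAk : A.card ≤ k' := by
    have hKle : K.map (QuotientGroup.mk' Z) ≤ centralizer ({(u : G ⧸ Z)} : Set (G ⧸ Z)) := by
      rw [map_le_iff_le_comap, ← hcent]
      intro x hx
      exact ((hK x).1 hx).1
    have hKc : Nat.card (K.map (QuotientGroup.mk' Z)) = k := by
      have h1 : (K.map (QuotientGroup.mk' Z)).comap (QuotientGroup.mk' Z) = K := by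
        rw [comap_map_eq, QuotientGroup.ker_mk', sup_eq_left]
        exact hZK
      have h2 := card_comap (K.map (QuotientGroup.mk' Z))
      rw [h1, hcK] at h2
      exact (Nat.eq_of_mul_eq_mul_right Nat.card_pos h2).symm
    exact (card_liesK_le_classes hZ hZK c A fun θ hθ => (mem_filter.1 hθ).2).trans (hk' _ hKle hKc)
  have hsum : ∑ θ ∈ A, (Nat.card (stabAct hK (θ : K → ℂ)) ^ 2 + (p - 1)) ≤ k' * (w ^ 2 + (p - 1)) := by
    have hw0 : 0 < w := by
      rcases Nat.eq_zero_or_pos w with h | h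
      · rw [h, zero_mul, zero_mul] at hcN
        exact absurd hcN Nat.card_pos.ne'
      · exact h
    calc ∑ θ ∈ A, (Nat.card (stabAct hK (θ : K → ℂ)) ^ 2 + (p - 1)) ≤ ∑ _θ ∈ A, (w ^ 2 + (p - 1)) := by
          refine Finset.sum_le_sum fun θ _ => Nat.add_le_add_right (Nat.pow_le_pow_left ?_ 2) _
          have h1 := card_stabAct_mul_card_orb hK hP θ.2
          rw [hw] at h1
          exact Nat.le_of_dvd hw0 (h1 ▸ dvd_mul_right _ _)
      _ = A.card * (w ^ 2 + (p - 1)) := by rw [Finset.sum_const, smul_eq_mul]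
      _ ≤ k' * (w ^ 2 + (p - 1)) := Nat.mul_le_mul_right _ hAk
  obtain ⟨χ, hl, h0⟩ := exists_dz_f hK hP hZ hZK c hw A (fun θ hθ => mem_filter.2 ⟨mem_univ _, hθ⟩) hf
    (lt_of_le_of_lt hsum hlt)
  refine ⟨χ, hl, ?_⟩
  obtain ⟨d, hd⟩ := exists_degree_eq (P : Subgroup G) (isIrr_isCharacter χ.2) fun x hx hx1 => h0 x (by
    rw [Blocks.CyclicOrtho.orderOf_eq P hP hx hx1])
  rw [hP] at hd
  refine ⟨d, ?_⟩
  have h1 : ((charDegree (χ : G → ℂ) : ℕ) : ℂ) = ((p * d : ℕ) : ℂ) := by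
    obtain ⟨n, hn⟩ := isCharacter_apply_one (isIrr_isCharacter χ.2)
    unfold charDegree
    rw [hn, Complex.natCast_re, Nat.floor_natCast, ← hn, hd]
    push_cast
    ring
  exact_mod_cast h1

end tool

/-- **The form with the quotient `S = G ⧸ Z`**: more classes of elements of order prime to `|Z|` than `|C_S(y)|`, where `y`
is a `p`-element: some character over `c` has degree divisible by `p`. -/
theorem exists_dvd_quot_f {G : Type u} [Group G] [Finite G] {p : ℕ} [Fact p.Prime] {Z : Subgroup G} [Z.Normal] (hZ : Z ≤ center G) (hZp : ¬ p ∣ Nat.card Z)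
    {y : G ⧸ Z} {n : ℕ} (hy : orderOf y = p ^ n) (c : Z →* ℂˣ) {f : ℕ}
    (hf : f ≤ Nat.card {χ : IrrCharacter G // Lies Z c (χ : G → ℂ)})
    (hlt : Nat.card (centralizer ({y} : Set (G ⧸ Z))) < f) :
    ∃ χ : IrrCharacter G, Lies Z c (χ : G → ℂ) ∧ p ∣ charDegree (χ : G → ℂ) := by
  classical
  have hp : p.Prime := Fact.out
  have hco : (p ^ n).Coprime (Nat.card Z) := Nat.Coprime.pow_left n ((hp.coprime_iff_not_dvd).2 hZp)
  -- the lift
  obtain ⟨u, rfl, hu⟩ : ∃ u : G, (u : G ⧸ Z) = y ∧ u ^ (p ^ n) = 1 := by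
    obtain ⟨g, rfl⟩ := QuotientGroup.mk_surjective y
    obtain ⟨a, ha⟩ := (Nat.modEq_and_modEq_iff_modEq_mul hco).2 rfl |> fun _ : (0 : ℕ) ≡ 0 [MOD p ^ n] ∧ _ =>
      (⟨Nat.chineseRemainder hco 1 0, (Nat.chineseRemainder hco 1 0).2⟩ : ∃ a, a ≡ 1 [MOD p ^ n] ∧ a ≡ 0 [MOD Nat.card Z])
    refine ⟨g ^ a, ?_, ?_⟩
    · rw [QuotientGroup.mk_pow]
      have h1 : (g : G ⧸ Z) ^ a = (g : G ⧸ Z) ^ 1 := pow_eq_pow_iff_modEq.2 (by rw [hy]; exact ha.1)
      rw [h1, pow_one]
    · have h1 : g ^ (p ^ n) ∈ Z := by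
        rw [← QuotientGroup.eq_one_iff, QuotientGroup.mk_pow, ← hy]
        exact pow_orderOf_eq_one _
      have h2 : (g ^ (p ^ n)) ^ Nat.card Z = 1 := by
        have h3 := pow_card_eq_one' (G := Z) (x := ⟨g ^ (p ^ n), h1⟩)
        exact congrArg Subtype.val h3
      obtain ⟨b, hb⟩ := (Nat.modEq_zero_iff_dvd).1 ha.2
      calc (g ^ a) ^ (p ^ n) = ((g ^ (p ^ n)) ^ Nat.card Z) ^ b := by
            rw [hb, ← pow_mul, ← pow_mul, ← pow_mul]; ring_nf
        _ = 1 := by rw [h2, one_pow]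
  have hou : orderOf u ∣ p ^ n := orderOf_dvd_of_pow_eq_one hu
  have hw : (orderOf u).Coprime (Nat.card Z) := hco.coprime_dvd_left hou
  -- the centralizer
  have hcent : centralizer ({u} : Set G) =
      (centralizer ({(u : G ⧸ Z)} : Set (G ⧸ Z))).comap (QuotientGroup.mk' Z) := by
    ext x
    rw [mem_centralizer_singleton_iff, mem_comap, mem_centralizer_singleton_iff]
    constructor
    · intro h
      have := congrArg (QuotientGroup.mk' Z) h
      simpa only [_root_.QuotientGroup.mk'_apply, _root_.QuotientGroup.mk_mul] using this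
    · intro h
      have h2 : (x : G ⧸ Z) * u = u * x := h
      have h3 : u⁻¹ * (x * u * x⁻¹) ∈ Z := by
        rw [← QuotientGroup.eq_one_iff, QuotientGroup.mk_mul, QuotientGroup.mk_inv, QuotientGroup.mk_mul,
          QuotientGroup.mk_mul, QuotientGroup.mk_inv, h2, mul_inv_cancel_right, inv_mul_cancel]
      have h4 : IsConj u (u * ((⟨_, h3⟩ : Z) : G)) := by
        rw [isConj_iff]
        exact ⟨x, by simp⟩
      have h5 := congrArg Subtype.val (eq_one_of_conj hZ hw _ h4)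
      have h6 : u⁻¹ * (x * u * x⁻¹) = 1 := h5
      rw [inv_mul_eq_one] at h6
      rw [eq_comm, mul_inv_eq_iff_eq_mul] at h6
      exact h6
  obtain ⟨χ, hl, h0⟩ := exists_zero_over hZ c hw (by
    rw [hcent, card_comap, mul_comm]
    refine Nat.mul_lt_mul_of_pos_left (lt_of_lt_of_le hlt hf) Nat.card_pos)
  refine ⟨χ, hl, ?_⟩
  obtain ⟨M, hM⟩ := Blocks.ExistsModular.exists_isPModular hp
  have hMp : M.IsPrime := hM.2.1.isPrime
  have h1 := H849.OZ.av_sub_mem (χ := χ) hp hMp hM.2.2 u (j := 0) (n := n) (by rw [pow_zero, one_pow, hu])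
  have h3 : H732.VZ.av χ u = 0 := Subtype.ext h0
  rw [h3, pow_zero, zero_sub, Ideal.neg_mem_iff] at h1
  have h4 : H732.VZ.av χ 1 = ((charDegree (χ : G → ℂ) : ℤ) : AlgInt) := by
    apply Subtype.ext
    rw [H732.VZ.av_coe, ← H686.CharKit.charDegree_irr χ]
    simp only [_root_.Int.cast_natCast, _root_.SubringClass.coe_natCast]
  rw [h4, H732.VZ.int_mem_iff hp hMp hM.2.2] at h1
  exact_mod_cast h1

/-- **The defect zero count.**  `p ∥ |S|`, `y ∈ S` of order `p`, `|C_S(y)| = p k`, `|N_S(⟨y⟩)| = w p k`, the subgroups of order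
`k` of `C_S(y)` have at most `k'` classes, and there are more than `k' (w ^ 2 + (p - 1)) / w` classes with `MGood m`. -/
theorem nb_of_dz_f {p m : ℕ} (hp : p.Prime) (hpm : ¬ p ∣ m) {S : Type u} [Group S]
    (hsq : ¬ p ^ 2 ∣ Nat.card S) {y : S} (hy : orderOf y = p) {k w k' : ℕ}
    (hC : Nat.card (centralizer ({y} : Set S)) = p * k)
    (hN : Nat.card (normalizer ((zpowers y : Subgroup S) : Set S)) = w * (p * k))
    (hk' : ∀ C₀ : Subgroup S, C₀ ≤ centralizer {y} → Nat.card C₀ = k → Nat.card (ConjClasses C₀) ≤ k')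
    {f : ℕ} (hf : Cnt.{u} f m S) (hlt : k' * (w ^ 2 + (p - 1)) < w * f) : NB p m S := by
  have : Fact p.Prime := ⟨hp⟩
  refine nb_of_quot fun G _ _ Z _ hZ e hm hperf c hcinj => ?_
  refine exists_dz_quot_f hZ (hm ▸ hpm) (by rwa [Nat.card_congr e.toEquiv]) (y := e.symm y) (k := k) (w := w)
    (k' := k') ?_ ?_ ?_ c (hf G Z hZ e hm hperf c hcinj) ?_ hlt
  · rw [← hy]
    exact orderOf_injective e.symm.toMonoidHom e.symm.injective y
  · rw [card_centralizer_congr e.symm y, hC]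
  · rw [card_normalizer_congr e.symm y, hN]
  · intro C₀ hC₀ hcard
    have h1 : C₀.map e.toMonoidHom ≤ centralizer {y} := by
      rintro _ ⟨x, hx, rfl⟩
      have h2 := hC₀ hx
      rw [mem_centralizer_singleton_iff] at h2 ⊢
      have h3 := congrArg e h2
      rw [map_mul, map_mul, e.apply_symm_apply] at h3
      exact h3
    have h2 : Nat.card (C₀.map e.toMonoidHom) = k := by
      rw [← hcard]
      exact (Nat.card_congr (C₀.equivMapOfInjective e.toMonoidHom e.injective).toEquiv).symm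
    have h3 := hk' _ h1 h2
    refine le_trans ?_ h3
    have h4 : Finite (C₀.map e.toMonoidHom) := by
      have : Finite (C₀ : Subgroup (G ⧸ Z)) := inferInstance
      exact Finite.of_equiv _ (C₀.equivMapOfInjective e.toMonoidHom e.injective).toEquiv
    have h5 : Finite (ConjClasses (C₀.map e.toMonoidHom)) :=
      Finite.of_surjective _ (ConjClasses.mk_surjective (α := C₀.map e.toMonoidHom))
    exact Nat.card_le_card_of_surjective _
      (ConjClasses.map_surjective (f := (C₀.equivMapOfInjective e.toMonoidHom e.injective).symm.toMonoidHom)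
        (C₀.equivMapOfInjective e.toMonoidHom e.injective).symm.surjective)

/-- **The centralizer count.** -/
theorem nb_of_cent_f {p m : ℕ} (hp : p.Prime) (hpm : ¬ p ∣ m) {S : Type u} [Group S] {y : S} {n : ℕ}
    (hy : orderOf y = p ^ n) {f : ℕ} (hf : Cnt.{u} f m S)
    (hlt : Nat.card (centralizer ({y} : Set S)) < f) : NB p m S := by
  have : Fact p.Prime := ⟨hp⟩
  refine nb_of_quot fun G _ _ Z _ hZ e hm hperf c hcinj => ?_
  refine exists_dvd_quot_f hZ (hm ▸ hpm) (y := e.symm y) (n := n) ?_ c (hf G Z hZ e hm hperf c hcinj) ?_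
  · rw [← hy]
    exact orderOf_injective e.symm.toMonoidHom e.symm.injective y
  · rw [card_centralizer_congr e.symm y]
    exact hlt


/-! ### good elements -/

open Cfsg.Agent.H51.Mult Cfsg.Agent.H990.TC

/-- good in every perfect central extension with kernel of order `m` -/
def LGood (m : ℕ) {K : Type v} [Group K] (g : K) : Prop :=
  ∀ (E : Type u) [Group E] [Finite E] (π : E →* K), PCE π → Nat.card π.ker = m →
    ∀ c y : E, π y = g → π (c * y) = π (y * c) → c * y = y * c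

/-- **Counting with a list of elements.** -/
theorem cnt_of_list {m : ℕ} {K : Type v} [Group K] {S : Type u} [Group S] (e : S ≃* K) (L : List K)
    (hL : L.Pairwise fun a b => ¬ IsConj a b) (hg : ∀ g ∈ L, LGood.{u, v} m g) : Cnt L.length m S := by
  classical
  intro G _ _ Z _ hZ i hm hperf c _
  rw [card_over hZ c, card_good hZ c]
  let ι : (G ⧸ Z) ≃* K := i.trans e
  let π : G →* K := ι.toMonoidHom.comp (QuotientGroup.mk' Z)
  have hker : π.ker = Z := by
    ext x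
    rw [MonoidHom.mem_ker]
    show ι (QuotientGroup.mk' Z x) = 1 ↔ _
    rw [map_eq_one_iff ι ι.injective]
    exact QuotientGroup.eq_one_iff x
  have hπ : PCE π := ⟨ι.surjective.comp (QuotientGroup.mk'_surjective Z), hker.le.trans hZ, hperf⟩
  have hcard : Nat.card π.ker = m := by rw [hker, hm]
  have hfin : Finite {C : ConjClasses (G ⧸ Z) // ∃ g : G, ConjClasses.mk (g : G ⧸ Z) = C ∧ Good Z c g} := by
    have : Finite (ConjClasses (G ⧸ Z)) := Finite.of_surjective _ (ConjClasses.mk_surjective (α := G ⧸ Z))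
    exact Subtype.finite
  -- the classes
  have key : ∀ k : Fin L.length, ∃ g : G, π g = L.get k := fun k => hπ.surj _
  choose y hy using key
  have hgood : ∀ k, Good Z c (y k) := by
    intro k x hx
    have h1 : π (x⁻¹ * (y k)⁻¹ * x * y k) = 1 := by
      rw [← hker] at hx
      exact hx
    have h2 : π (x * y k) = π (y k * x) := by
      have h3 : y k * x * (x⁻¹ * (y k)⁻¹ * x * y k) = x * y k := by group
      rw [← h3, map_mul, h1, mul_one]
    have h4 := hg _ (List.get_mem L k) G π hπ hcard x (y k) (hy k) h2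
    have h5 : x⁻¹ * (y k)⁻¹ * x * y k = 1 := by
      calc x⁻¹ * (y k)⁻¹ * x * y k = x⁻¹ * (y k)⁻¹ * (x * y k) := by group
        _ = 1 := by rw [h4]; group
    have h6 : (⟨x⁻¹ * (y k)⁻¹ * x * y k, hx⟩ : Z) = 1 := Subtype.ext h5
    rw [h6, map_one]
  have hinj : Function.Injective fun k : Fin L.length =>
      (⟨ConjClasses.mk ((y k : G) : G ⧸ Z), y k, rfl, hgood k⟩ :
        {C : ConjClasses (G ⧸ Z) // ∃ g : G, ConjClasses.mk (g : G ⧸ Z) = C ∧ Good Z c g}) := by
    intro k l hkl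
    by_contra hne
    have h1 : IsConj ((y k : G) : G ⧸ Z) ((y l : G) : G ⧸ Z) :=
      ConjClasses.mk_eq_mk_iff_isConj.1 (congrArg Subtype.val hkl)
    obtain ⟨d, hd⟩ := isConj_iff.1 h1
    have h2 : IsConj (L.get k) (L.get l) := by
      refine isConj_iff.2 ⟨ι d, ?_⟩
      have h3 := congrArg ι hd
      rw [map_mul, map_mul, map_inv] at h3
      rw [← hy k, ← hy l]
      exact h3
    rcases lt_or_gt_of_ne hne with h3 | h3
    · exact (List.pairwise_iff_get.1 hL k l h3) h2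
    · exact (List.pairwise_iff_get.1 hL l k h3) h2.symm
  have h1 := Nat.card_le_card_of_injective _ hinj
  rwa [Nat.card_fin] at h1

/-- **The order of the commutators, from another extension.** -/
theorem pow_of_good {K : Type v} [Group K] {A : Type*} [CommGroup A] (hM : Cfsg.HasSchurMultiplier K A)
    {L : Type*} [Group L] {σ : L →* K} (hσ : PCE σ) {g : K}
    (hgd : ∀ c y : L, σ y = g → σ (c * y) = σ (y * c) → c * y = y * c) {n : ℕ}
    (hn : Nat.card A ∣ Nat.card σ.ker * n) (hn0 : Nat.card σ.ker ≠ 0)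
    {E : Type*} [Group E] {π : E →* K} (hπ : PCE π) {c y : E} (hy : π y = g) (hcy : π (c * y) = π (y * c)) :
    (c * y * c⁻¹ * y⁻¹) ^ n = 1 := by
  obtain ⟨D, _, f, f', hf, hf', hff, hD, -⟩ := Cfsg.Agent.H68.Bounds.exists_common hσ hπ
  obtain ⟨c, rfl⟩ := hf'.surj c
  obtain ⟨y, rfl⟩ := hf'.surj y
  have hh : ∀ d, σ (f d) = π (f' d) := fun d => DFunLike.congr_fun hff d
  have h1 := card_ker_dvd hM hD
  rw [Cfsg.Agent.H68.Bounds.card_ker_comp hf.surj] at h1
  have h2 : Nat.card f.ker ∣ n := by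
    have h3 := h1.trans hn
    exact Nat.dvd_of_mul_dvd_mul_left (Nat.pos_of_ne_zero hn0) h3
  have h3 : f (c * y * c⁻¹ * y⁻¹) = 1 := by
    have h4 := hgd (f c) (f y) (by rw [hh]; exact hy) (by
      rw [← map_mul, ← map_mul, hh, hh, map_mul f', map_mul f']
      exact hcy)
    rw [map_mul, map_mul, map_mul, map_inv, map_inv, h4]
    group
  have h4 : (⟨c * y * c⁻¹ * y⁻¹, h3⟩ : f.ker) ^ n = 1 := by
    obtain ⟨k, hk⟩ := h2
    rw [hk, pow_mul, pow_card_eq_one', one_pow]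
  have h5 : (c * y * c⁻¹ * y⁻¹) ^ n = 1 := congrArg Subtype.val h4
  have h6 := congrArg f' h5
  rw [map_pow, map_one] at h6
  simpa only [map_mul, map_inv] using h6

end Cfsg.Agent.H878.RIM
end

-- part: H878/RIM/KTwo
section
/-!
# S4816, `Fi22`: good elements of `2.Fi22` (helper878)

`2.Fi22` is the centralizer `K` of a transposition of `Fi23`. `G2 g`: the elements of `K` whose images commute with `g`
commute with the lifts of `g`.
* `g2_T`, `g2_pair` : transpositions and products of two commuting transpositions;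
* `g2_pow` : `g` is good if an odd power is.
-/

set_option autoImplicit false
set_option linter.unusedSectionVars false

namespace Cfsg.Agent.H878.RIM.KTwo

open Cfsg Cfsg.Spor Subgroup
open Cfsg.Agent.H51.Mult
open Cfsg.Agent.Fischer.Fi23Class (K)
open Cfsg.Agent.R08.FiTwentyThree (pi ext lifted S zK pi_surjective pi_ker central zz zK_ne perfect N mem_N)
open Cfsg.Agent.R01 (Fi22Facts.T)

theorem ker_eq : pi.ker = N := by
  ext x
  rw [MonoidHom.mem_ker, pi_ker, mem_N]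

theorem ker_le : pi.ker ≤ center K := by
  intro x hx
  rw [mem_center_iff]
  intro g
  rcases (pi_ker x).1 hx with rfl | rfl
  · rw [mul_one, one_mul]
  · exact (central g).symm

theorem pce : PCE _root_.Cfsg.Agent.R08.FiTwentyThree.pi := ⟨pi_surjective, ker_le, perfect⟩

theorem card_ker : Nat.card pi.ker = 2 := by
  rw [ker_eq]
  show Nat.card (Subgroup.zpowers zK) = 2
  rw [Nat.card_zpowers]
  exact orderOf_eq_prime (by rw [pow_two]; exact zz) zK_ne

/-- good in `2.Fi22` -/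
def G2 (g : Fi22) : Prop := ∀ c y : K, _root_.Cfsg.Agent.R08.FiTwentyThree.pi y = g → _root_.Cfsg.Agent.R08.FiTwentyThree.pi (c * y) = _root_.Cfsg.Agent.R08.FiTwentyThree.pi (y * c) → c * y = y * c

theorem eq_or {x y : K} (h : _root_.Cfsg.Agent.R08.FiTwentyThree.pi x = _root_.Cfsg.Agent.R08.FiTwentyThree.pi y) : x = y ∨ x = y * zK := (ext.map_eq).1 h

/-- the lift does not matter -/
theorem comm_lift {c x y : K} (h : _root_.Cfsg.Agent.R08.FiTwentyThree.pi y = _root_.Cfsg.Agent.R08.FiTwentyThree.pi x) (hc : c * x = x * c) : c * y = y * c := by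
  rcases eq_or h with rfl | rfl
  · exact hc
  · rw [← mul_assoc, hc, mul_assoc, ← central, ← mul_assoc]

theorem g2_one : G2 1 := by
  intro c y hy _
  exact comm_lift (x := 1) (by rw [hy, map_one]) (by rw [mul_one, one_mul])

theorem g2_T {t : Fi22} (ht : t ∈ Fi22Facts.T) : G2 t := by
  intro c y hy hc
  obtain ⟨x, hx, rfl⟩ := lifted.surj t ht
  refine comm_lift hy ?_
  have h1 : _root_.Cfsg.Agent.R08.FiTwentyThree.pi (c * x * c⁻¹) = _root_.Cfsg.Agent.R08.FiTwentyThree.pi x := by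
    rw [map_mul, map_mul, map_inv, ← hy, ← map_mul, hc, map_mul, mul_inv_cancel_right]
  have h2 := lifted.inj _ (lifted.conj c x hx) _ hx h1
  exact mul_inv_eq_iff_eq_mul.1 h2

theorem inv22 : Cfsg.Agent.H836.Inv Spor.Fi22 Fi22Facts.T := by
  have h := Cfsg.Agent.H836.inv_of_iso (MulEquiv.refl Spor.Fi22)
  have e : Cfsg.Agent.KFacts.FiTT.TK (MulEquiv.refl Spor.Fi22) = Fi22Facts.T := by
    ext x
    constructor
    · rintro ⟨y, hy, h1⟩
      have h2 : y = x := h1
      rw [← h2]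
      exact hy
    · intro hx
      exact ⟨x, hx, rfl⟩
  rw [e] at h
  exact h

theorem g2_pair {a b : Fi22} (ha : a ∈ Fi22Facts.T) (hb : b ∈ Fi22Facts.T) (hab : a ≠ b) (hc : a * b = b * a) :
    G2 (a * b) := by
  intro c y hy hcy
  obtain ⟨x, hx, rfl⟩ := lifted.surj a ha
  obtain ⟨x', hx', rfl⟩ := lifted.surj b hb
  have hxx := lifted.comm x hx x' hx' hc
  refine comm_lift (x := x * x') (by rw [hy, map_mul]) ?_
  have h0 : _root_.Cfsg.Agent.R08.FiTwentyThree.pi c * (_root_.Cfsg.Agent.R08.FiTwentyThree.pi x * _root_.Cfsg.Agent.R08.FiTwentyThree.pi x') = _root_.Cfsg.Agent.R08.FiTwentyThree.pi x * _root_.Cfsg.Agent.R08.FiTwentyThree.pi x' * _root_.Cfsg.Agent.R08.FiTwentyThree.pi c := by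
    rw [← hy, ← map_mul, hcy, map_mul]
  suffices h : c * (x * x') * c⁻¹ = x * x' from mul_inv_eq_iff_eq_mul.1 h
  have e : c * (x * x') * c⁻¹ = (c * x * c⁻¹) * (c * x' * c⁻¹) := by group
  rw [e]
  rcases inv22.ctx.cz _ ha _ hb hab hc (_root_.Cfsg.Agent.R08.FiTwentyThree.pi c) h0 with ⟨h1, h2⟩ | ⟨h1, h2⟩
  · have k1 := lifted.inj _ (lifted.conj c x hx) _ hx (by
      rw [map_mul, map_mul, map_inv, h1, mul_inv_cancel_right])
    have k2 := lifted.inj _ (lifted.conj c x' hx') _ hx' (by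
      rw [map_mul, map_mul, map_inv, h2, mul_inv_cancel_right])
    rw [k1, k2]
  · have k1 := lifted.inj _ (lifted.conj c x hx) _ hx' (by
      rw [map_mul, map_mul, map_inv, h1])
    have k2 := lifted.inj _ (lifted.conj c x' hx') _ hx (by
      rw [map_mul, map_mul, map_inv, h2])
    rw [k1, k2, hxx]

theorem g2_pow {g : Fi22} {n : ℕ} (hn : Odd n) (h : G2 (g ^ n)) : G2 g := by
  intro c y hy hc
  have hz : _root_.Cfsg.Agent.R08.FiTwentyThree.pi (y⁻¹ * (c * y * c⁻¹)) = 1 := by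
    rw [map_mul, map_mul, hc, map_mul, map_inv, map_inv, mul_inv_cancel_right, inv_mul_cancel]
  have hconj : c * y * c⁻¹ = y * (y⁻¹ * (c * y * c⁻¹)) := by group
  rcases (pi_ker _).1 hz with h1 | h1
  · rw [h1, mul_one] at hconj
    exact mul_inv_eq_iff_eq_mul.1 hconj
  · exfalso
    rw [h1] at hconj
    have h2 : Commute y zK := (central y).symm
    have h3 : c * y ^ n * c⁻¹ = y ^ n * zK := by
      obtain ⟨k, rfl⟩ := hn
      rw [← conj_pow, hconj, h2.mul_pow, pow_add zK, pow_mul, pow_two, zz, one_pow, one_mul, pow_one]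
    have h4 : c * y ^ n = y ^ n * c := by
      refine h c (y ^ n) (by rw [map_pow, hy]) ?_
      have h5 : _root_.Cfsg.Agent.R08.FiTwentyThree.pi c * _root_.Cfsg.Agent.R08.FiTwentyThree.pi y = _root_.Cfsg.Agent.R08.FiTwentyThree.pi y * _root_.Cfsg.Agent.R08.FiTwentyThree.pi c := by rw [← map_mul, hc, map_mul]
      rw [map_mul, map_mul, map_pow]
      exact (Commute.pow_right (show Commute (_root_.Cfsg.Agent.R08.FiTwentyThree.pi c) (_root_.Cfsg.Agent.R08.FiTwentyThree.pi y) from h5) n)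
    rw [h4, mul_inv_cancel_right] at h3
    exact zK_ne (mul_left_cancel (a := y ^ n) (by rw [← h3, mul_one]))

end Cfsg.Agent.H878.RIM.KTwo
end

-- part: H878/RIM/KThree
section
/-!
# S4816, `Fi22`: good elements of `3.Fi22` (helper878)

`G3 g`: the elements of `3.Fi22` whose images commute with `g` commute with the lifts of `g`.
* `g3_of_chk` : the traces over `F_2` of the lifts (matrices of degree 54) are not all equal;
* `g3_pow` : `g` is good if a power with exponent prime to three is.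
-/

set_option autoImplicit false
set_option linter.unusedSectionVars false

namespace Cfsg.Agent.H878.RIM.KThree

open Cfsg Cfsg.Spor Subgroup Cfsg.Agent.Lib Cfsg.Agent.Lib.F2Mat Cfsg.Agent.Lib.F2MatGroup
open Cfsg.Agent.H922.QS.FiThree Cfsg.Agent.Fischer

/-! ### central extensions with a kernel of order three -/

section abs

variable {G H : Type*} [Group G] [Group H] {π : G →* H} {s : G}

theorem abs_lift (hk : ∀ x y : G, π y = π x → ∃ i, i < 3 ∧ y = x * s ^ i) (hs : ∀ g : G, s * g = g * s) {c x y : G}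
    (h : π y = π x) (hc : c * x = x * c) : c * y = y * c := by
  obtain ⟨i, -, rfl⟩ := hk x y h
  have h1 : s ^ i * c = c * s ^ i := ((show Commute s c from hs c).pow_left i).eq
  rw [← mul_assoc, hc, mul_assoc, mul_assoc, h1]

theorem abs_pow (hk : ∀ x y : G, π y = π x → ∃ i, i < 3 ∧ y = x * s ^ i) (hs : ∀ g : G, s * g = g * s)
    (hos : orderOf s = 3) {g : H} {n : ℕ} (hn : n % 3 ≠ 0)
    (h : ∀ c y : G, π y = g ^ n → π (c * y) = π (y * c) → c * y = y * c) :
    ∀ c y : G, π y = g → π (c * y) = π (y * c) → c * y = y * c := by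
  intro c y hy hc
  have h0 : π (c * y * c⁻¹) = π y := by
    rw [map_mul, hc, map_mul, map_inv, mul_inv_cancel_right]
  obtain ⟨i, hi, h1⟩ := hk _ _ h0
  have hcom : Commute y (s ^ i) := (show Commute y s from (hs y).symm).pow_right i
  have h2 : c * y ^ n * c⁻¹ = y ^ n * s ^ (i * n) := by
    rw [← conj_pow, h1, hcom.mul_pow, ← pow_mul]
  have h3 : c * y ^ n = y ^ n * c := by
    refine h c (y ^ n) (by rw [map_pow, hy]) ?_
    have h5 : π c * π y = π y * π c := by rw [← map_mul, hc, map_mul]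
    rw [map_mul, map_mul, map_pow]
    exact (Commute.pow_right (show Commute (π c) (π y) from h5) n)
  rw [h3, mul_inv_cancel_right] at h2
  have h4 : s ^ (i * n) = 1 := left_eq_mul.1 h2
  have h5 : 3 ∣ i * n := by
    rw [← hos]
    exact orderOf_dvd_of_pow_eq_one h4
  have h6 : 3 ∣ i := by
    rcases (Nat.Prime.dvd_mul Nat.prime_three).1 h5 with h7 | h7
    · exact h7
    · exact absurd (Nat.mod_eq_zero_of_dvd h7) hn
  have h7 : i = 0 := by omega
  rw [h7, pow_zero, mul_one] at h1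
  exact mul_inv_eq_iff_eq_mul.1 h1

theorem abs_trc (hk : ∀ x y : G, π y = π x → ∃ i, i < 3 ∧ y = x * s ^ i) (hs : ∀ g : G, s * g = g * s)
    (hs3 : s ^ 3 = 1) {R : Type*} {τ : G → R} (hτ : ∀ c x : G, τ (c * x * c⁻¹) = τ x) {x : G}
    (h : ¬ (τ x = τ (x * s) ∧ τ x = τ (x * s ^ 2))) :
    ∀ c y : G, π y = π x → π (c * y) = π (y * c) → c * y = y * c := by
  intro c y hy hc
  refine abs_lift hk hs hy ?_
  have hc' : π c * π x = π x * π c := by
    rw [← hy, ← map_mul, hc, map_mul]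
  have h0 : π (c * x * c⁻¹) = π x := by
    rw [map_mul, map_mul, hc', map_inv, mul_inv_cancel_right]
  obtain ⟨i, hi, h1⟩ := hk _ _ h0
  have key : ∀ z : G, (∀ g : G, z * g = g * z) → τ (x * z) = τ (x * (s ^ i * z)) := by
    intro z hz
    rw [← mul_assoc, ← h1, ← hτ c (x * z)]
    congr 1
    rw [mul_assoc c, mul_assoc x, hz, ← mul_assoc, ← mul_assoc]
  have k0 := key 1 (fun g => by rw [one_mul, mul_one])
  have k1 := key (s ^ i) (fun g => ((show Commute s g from hs g).pow_left i).eq)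
  rw [mul_one, mul_one] at k0
  interval_cases i
  · rw [pow_zero, mul_one] at h1
    exact mul_inv_eq_iff_eq_mul.1 h1
  · exfalso
    apply h
    rw [pow_one] at k0 k1
    exact ⟨k0, k0.trans (k1.trans (by rw [pow_two]))⟩
  · exfalso
    apply h
    have e : s ^ 2 * s ^ 2 = s := by
      rw [← pow_add, show 2 + 2 = 3 + 1 by rfl, pow_add, hs3, one_mul, pow_one]
    rw [e] at k1
    exact ⟨k0.trans k1, k0⟩

end abs

/-- good in `3.Fi22` -/
def G3 (g : Fi22) : Prop := ∀ c y : K3, pi3 y = g → pi3 (c * y) = pi3 (y * c) → c * y = y * c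

theorem exists_om (x y : K3) (h : pi3 y = pi3 x) : ∃ i, i < 3 ∧ y = x * om3 ^ i := by
  have h1 : x⁻¹ * y ∈ pi3.ker := by rw [MonoidHom.mem_ker, map_mul, map_inv, h, inv_mul_cancel]
  rw [ker3, ← mem_powers_iff_mem_zpowers] at h1
  obtain ⟨i, hi⟩ := h1
  have h2 : om3 ^ i = x⁻¹ * y := hi
  refine ⟨i % 3, Nat.mod_lt _ (by norm_num), ?_⟩
  have h3 : om3 ^ (i % 3) = om3 ^ i := by
    conv_lhs => rw [← order_om3]
    exact pow_mod_orderOf om3 i
  rw [h3, h2, mul_inv_cancel_left]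

theorem g3_one : G3 1 := by
  intro c y hy _
  exact abs_lift (x := 1) exists_om om3_comm (by rw [hy, map_one]) (by rw [mul_one, one_mul])

/-- a power with exponent prime to three -/
theorem g3_pow {g : Fi22} {n : ℕ} (hn : n % 3 ≠ 0) (h : G3 (g ^ n)) : G3 g :=
  abs_pow exists_om om3_comm order_om3 hn h

/-! ### traces -/

/-- the trace -/
noncomputable def trc (x : K3) : ZMod 2 :=
  Matrix.trace (((x : K3) : GL (Fin 54) (ZMod 2)) : Matrix (Fin 54) (Fin 54) (ZMod 2))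

theorem trc_conj (c x : K3) : trc (c * x * c⁻¹) = trc x := by
  unfold trc
  rw [Subgroup.coe_mul, Subgroup.coe_mul, Units.val_mul, Units.val_mul, Matrix.trace_mul_cycle, ← Units.val_mul,
    ← Subgroup.coe_mul, inv_mul_cancel, Subgroup.coe_one, Units.val_one, one_mul]

theorem g3_of_trc {x : K3} (h : ¬ (trc x = trc (x * om3) ∧ trc x = trc (x * om3 ^ 2))) : G3 (pi3 x) :=
  abs_trc exists_om om3_comm om3_cube trc_conj h

/-- the matrix of a word -/
def mat3 (w : List Fi22.Gen) : ℕ :=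
  List.rec (F2Mat.one 54) (fun y _ ih => force ih fun q => F2Mat.mul 54 (m3 y) q) w

theorem mat3_cons (y : Fi22.Gen) (w : List Fi22.Gen) : mat3 (y :: w) = F2Mat.mul 54 (m3 y) (mat3 w) :=
  force_eq (mat3 w) fun q => F2Mat.mul 54 (m3 y) q

theorem codes_mat3 : ∀ w : List Fi22.Gen, Codes 54 ((wd3 w : K3) : GL (Fin 54) (ZMod 2)) (mat3 w)
  | [] => by
    rw [wd3_nil, Subgroup.coe_one]
    exact Codes.one 54
  | y :: w => by
    rw [wd3_cons, Subgroup.coe_mul, mat3_cons]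
    exact (codes_x3 y).mul (codes_mat3 w)

/-- the trace of a coded matrix -/
def trB (A : ℕ) (n : ℕ) : Bool :=
  Nat.rec false (fun i ih => Bool.xor ih (Nat.beq (Nat.land (Nat.shiftRight A (Nat.mul 55 i)) 1) 1)) n

theorem bz_xor' (a b : Bool) : bz (Bool.xor a b) = bz a + bz b := by
  cases a <;> cases b <;> rfl

theorem trB_eq (A : ℕ) : ∀ n : ℕ, bz (trB A n) = ∑ i ∈ Finset.range n, bz (A.testBit (55 * i))
  | 0 => rfl
  | n + 1 => by
    rw [Finset.sum_range_succ, ← trB_eq A n]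
    have e : trB A (n + 1) = Bool.xor (trB A n) (Nat.beq (Nat.land (Nat.shiftRight A (Nat.mul 55 n)) 1) 1) := rfl
    rw [e, bz_xor']
    congr 2
    have h0 : Nat.land (Nat.shiftRight A (Nat.mul 55 n)) 1 = (A >>> (55 * n)) &&& 1 := rfl
    rw [h0, Nat.and_one_is_mod]
    rw [Bool.eq_iff_iff, Nat.beq_eq]
    have h1 : A.testBit (55 * n) = (A >>> (55 * n)).testBit 0 := by
      rw [Nat.testBit_shiftRight, Nat.add_zero]
    rw [h1, Nat.testBit_zero, decide_eq_true_eq]

theorem trace_toMat (A : ℕ) : Matrix.trace (toMat 54 A) = bz (trB A 54) := by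
  rw [trB_eq, Finset.sum_range]
  unfold Matrix.trace
  refine Finset.sum_congr rfl fun i _ => ?_
  rw [Matrix.diag_apply, toMat_apply]
  congr 2
  omega

theorem trc_eq {x : K3} {A : ℕ} (h : Codes 54 ((x : K3) : GL (Fin 54) (ZMod 2)) A) : trc x = bz (trB A 54) := by
  unfold trc
  unfold Codes at h
  rw [h, trace_toMat]

/-- the traces of the three lifts are not equal -/
def chkT (w : List Fi22.Gen) : Bool :=
  force (mat3 w) fun A => force (F2Mat.mul 54 A mS) fun B => force (F2Mat.mul 54 B mS) fun C =>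
    Bool.or (Bool.xor (trB A 54) (trB B 54)) (Bool.xor (trB A 54) (trB C 54))

theorem g3_of_chk {w : List Fi22.Gen} (h : chkT w = true) : G3 (Fi22PtsRep.wd w) := by
  rw [← pi3_wd3]
  apply g3_of_trc
  unfold chkT at h
  rw [force_eq, force_eq, force_eq] at h
  have hA := codes_mat3 w
  have hB := hA.mul codes_om3
  have hC := hB.mul codes_om3
  rw [← Subgroup.coe_mul] at hB hC
  rw [← Subgroup.coe_mul] at hC
  rw [mul_assoc, ← pow_two] at hC
  rw [trc_eq hA, trc_eq hB, trc_eq hC]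
  rintro ⟨h1, h2⟩
  have h3 := bz_inj h1
  have h4 := bz_inj h2
  rw [← h3, ← h4] at h
  simp at h

end Cfsg.Agent.H878.RIM.KThree
end

-- part: H878/RIM/FiTool
section
/-!
# S4816, `Fi22`: tools (helper878)

* `key` : two invariants of the classes of `Fi22` under `Fi22 : 2`;
* `g2_of`, `g3_of` : good elements of `2.Fi22`, `3.Fi22` by words;
* `lgood_two`, `lgood_three`, `lgood_six` : good in every perfect central extension;
* `nball_of` : the kernels of order 2, 3, 6.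
-/

set_option autoImplicit false
set_option linter.unusedSectionVars false
set_option maxRecDepth 100000
set_option exponentiation.threshold 5000

namespace Cfsg.Agent.H878.RIM.Fi

open Cfsg Cfsg.Spor Subgroup Cfsg.Agent.H123.Cls Cfsg.Agent.H123.Cls.FiDat
open Cfsg.Agent.H494.F22 (A N N_le_Aut rho rp)
open Cfsg.Agent.H494.F22.Row (row)
open Cfsg.Agent.H326.QS.FiRow (cw el_cw chkE el_eq_of_chkE)
open Cfsg.Agent.H878.RIM Cfsg.Agent.H878.RIM.KTwo Cfsg.Agent.H878.RIM.KThree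
open Cfsg.Agent.H51.Mult Cfsg.Agent.H990.TC
open Cfsg.Agent.H665.RIM

universe u

/-! ### keys -/

/-- the invariants -/
noncomputable def key (g : Spor.Fi22) : List ℕ := keys.map (pj row (rho g))

theorem key_conj {g h : Spor.Fi22} (hc : IsConj g h) : key g = key h := by
  obtain ⟨c, rfl⟩ := isConj_iff.1 hc
  unfold key
  refine List.map_congr_left fun k _ => ?_
  rw [map_mul, map_mul, map_inv, pj_conj (N_le_Aut ⟨c, rfl⟩)]

theorem key_of {P : ℕ} {a b s : List ℕ} (h1 : chkC 3510 12 gens P a b = true)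
    (h2 : chkKey 3510 12 row 12 P keys s = true) (hl : s.length = keys.length) : key (el (cw a b)) = s := by
  unfold key
  rw [el_cw]
  exact key_of_chk (by norm_num) (fun i => comm_tab h1 i) h2 hl

/-! ### words -/

theorem el_rp (w : List ℕ) : ∀ n : ℕ, el (rp n w) = el w ^ n
  | 0 => by rw [pow_zero]; rfl
  | n + 1 => by
    have e : rp (n + 1) w = w ++ rp n w := rfl
    rw [e, el_append, el_rp w n, pow_succ']

theorem gn_mem (x : ℕ) : (PresentedGroup.of (gn x) : Spor.Fi22) ∈ Cfsg.Agent.R01.Fi22Facts.T :=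
  Cfsg.Agent.R01.Fi22Facts.gen_mem (gn x)

theorem mem_T (v : List ℕ) (x : ℕ) : el (v ++ x :: v.reverse) ∈ Cfsg.Agent.R01.Fi22Facts.T := by
  rw [el_append, el_cons, el_reverse, ← mul_assoc]
  exact IsConj.trans (gn_mem x) (isConj_iff.2 ⟨el v, rfl⟩)

theorem g2_nil : G2 (el []) := g2_one

theorem g2_tr (v : List ℕ) (x : ℕ) : G2 (el (v ++ x :: v.reverse)) := g2_T (mem_T v x)

theorem g2_tw (v : List ℕ) (x : ℕ) (v' : List ℕ) (x' : ℕ)
    (h : chkE ((v ++ x :: v.reverse) ++ (v' ++ x' :: v'.reverse))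
      ((v' ++ x' :: v'.reverse) ++ (v ++ x :: v.reverse)) = true) :
    G2 (el ((v ++ x :: v.reverse) ++ (v' ++ x' :: v'.reverse))) := by
  have h1 := el_eq_of_chkE h
  rw [el_append (v ++ x :: v.reverse) (v' ++ x' :: v'.reverse),
    el_append (v' ++ x' :: v'.reverse) (v ++ x :: v.reverse)] at h1
  rw [el_append (v ++ x :: v.reverse) (v' ++ x' :: v'.reverse)]
  by_cases h2 : el (v ++ x :: v.reverse) = el (v' ++ x' :: v'.reverse)
  · rw [← h2, inv22.ctx.sq _ (mem_T v x)]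
    exact g2_one
  · exact g2_pair (mem_T v x) (mem_T v' x') h2 h1

/-- good in `2.Fi22` by an odd power -/
theorem g2_of {w : List ℕ} (n : ℕ) (hn : n % 2 = 1) {v : List ℕ} (hv : G2 (el v)) (h : chkE (rp n w) v = true) :
    G2 (el w) := by
  refine g2_pow (Nat.odd_iff.2 hn) ?_
  rw [← el_rp, el_eq_of_chkE h]
  exact hv

/-- good in `3.Fi22` by a power prime to three -/
theorem g3_of {w : List ℕ} (n : ℕ) (hn : n % 3 ≠ 0) (h : chkE (rp n w) [] = true) : G3 (el w) := by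
  refine g3_pow hn ?_
  rw [← el_rp, el_eq_of_chkE h]
  exact g3_one

/-- good in `3.Fi22` by the traces -/
theorem g3_tr {w : List ℕ} (h : chkT (w.map gn) = true) : G3 (el w) := by
  have h1 := g3_of_chk h
  have e : Cfsg.Agent.Fischer.Fi22PtsRep.wd (w.map gn) = el w := by
    unfold Cfsg.Agent.Fischer.Fi22PtsRep.wd el
    rw [List.map_map]
    congr 1
  rwa [e] at h1

/-- good in `3.Fi22` by the traces of a power -/
theorem g3_trp {w : List ℕ} (n : ℕ) (hn : n % 3 ≠ 0) (h : chkT ((rp n w).map gn) = true) : G3 (el w) := by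
  refine g3_pow hn ?_
  rw [← el_rp]
  exact g3_tr h

/-! ### all perfect central extensions -/

theorem hM : Cfsg.HasSchurMultiplier Spor.Fi22 (Multiplicative (ZMod 6)) := Cfsg.Agent.S2053.result

theorem pow_two_ext {g : Spor.Fi22} (h : G2 g) {E : Type*} [Group E] {π : E →* Spor.Fi22} (hπ : PCE π) {c y : E}
    (hy : π y = g) (hcy : π (c * y) = π (y * c)) : (c * y * c⁻¹ * y⁻¹) ^ 3 = 1 :=
  pow_of_good hM KTwo.pce (g := g) h (n := 3)
    (by rw [KTwo.card_ker, Cfsg.Agent.H326.QS.FiRow.card6]) (by rw [KTwo.card_ker]; norm_num) hπ hy hcy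

theorem pow_three_ext {g : Spor.Fi22} (h : G3 g) {E : Type*} [Group E] {π : E →* Spor.Fi22} (hπ : PCE π) {c y : E}
    (hy : π y = g) (hcy : π (c * y) = π (y * c)) : (c * y * c⁻¹ * y⁻¹) ^ 2 = 1 :=
  pow_of_good hM Cfsg.Agent.H922.QS.FiThree.pce3 (g := g) h (n := 2)
    (by rw [Cfsg.Agent.H922.QS.FiThree.card_ker3, Cfsg.Agent.H326.QS.FiRow.card6])
    (by rw [Cfsg.Agent.H922.QS.FiThree.card_ker3]; norm_num) hπ hy hcy

theorem pow_card {E : Type*} [Group E] {π : E →* Spor.Fi22} {c y : E} (hcy : π (c * y) = π (y * c)) :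
    (c * y * c⁻¹ * y⁻¹) ^ Nat.card π.ker = 1 := by
  have h1 : c * y * c⁻¹ * y⁻¹ ∈ π.ker := by
    rw [MonoidHom.mem_ker, map_mul, map_mul, hcy, map_mul, map_inv, map_inv, mul_inv_cancel_right, mul_inv_cancel]
  have h2 : (⟨_, h1⟩ : π.ker) ^ Nat.card π.ker = 1 := pow_card_eq_one'
  exact congrArg Subtype.val h2

theorem eq_of_pow {E : Type*} [Group E] {c y : E} (h2 : (c * y * c⁻¹ * y⁻¹) ^ 2 = 1) (h3 : (c * y * c⁻¹ * y⁻¹) ^ 3 = 1) :
    c * y = y * c := by
  have h1 : c * y * c⁻¹ * y⁻¹ = 1 := by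
    rw [pow_succ, h2, one_mul] at h3
    exact h3
  have h4 : c * y * c⁻¹ = y := mul_inv_eq_one.1 h1
  exact mul_inv_eq_iff_eq_mul.1 h4

theorem lgood_two {g : Spor.Fi22} (h : G2 g) : LGood.{u, 0} 2 g := by
  intro E _ _ π hπ hcard c y hy hcy
  have h1 := pow_card (π := π) hcy
  rw [hcard] at h1
  exact eq_of_pow h1 (pow_two_ext h hπ hy hcy)

theorem lgood_three {g : Spor.Fi22} (h : G3 g) : LGood.{u, 0} 3 g := by
  intro E _ _ π hπ hcard c y hy hcy
  have h1 := pow_card (π := π) hcy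
  rw [hcard] at h1
  exact eq_of_pow (pow_three_ext h hπ hy hcy) h1

theorem lgood_six {g : Spor.Fi22} (h : G2 g) (h' : G3 g) : LGood.{u, 0} 6 g := by
  intro E _ _ π hπ _ c y hy hcy
  exact eq_of_pow (pow_three_ext h' hπ hy hcy) (pow_two_ext h hπ hy hcy)

/-- the kernels have order 2, 3 or 6 -/
theorem nball_of {p : ℕ} {S : Type u} [Group S] (e : S ≃* Spor.Fi22) (h2 : ¬ p ∣ 2 → NB p 2 S)
    (h3 : ¬ p ∣ 3 → NB p 3 S) (h6 : ¬ p ∣ 6 → NB p 6 S) : NBall p S := by
  intro m hm hpm E _ _ π hπ hcen hperf hcard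
  have hP : PCE (e.toMonoidHom.comp π) := by
    refine ⟨e.surjective.comp hπ, ?_, hperf⟩
    intro x hx
    apply hcen
    rw [MonoidHom.mem_ker] at hx ⊢
    exact (map_eq_one_iff e e.injective).1 hx
  have hk : (e.toMonoidHom.comp π).ker = π.ker := by
    ext x
    rw [MonoidHom.mem_ker, MonoidHom.mem_ker]
    exact map_eq_one_iff e e.injective
  have h1 := card_ker_dvd hM hP
  rw [hk, hcard, Cfsg.Agent.H326.QS.FiRow.card6] at h1
  have h4 : m ≤ 6 := Nat.le_of_dvd (by norm_num) h1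
  have h5 : m = 2 ∨ m = 3 ∨ m = 6 := by
    interval_cases m
    · exact Or.inl rfl
    · exact Or.inr (Or.inl rfl)
    · exact absurd h1 (by norm_num)
    · exact absurd h1 (by norm_num)
    · exact Or.inr (Or.inr rfl)
  rcases h5 with rfl | rfl | rfl
  · exact h2 hpm E π hπ hcen hperf hcard
  · exact h3 hpm E π hπ hcen hperf hcard
  · exact h6 hpm E π hπ hcen hperf hcard

/-- a list of words with different keys -/
theorem pairwise_key {L : List (List ℕ × List ℕ × List ℕ)} (h : ∀ t ∈ L, key (el (cw t.1 t.2.1)) = t.2.2)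
    (hn : (L.map fun t => t.2.2).Nodup) :
    (L.map fun t => el (cw t.1 t.2.1)).Pairwise fun a b => ¬ IsConj a b := by
  rw [List.pairwise_map]
  rw [List.Nodup, List.pairwise_map] at hn
  refine hn.imp_of_mem fun {a b} ha hb hab hc => hab ?_
  rw [← h a ha, ← h b hb]
  exact key_conj hc

end Cfsg.Agent.H878.RIM.Fi
end
end

-- part: H878/RIM/FiE0
section
set_option linter.all false

/-!
# S4816, `Fi22`: the good elements, part 0 (helper878)
-/

set_option autoImplicit false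
set_option maxRecDepth 1000000
set_option exponentiation.threshold 5000

namespace Cfsg.Agent.H878.RIM.Fi

open Cfsg Cfsg.Spor Cfsg.Agent.H123.Cls.FiDat
open Cfsg.Agent.H326.QS.FiRow (cw)
open Cfsg.Agent.H878.RIM.KTwo Cfsg.Agent.H878.RIM.KThree

theorem ky0 : key (el (cw [3, 7, 4, 3] [2, 4])) = [2304, 0] := key_of cm0 sg0 rfl

theorem gh0 : G3 (el (cw [3, 7, 4, 3] [2, 4])) := g3_of 2 (by decide) (by decide +kernel)

theorem ky4 : key (el (cw [3, 7, 4, 0, 3, 8, 5, 4, 7, 3] [2, 8, 7])) = [0, 1296] := key_of cm4 sg4 rfl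

theorem gt4 : G2 (el (cw [3, 7, 4, 0, 3, 8, 5, 4, 7, 3] [2, 8, 7])) := g2_of 3 (by decide) g2_nil (by decide +kernel)

theorem ky8 : key (el (cw [3, 7, 5, 1, 0, 8, 2, 4, 6, 1, 5, 7, 3] [4, 3, 2])) = [3072, 0] := key_of cm8 sg8 rfl

theorem gh8 : G3 (el (cw [3, 7, 5, 1, 0, 8, 2, 4, 6, 1, 5, 7, 3] [4, 3, 2])) := g3_of 4 (by decide) (by decide +kernel)

theorem ky12 : key (el (cw [8, 2] [7, 3])) = [2100, 2600] := key_of cm12 sg12 rfl

theorem gt12 : G2 (el (cw [8, 2] [7, 3])) := g2_of 5 (by decide) g2_nil (by decide +kernel)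

theorem gh12 : G3 (el (cw [8, 2] [7, 3])) := g3_of 5 (by decide) (by decide +kernel)

theorem ky21 : key (el (cw [1, 4, 6] [0, 5])) = [448, 2424] := key_of cm21 sg21 rfl

theorem gt21 : G2 (el (cw [1, 4, 6] [0, 5])) := g2_of 3 (by decide)
  (g2_tw [] 5 [6, 5] 4 (by decide +kernel)) (by decide +kernel)

theorem gh21 : G3 (el (cw [1, 4, 6] [0, 5])) := g3_tr (by decide +kernel)

theorem ky25 : key (el (cw [5, 2, 8] [3, 4, 6, 7])) = [2240, 1792] := key_of cm25 sg25 rfl

theorem gh25 : G3 (el (cw [5, 2, 8] [3, 4, 6, 7])) := g3_of 8 (by decide) (by decide +kernel)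

theorem ky29 : key (el (cw [5, 1, 7] [2, 3, 4])) = [2484, 2268] := key_of cm29 sg29 rfl

theorem gt29 : G2 (el (cw [5, 1, 7] [2, 3, 4])) := g2_of 9 (by decide) g2_nil (by decide +kernel)

theorem ky33 : key (el (cw [3, 5, 2] [4, 3, 6, 7])) = [2036, 2000] := key_of cm33 sg33 rfl

theorem gt33 : G2 (el (cw [3, 5, 2] [4, 3, 6, 7])) := g2_of 5 (by decide) (g2_tr [1, 2, 3, 7, 4, 5, 3, 4, 2, 3, 7, 6, 5, 4, 3, 2] 1) (by decide +kernel)

theorem gh33 : G3 (el (cw [3, 5, 2] [4, 3, 6, 7])) := g3_of 10 (by decide) (by decide +kernel)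

theorem ky47 : key (el (cw [4, 8, 0] [1, 7, 3])) = [2040, 2504] := key_of cm47 sg47 rfl

theorem gt47 : G2 (el (cw [4, 8, 0] [1, 7, 3])) := g2_of 15 (by decide) g2_nil (by decide +kernel)

theorem gh47 : G3 (el (cw [4, 8, 0] [1, 7, 3])) := g3_tr (by decide +kernel)

theorem ky51 : key (el (cw [2, 3, 2, 5, 8, 1] [0, 4, 3, 7])) = [2492, 2208] := key_of cm51 sg51 rfl

theorem gt51 : G2 (el (cw [2, 3, 2, 5, 8, 1] [0, 4, 3, 7])) := g2_of 9 (by decide) (g2_tr [3, 7, 8, 3, 4, 1, 2, 3, 7, 5, 4, 3, 2, 1] 0) (by decide +kernel)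

theorem gh51 : G3 (el (cw [2, 3, 2, 5, 8, 1] [0, 4, 3, 7])) := g3_tr (by decide +kernel)

theorem ky57 : key (el (cw [4, 0, 3, 6, 8, 4] [5, 7, 3, 2, 1])) = [2240, 2228] := key_of cm57 sg57 rfl

theorem gt57 : G2 (el (cw [4, 0, 3, 6, 8, 4] [5, 7, 3, 2, 1])) := g2_of 15 (by decide) (g2_tr [5, 4, 0, 1, 2, 3, 7, 8, 5, 3, 4, 2, 3, 7, 6, 5, 4, 3, 2, 1] 0) (by decide +kernel)

theorem gh57 : G3 (el (cw [4, 0, 3, 6, 8, 4] [5, 7, 3, 2, 1])) := g3_tr (by decide +kernel)

end Cfsg.Agent.H878.RIM.Fi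
end

-- part: H878/RIM/FiE1
section
set_option linter.all false

/-!
# S4816, `Fi22`: the good elements, part 1 (helper878)
-/

set_option autoImplicit false
set_option maxRecDepth 1000000
set_option exponentiation.threshold 5000

namespace Cfsg.Agent.H878.RIM.Fi

open Cfsg Cfsg.Spor Cfsg.Agent.H123.Cls.FiDat
open Cfsg.Agent.H326.QS.FiRow (cw)
open Cfsg.Agent.H878.RIM.KTwo Cfsg.Agent.H878.RIM.KThree

theorem ky1 : key (el (cw [7] [3, 8])) = [1024, 0] := key_of cm1 sg1 rfl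

theorem gt1 : G2 (el (cw [7] [3, 8])) := g2_of 1 (by decide)
  (g2_tw [] 7 [8, 7] 3 (by decide +kernel)) (by decide +kernel)

theorem gh1 : G3 (el (cw [7] [3, 8])) := g3_of 2 (by decide) (by decide +kernel)

theorem ky5 : key (el (cw [0, 3] [1, 7])) = [0, 2016] := key_of cm5 sg5 rfl

theorem gt5 : G2 (el (cw [0, 3] [1, 7])) := g2_of 3 (by decide) g2_nil (by decide +kernel)

theorem ky9 : key (el (cw [8, 4] [5, 7, 3])) = [2560, 0] := key_of cm9 sg9 rfl

theorem gh9 : G3 (el (cw [8, 4] [5, 7, 3])) := g3_of 4 (by decide) (by decide +kernel)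

theorem ky17 : key (el (cw [5, 0, 3, 8] [1, 6, 7])) = [880, 1536] := key_of cm17 sg17 rfl

theorem gt17 : G2 (el (cw [5, 0, 3, 8] [1, 6, 7])) := g2_of 3 (by decide)
  (g2_tw [] 7 [8, 7] 3 (by decide +kernel)) (by decide +kernel)

theorem ky22 : key (el (cw [1, 7, 0, 5, 2, 1] [3, 2, 6, 7, 3, 5, 4, 5, 7, 3, 4, 8])) = [2816, 1296] := key_of cm22 sg22 rfl

theorem gt22 : G2 (el (cw [1, 7, 0, 5, 2, 1] [3, 2, 6, 7, 3, 5, 4, 5, 7, 3, 4, 8])) := g2_of 3 (by decide) (g2_tr [] 5) (by decide +kernel)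

theorem ky26 : key (el (cw [1, 7, 6, 3, 0] [1, 2, 4, 3, 5, 4])) = [2112, 768] := key_of cm26 sg26 rfl

theorem gh26 : G3 (el (cw [1, 7, 6, 3, 0] [1, 2, 4, 3, 5, 4])) := g3_of 8 (by decide) (by decide +kernel)

theorem ky30 : key (el (cw [4, 8, 2] [1, 7, 3])) = [972, 1968] := key_of cm30 sg30 rfl

theorem gt30 : G2 (el (cw [4, 8, 2] [1, 7, 3])) := g2_of 9 (by decide) g2_nil (by decide +kernel)

theorem ky34 : key (el (cw [3, 2, 8, 6, 0] [1, 8, 7, 3, 4, 5])) = [2244, 2244] := key_of cm34 sg34 rfl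

theorem gt34 : G2 (el (cw [3, 2, 8, 6, 0] [1, 8, 7, 3, 4, 5])) := g2_of 11 (by decide) g2_nil (by decide +kernel)

theorem gh34 : G3 (el (cw [3, 2, 8, 6, 0] [1, 8, 7, 3, 4, 5])) := g3_of 11 (by decide) (by decide +kernel)

theorem ky48 : key (el (cw [7, 2, 2, 1, 3, 6, 8, 2] [0, 2, 7, 3, 4, 5])) = [2368, 2528] := key_of cm48 sg48 rfl

theorem gh48 : G3 (el (cw [7, 2, 2, 1, 3, 6, 8, 2] [0, 2, 7, 3, 4, 5])) := g3_of 16 (by decide) (by decide +kernel)

theorem ky52 : key (el (cw [5, 1, 8, 4] [6, 7, 3, 2])) = [2228, 2040] := key_of cm52 sg52 rfl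

theorem gh52 : G3 (el (cw [5, 1, 8, 4] [6, 7, 3, 2])) := g3_of 20 (by decide) (by decide +kernel)

theorem ky58 : key (el (cw [0] [0])) = [0, 0] := key_of cm58 sg58 rfl

theorem gt58 : G2 (el (cw [0] [0])) := g2_of 1 (by decide) g2_nil (by decide +kernel)

theorem gh58 : G3 (el (cw [0] [0])) := g3_of 1 (by decide) (by decide +kernel)

end Cfsg.Agent.H878.RIM.Fi
end

-- part: H878/RIM/FiE2
section
set_option linter.all false

/-!
# S4816, `Fi22`: the good elements, part 2 (helper878)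
-/

set_option autoImplicit false
set_option maxRecDepth 1000000
set_option exponentiation.threshold 5000

namespace Cfsg.Agent.H878.RIM.Fi

open Cfsg Cfsg.Spor Cfsg.Agent.H123.Cls.FiDat
open Cfsg.Agent.H326.QS.FiRow (cw)
open Cfsg.Agent.H878.RIM.KTwo Cfsg.Agent.H878.RIM.KThree

theorem ky2 : key (el (cw [8, 6, 5, 4, 3, 2, 7, 0, 4, 2, 2, 3, 4, 5, 6, 8] [3, 4, 6, 7, 8, 7, 3, 2, 4])) = [2816, 0] := key_of cm2 sg2 rfl

theorem gt2 : G2 (el (cw [8, 6, 5, 4, 3, 2, 7, 0, 4, 2, 2, 3, 4, 5, 6, 8] [3, 4, 6, 7, 8, 7, 3, 2, 4])) := g2_of 1 (by decide) (g2_tr [7, 3, 4, 2, 3, 7, 8, 5, 4, 3, 7, 6, 5, 4, 3] 2) (by decide +kernel)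

theorem gh2 : G3 (el (cw [8, 6, 5, 4, 3, 2, 7, 0, 4, 2, 2, 3, 4, 5, 6, 8] [3, 4, 6, 7, 8, 7, 3, 2, 4])) := g3_of 2 (by decide) (by decide +kernel)

theorem ky6 : key (el (cw [2] [1])) = [0, 3384] := key_of cm6 sg6 rfl

theorem gt6 : G2 (el (cw [2] [1])) := g2_of 3 (by decide) g2_nil (by decide +kernel)

theorem gh6 : G3 (el (cw [2] [1])) := g3_tr (by decide +kernel)

theorem ky10 : key (el (cw [3, 5, 2, 7, 3] [4, 6, 8, 7, 3, 5, 4])) = [2688, 0] := key_of cm10 sg10 rfl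

theorem gh10 : G3 (el (cw [3, 5, 2, 7, 3] [4, 6, 8, 7, 3, 5, 4])) := g3_of 4 (by decide) (by decide +kernel)

theorem ky18 : key (el (cw [4, 3, 6, 2, 3] [7, 3, 5])) = [2168, 1368] := key_of cm18 sg18 rfl

theorem gt18 : G2 (el (cw [4, 3, 6, 2, 3] [7, 3, 5])) := g2_of 3 (by decide) (g2_tr [1, 2, 3, 7, 4, 5, 3, 4, 2, 3, 7, 6, 5, 4, 3, 2] 1) (by decide +kernel)

theorem ky23 : key (el (cw [3, 6, 7, 2, 3] [5, 4, 7])) = [1520, 2088] := key_of cm23 sg23 rfl

theorem gt23 : G2 (el (cw [3, 6, 7, 2, 3] [5, 4, 7])) := g2_of 3 (by decide) (g2_tr [1, 2, 3, 7, 4, 5, 3, 4, 2, 3, 7, 6, 5, 4, 3, 2] 1) (by decide +kernel)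

theorem gh23 : G3 (el (cw [3, 6, 7, 2, 3] [5, 4, 7])) := g3_tr (by decide +kernel)

theorem ky27 : key (el (cw [5, 4, 6, 7, 0] [1, 3, 2, 6, 7, 3])) = [2528, 896] := key_of cm27 sg27 rfl

theorem gh27 : G3 (el (cw [5, 4, 6, 7, 0] [1, 3, 2, 6, 7, 3])) := g3_of 8 (by decide) (by decide +kernel)

theorem ky31 : key (el (cw [8, 5, 7, 2, 8] [1, 3, 4, 7, 3])) = [972, 2208] := key_of cm31 sg31 rfl

theorem gt31 : G2 (el (cw [8, 5, 7, 2, 8] [1, 3, 4, 7, 3])) := g2_of 9 (by decide) g2_nil (by decide +kernel)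

theorem gh31 : G3 (el (cw [8, 5, 7, 2, 8] [1, 3, 4, 7, 3])) := g3_tr (by decide +kernel)

theorem ky45 : key (el (cw [5, 8, 2, 0] [1, 3, 4, 7])) = [2184, 2184] := key_of cm45 sg45 rfl

theorem gt45 : G2 (el (cw [5, 8, 2, 0] [1, 3, 4, 7])) := g2_of 13 (by decide) g2_nil (by decide +kernel)

theorem gh45 : G3 (el (cw [5, 8, 2, 0] [1, 3, 4, 7])) := g3_of 13 (by decide) (by decide +kernel)

theorem ky49 : key (el (cw [2, 5, 0, 8] [1, 4, 7, 3, 6])) = [2708, 2076] := key_of cm49 sg49 rfl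

theorem gt49 : G2 (el (cw [2, 5, 0, 8] [1, 4, 7, 3, 6])) := g2_of 9 (by decide) (g2_tr [6, 5] 4) (by decide +kernel)

theorem ky53 : key (el (cw [2, 5, 0, 8] [1, 6, 7, 3])) = [2156, 2348] := key_of cm53 sg53 rfl

theorem gt53 : G2 (el (cw [2, 5, 0, 8] [1, 6, 7, 3])) := g2_of 21 (by decide) g2_nil (by decide +kernel)

theorem gh53 : G3 (el (cw [2, 5, 0, 8] [1, 6, 7, 3])) := g3_trp 7 (by decide) (by decide +kernel)

end Cfsg.Agent.H878.RIM.Fi
end

-- part: H878/RIM/FiE3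
section
set_option linter.all false

/-!
# S4816, `Fi22`: the good elements, part 3 (helper878)
-/

set_option autoImplicit false
set_option maxRecDepth 1000000
set_option exponentiation.threshold 5000

namespace Cfsg.Agent.H878.RIM.Fi

open Cfsg Cfsg.Spor Cfsg.Agent.H123.Cls.FiDat
open Cfsg.Agent.H326.QS.FiRow (cw)
open Cfsg.Agent.H878.RIM.KTwo Cfsg.Agent.H878.RIM.KThree

theorem ky3 : key (el (cw [1, 8, 6] [2, 5, 7])) = [0, 3024] := key_of cm3 sg3 rfl

theorem gt3 : G2 (el (cw [1, 8, 6] [2, 5, 7])) := g2_of 3 (by decide) g2_nil (by decide +kernel)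

theorem ky7 : key (el (cw [2, 4, 7] [3, 8])) = [2496, 0] := key_of cm7 sg7 rfl

theorem gh7 : G3 (el (cw [2, 4, 7] [3, 8])) := g3_of 4 (by decide) (by decide +kernel)

theorem ky11 : key (el (cw [1, 5, 3] [0, 2, 4, 6])) = [2176, 0] := key_of cm11 sg11 rfl

theorem gh11 : G3 (el (cw [1, 5, 3] [0, 2, 4, 6])) := g3_of 4 (by decide) (by decide +kernel)

theorem ky19 : key (el (cw [7, 1, 8, 3, 5, 7, 7, 2] [1, 2, 8, 7, 3, 4, 3])) = [1024, 720] := key_of cm19 sg19 rfl

theorem gt19 : G2 (el (cw [7, 1, 8, 3, 5, 7, 7, 2] [1, 2, 8, 7, 3, 4, 3])) := g2_of 3 (by decide)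
  (g2_tw [3, 2] 1 [5, 4, 2, 3, 7, 8, 4, 2, 3, 7, 5, 4, 3, 2] 1 (by decide +kernel)) (by decide +kernel)

theorem ky24 : key (el (cw [0, 8, 3] [1, 2, 7])) = [2072, 2072] := key_of cm24 sg24 rfl

theorem gt24 : G2 (el (cw [0, 8, 3] [1, 2, 7])) := g2_of 7 (by decide) g2_nil (by decide +kernel)

theorem gh24 : G3 (el (cw [0, 8, 3] [1, 2, 7])) := g3_of 7 (by decide) (by decide +kernel)

theorem ky28 : key (el (cw [7, 5, 4, 2, 1, 3, 5, 2, 4] [0, 6, 7, 3])) = [2400, 896] := key_of cm28 sg28 rfl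

theorem gh28 : G3 (el (cw [7, 5, 4, 2, 1, 3, 5, 2, 4] [0, 6, 7, 3])) := g3_of 8 (by decide) (by decide +kernel)

theorem ky32 : key (el (cw [3, 5, 2, 7, 0] [1, 4, 8])) = [2324, 2120] := key_of cm32 sg32 rfl

theorem gt32 : G2 (el (cw [3, 5, 2, 7, 0] [1, 4, 8])) := g2_of 5 (by decide)
  (g2_tw [] 1 [5, 4] 3 (by decide +kernel)) (by decide +kernel)

theorem gh32 : G3 (el (cw [3, 5, 2, 7, 0] [1, 4, 8])) := g3_of 10 (by decide) (by decide +kernel)

theorem ky46 : key (el (cw [2, 8, 4, 0] [1, 7, 3, 5])) = [2256, 2156] := key_of cm46 sg46 rfl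

theorem gt46 : G2 (el (cw [2, 8, 4, 0] [1, 7, 3, 5])) := g2_of 7 (by decide) (g2_tr [5, 3, 4, 0, 1, 2, 3, 7, 8, 2, 3, 4, 1, 2, 3, 7, 5, 4, 3, 2, 1] 0) (by decide +kernel)

theorem gh46 : G3 (el (cw [2, 8, 4, 0] [1, 7, 3, 5])) := g3_of 14 (by decide) (by decide +kernel)

theorem ky50 : key (el (cw [1, 4, 8] [5, 7, 3, 2])) = [2284, 2352] := key_of cm50 sg50 rfl

theorem gt50 : G2 (el (cw [1, 4, 8] [5, 7, 3, 2])) := g2_of 9 (by decide)
  (g2_tw [4, 1, 2, 3, 7, 8, 4, 2, 3, 7, 5, 4, 3, 2] 1 [2, 3, 7, 8, 4, 2, 3, 7, 5, 4, 3, 2] 1 (by decide +kernel)) (by decide +kernel)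

theorem gh50 : G3 (el (cw [1, 4, 8] [5, 7, 3, 2])) := g3_tr (by decide +kernel)

theorem ky54 : key (el (cw [2, 7, 1, 8, 6, 4] [0, 5, 7, 3, 4, 7, 3])) = [2244, 2200] := key_of cm54 sg54 rfl

theorem gt54 : G2 (el (cw [2, 7, 1, 8, 6, 4] [0, 5, 7, 3, 4, 7, 3])) := g2_of 11 (by decide) (g2_tr [3, 7, 8, 1, 2, 3, 7, 6, 5, 4, 3, 2, 1] 0) (by decide +kernel)

theorem gh54 : G3 (el (cw [2, 7, 1, 8, 6, 4] [0, 5, 7, 3, 4, 7, 3])) := g3_of 22 (by decide) (by decide +kernel)

end Cfsg.Agent.H878.RIM.Fi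
end

-- part: H878/RIM/FiList
section
set_option linter.all false
open scoped Cfsg.Agent.FastGrp

/-!
# S4816, `Fi22`: the lists of good elements (helper878)

`cnt_two` (30), `cnt_three` (23), `cnt_six` (20).
-/

set_option autoImplicit false
set_option maxRecDepth 1000000
set_option exponentiation.threshold 5000

namespace Cfsg.Agent.H878.RIM.Fi

open Cfsg Cfsg.Spor Cfsg.Agent.H123.Cls.FiDat
open Cfsg.Agent.H326.QS.FiRow (cw)
open Cfsg.Agent.H878.RIM Cfsg.Agent.H878.RIM.KTwo Cfsg.Agent.H878.RIM.KThree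

universe u

/-- the list for the kernel of order 2 -/
def L2 : List (List ℕ × List ℕ × List ℕ) := [([0], [0], [0, 0]),
  ([1, 8, 6], [2, 5, 7], [0, 3024]),
  ([3, 7, 4, 0, 3, 8, 5, 4, 7, 3], [2, 8, 7], [0, 1296]),
  ([0, 3], [1, 7], [0, 2016]),
  ([2], [1], [0, 3384]),
  ([8, 2], [7, 3], [2100, 2600]),
  ([0, 8, 3], [1, 2, 7], [2072, 2072]),
  ([5, 1, 7], [2, 3, 4], [2484, 2268]),
  ([4, 8, 2], [1, 7, 3], [972, 1968]),
  ([8, 5, 7, 2, 8], [1, 3, 4, 7, 3], [972, 2208]),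
  ([3, 2, 8, 6, 0], [1, 8, 7, 3, 4, 5], [2244, 2244]),
  ([5, 8, 2, 0], [1, 3, 4, 7], [2184, 2184]),
  ([4, 8, 0], [1, 7, 3], [2040, 2504]),
  ([2, 5, 0, 8], [1, 6, 7, 3], [2156, 2348]),
  ([7], [3, 8], [1024, 0]),
  ([8, 6, 5, 4, 3, 2, 7, 0, 4, 2, 2, 3, 4, 5, 6, 8], [3, 4, 6, 7, 8, 7, 3, 2, 4], [2816, 0]),
  ([5, 0, 3, 8], [1, 6, 7], [880, 1536]),
  ([4, 3, 6, 2, 3], [7, 3, 5], [2168, 1368]),
  ([7, 1, 8, 3, 5, 7, 7, 2], [1, 2, 8, 7, 3, 4, 3], [1024, 720]),
  ([1, 4, 6], [0, 5], [448, 2424]),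
  ([1, 7, 0, 5, 2, 1], [3, 2, 6, 7, 3, 5, 4, 5, 7, 3, 4, 8], [2816, 1296]),
  ([3, 6, 7, 2, 3], [5, 4, 7], [1520, 2088]),
  ([3, 5, 2, 7, 0], [1, 4, 8], [2324, 2120]),
  ([3, 5, 2], [4, 3, 6, 7], [2036, 2000]),
  ([2, 8, 4, 0], [1, 7, 3, 5], [2256, 2156]),
  ([2, 5, 0, 8], [1, 4, 7, 3, 6], [2708, 2076]),
  ([1, 4, 8], [5, 7, 3, 2], [2284, 2352]),
  ([2, 3, 2, 5, 8, 1], [0, 4, 3, 7], [2492, 2208]),
  ([2, 7, 1, 8, 6, 4], [0, 5, 7, 3, 4, 7, 3], [2244, 2200]),
  ([4, 0, 3, 6, 8, 4], [5, 7, 3, 2, 1], [2240, 2228])]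

theorem key_L2 : ∀ t ∈ L2, key (el (cw t.1 t.2.1)) = t.2.2 :=
  List.forall_mem_cons.2 ⟨ky58, List.forall_mem_cons.2 ⟨ky3, List.forall_mem_cons.2 ⟨ky4, List.forall_mem_cons.2
  ⟨ky5, List.forall_mem_cons.2 ⟨ky6, List.forall_mem_cons.2 ⟨ky12, List.forall_mem_cons.2 ⟨ky24,
  List.forall_mem_cons.2 ⟨ky29, List.forall_mem_cons.2 ⟨ky30, List.forall_mem_cons.2 ⟨ky31, List.forall_mem_cons.2
  ⟨ky34, List.forall_mem_cons.2 ⟨ky45, List.forall_mem_cons.2 ⟨ky47, List.forall_mem_cons.2 ⟨ky53,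
  List.forall_mem_cons.2 ⟨ky1, List.forall_mem_cons.2 ⟨ky2, List.forall_mem_cons.2 ⟨ky17, List.forall_mem_cons.2
  ⟨ky18, List.forall_mem_cons.2 ⟨ky19, List.forall_mem_cons.2 ⟨ky21, List.forall_mem_cons.2 ⟨ky22,
  List.forall_mem_cons.2 ⟨ky23, List.forall_mem_cons.2 ⟨ky32, List.forall_mem_cons.2 ⟨ky33, List.forall_mem_cons.2
  ⟨ky46, List.forall_mem_cons.2 ⟨ky49, List.forall_mem_cons.2 ⟨ky50, List.forall_mem_cons.2 ⟨ky51,
  List.forall_mem_cons.2 ⟨ky54, List.forall_mem_cons.2 ⟨ky57, List.forall_mem_nil _⟩⟩⟩⟩⟩⟩⟩⟩⟩⟩⟩⟩⟩⟩⟩⟩⟩⟩⟩⟩⟩⟩⟩⟩⟩⟩⟩⟩⟩⟩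

theorem nodup_L2 : (L2.map fun t => t.2.2).Nodup := by decide

theorem two_L2 : ∀ t ∈ L2, G2 (el (cw t.1 t.2.1)) :=
  List.forall_mem_cons.2 ⟨gt58, List.forall_mem_cons.2 ⟨gt3, List.forall_mem_cons.2 ⟨gt4, List.forall_mem_cons.2
  ⟨gt5, List.forall_mem_cons.2 ⟨gt6, List.forall_mem_cons.2 ⟨gt12, List.forall_mem_cons.2 ⟨gt24,
  List.forall_mem_cons.2 ⟨gt29, List.forall_mem_cons.2 ⟨gt30, List.forall_mem_cons.2 ⟨gt31, List.forall_mem_cons.2
  ⟨gt34, List.forall_mem_cons.2 ⟨gt45, List.forall_mem_cons.2 ⟨gt47, List.forall_mem_cons.2 ⟨gt53,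
  List.forall_mem_cons.2 ⟨gt1, List.forall_mem_cons.2 ⟨gt2, List.forall_mem_cons.2 ⟨gt17, List.forall_mem_cons.2
  ⟨gt18, List.forall_mem_cons.2 ⟨gt19, List.forall_mem_cons.2 ⟨gt21, List.forall_mem_cons.2 ⟨gt22,
  List.forall_mem_cons.2 ⟨gt23, List.forall_mem_cons.2 ⟨gt32, List.forall_mem_cons.2 ⟨gt33, List.forall_mem_cons.2
  ⟨gt46, List.forall_mem_cons.2 ⟨gt49, List.forall_mem_cons.2 ⟨gt50, List.forall_mem_cons.2 ⟨gt51,
  List.forall_mem_cons.2 ⟨gt54, List.forall_mem_cons.2 ⟨gt57, List.forall_mem_nil _⟩⟩⟩⟩⟩⟩⟩⟩⟩⟩⟩⟩⟩⟩⟩⟩⟩⟩⟩⟩⟩⟩⟩⟩⟩⟩⟩⟩⟩⟩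

theorem cnt_two {S : Type u} [Group S] (e : S ≃* Spor.Fi22) : Cnt 30 2 S := by
  have h := cnt_of_list e (L2.map fun t => el (cw t.1 t.2.1)) (pairwise_key key_L2 nodup_L2) (m := 2) (by
    intro g hg
    obtain ⟨t, ht, rfl⟩ := List.mem_map.1 hg
    exact lgood_two (two_L2 t ht))
  rw [List.length_map] at h
  exact h

/-- the list for the kernel of order 3 -/
def L3 : List (List ℕ × List ℕ × List ℕ) := [([0], [0], [0, 0]),
  ([3, 7, 4, 3], [2, 4], [2304, 0]),
  ([7], [3, 8], [1024, 0]),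
  ([8, 6, 5, 4, 3, 2, 7, 0, 4, 2, 2, 3, 4, 5, 6, 8], [3, 4, 6, 7, 8, 7, 3, 2, 4], [2816, 0]),
  ([2, 4, 7], [3, 8], [2496, 0]),
  ([3, 7, 5, 1, 0, 8, 2, 4, 6, 1, 5, 7, 3], [4, 3, 2], [3072, 0]),
  ([8, 4], [5, 7, 3], [2560, 0]),
  ([3, 5, 2, 7, 3], [4, 6, 8, 7, 3, 5, 4], [2688, 0]),
  ([1, 5, 3], [0, 2, 4, 6], [2176, 0]),
  ([8, 2], [7, 3], [2100, 2600]),
  ([0, 8, 3], [1, 2, 7], [2072, 2072]),
  ([5, 2, 8], [3, 4, 6, 7], [2240, 1792]),
  ([1, 7, 6, 3, 0], [1, 2, 4, 3, 5, 4], [2112, 768]),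
  ([5, 4, 6, 7, 0], [1, 3, 2, 6, 7, 3], [2528, 896]),
  ([7, 5, 4, 2, 1, 3, 5, 2, 4], [0, 6, 7, 3], [2400, 896]),
  ([3, 5, 2, 7, 0], [1, 4, 8], [2324, 2120]),
  ([3, 5, 2], [4, 3, 6, 7], [2036, 2000]),
  ([3, 2, 8, 6, 0], [1, 8, 7, 3, 4, 5], [2244, 2244]),
  ([5, 8, 2, 0], [1, 3, 4, 7], [2184, 2184]),
  ([2, 8, 4, 0], [1, 7, 3, 5], [2256, 2156]),
  ([7, 2, 2, 1, 3, 6, 8, 2], [0, 2, 7, 3, 4, 5], [2368, 2528]),
  ([5, 1, 8, 4], [6, 7, 3, 2], [2228, 2040]),
  ([2, 7, 1, 8, 6, 4], [0, 5, 7, 3, 4, 7, 3], [2244, 2200])]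

theorem key_L3 : ∀ t ∈ L3, key (el (cw t.1 t.2.1)) = t.2.2 :=
  List.forall_mem_cons.2 ⟨ky58, List.forall_mem_cons.2 ⟨ky0, List.forall_mem_cons.2 ⟨ky1, List.forall_mem_cons.2
  ⟨ky2, List.forall_mem_cons.2 ⟨ky7, List.forall_mem_cons.2 ⟨ky8, List.forall_mem_cons.2 ⟨ky9,
  List.forall_mem_cons.2 ⟨ky10, List.forall_mem_cons.2 ⟨ky11, List.forall_mem_cons.2 ⟨ky12, List.forall_mem_cons.2
  ⟨ky24, List.forall_mem_cons.2 ⟨ky25, List.forall_mem_cons.2 ⟨ky26, List.forall_mem_cons.2 ⟨ky27,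
  List.forall_mem_cons.2 ⟨ky28, List.forall_mem_cons.2 ⟨ky32, List.forall_mem_cons.2 ⟨ky33, List.forall_mem_cons.2
  ⟨ky34, List.forall_mem_cons.2 ⟨ky45, List.forall_mem_cons.2 ⟨ky46, List.forall_mem_cons.2 ⟨ky48,
  List.forall_mem_cons.2 ⟨ky52, List.forall_mem_cons.2 ⟨ky54, List.forall_mem_nil _⟩⟩⟩⟩⟩⟩⟩⟩⟩⟩⟩⟩⟩⟩⟩⟩⟩⟩⟩⟩⟩⟩⟩

theorem nodup_L3 : (L3.map fun t => t.2.2).Nodup := by decide

theorem three_L3 : ∀ t ∈ L3, G3 (el (cw t.1 t.2.1)) :=
  List.forall_mem_cons.2 ⟨gh58, List.forall_mem_cons.2 ⟨gh0, List.forall_mem_cons.2 ⟨gh1, List.forall_mem_cons.2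
  ⟨gh2, List.forall_mem_cons.2 ⟨gh7, List.forall_mem_cons.2 ⟨gh8, List.forall_mem_cons.2 ⟨gh9,
  List.forall_mem_cons.2 ⟨gh10, List.forall_mem_cons.2 ⟨gh11, List.forall_mem_cons.2 ⟨gh12, List.forall_mem_cons.2
  ⟨gh24, List.forall_mem_cons.2 ⟨gh25, List.forall_mem_cons.2 ⟨gh26, List.forall_mem_cons.2 ⟨gh27,
  List.forall_mem_cons.2 ⟨gh28, List.forall_mem_cons.2 ⟨gh32, List.forall_mem_cons.2 ⟨gh33, List.forall_mem_cons.2
  ⟨gh34, List.forall_mem_cons.2 ⟨gh45, List.forall_mem_cons.2 ⟨gh46, List.forall_mem_cons.2 ⟨gh48,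
  List.forall_mem_cons.2 ⟨gh52, List.forall_mem_cons.2 ⟨gh54, List.forall_mem_nil _⟩⟩⟩⟩⟩⟩⟩⟩⟩⟩⟩⟩⟩⟩⟩⟩⟩⟩⟩⟩⟩⟩⟩

theorem cnt_three {S : Type u} [Group S] (e : S ≃* Spor.Fi22) : Cnt 23 3 S := by
  have h := cnt_of_list e (L3.map fun t => el (cw t.1 t.2.1)) (pairwise_key key_L3 nodup_L3) (m := 3) (by
    intro g hg
    obtain ⟨t, ht, rfl⟩ := List.mem_map.1 hg
    exact lgood_three (three_L3 t ht))
  rw [List.length_map] at h
  exact h

/-- the list for the kernel of order 6 -/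
def L6 : List (List ℕ × List ℕ × List ℕ) := [([0], [0], [0, 0]),
  ([7], [3, 8], [1024, 0]),
  ([8, 6, 5, 4, 3, 2, 7, 0, 4, 2, 2, 3, 4, 5, 6, 8], [3, 4, 6, 7, 8, 7, 3, 2, 4], [2816, 0]),
  ([2], [1], [0, 3384]),
  ([8, 2], [7, 3], [2100, 2600]),
  ([1, 4, 6], [0, 5], [448, 2424]),
  ([3, 6, 7, 2, 3], [5, 4, 7], [1520, 2088]),
  ([0, 8, 3], [1, 2, 7], [2072, 2072]),
  ([8, 5, 7, 2, 8], [1, 3, 4, 7, 3], [972, 2208]),
  ([3, 5, 2, 7, 0], [1, 4, 8], [2324, 2120]),
  ([3, 5, 2], [4, 3, 6, 7], [2036, 2000]),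
  ([3, 2, 8, 6, 0], [1, 8, 7, 3, 4, 5], [2244, 2244]),
  ([5, 8, 2, 0], [1, 3, 4, 7], [2184, 2184]),
  ([2, 8, 4, 0], [1, 7, 3, 5], [2256, 2156]),
  ([4, 8, 0], [1, 7, 3], [2040, 2504]),
  ([1, 4, 8], [5, 7, 3, 2], [2284, 2352]),
  ([2, 3, 2, 5, 8, 1], [0, 4, 3, 7], [2492, 2208]),
  ([2, 5, 0, 8], [1, 6, 7, 3], [2156, 2348]),
  ([2, 7, 1, 8, 6, 4], [0, 5, 7, 3, 4, 7, 3], [2244, 2200]),
  ([4, 0, 3, 6, 8, 4], [5, 7, 3, 2, 1], [2240, 2228])]

theorem key_L6 : ∀ t ∈ L6, key (el (cw t.1 t.2.1)) = t.2.2 :=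
  List.forall_mem_cons.2 ⟨ky58, List.forall_mem_cons.2 ⟨ky1, List.forall_mem_cons.2 ⟨ky2, List.forall_mem_cons.2
  ⟨ky6, List.forall_mem_cons.2 ⟨ky12, List.forall_mem_cons.2 ⟨ky21, List.forall_mem_cons.2 ⟨ky23,
  List.forall_mem_cons.2 ⟨ky24, List.forall_mem_cons.2 ⟨ky31, List.forall_mem_cons.2 ⟨ky32, List.forall_mem_cons.2
  ⟨ky33, List.forall_mem_cons.2 ⟨ky34, List.forall_mem_cons.2 ⟨ky45, List.forall_mem_cons.2 ⟨ky46,
  List.forall_mem_cons.2 ⟨ky47, List.forall_mem_cons.2 ⟨ky50, List.forall_mem_cons.2 ⟨ky51, List.forall_mem_cons.2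
  ⟨ky53, List.forall_mem_cons.2 ⟨ky54, List.forall_mem_cons.2 ⟨ky57, List.forall_mem_nil _⟩⟩⟩⟩⟩⟩⟩⟩⟩⟩⟩⟩⟩⟩⟩⟩⟩⟩⟩⟩

theorem nodup_L6 : (L6.map fun t => t.2.2).Nodup := by decide

theorem two_L6 : ∀ t ∈ L6, G2 (el (cw t.1 t.2.1)) :=
  List.forall_mem_cons.2 ⟨gt58, List.forall_mem_cons.2 ⟨gt1, List.forall_mem_cons.2 ⟨gt2, List.forall_mem_cons.2
  ⟨gt6, List.forall_mem_cons.2 ⟨gt12, List.forall_mem_cons.2 ⟨gt21, List.forall_mem_cons.2 ⟨gt23,
  List.forall_mem_cons.2 ⟨gt24, List.forall_mem_cons.2 ⟨gt31, List.forall_mem_cons.2 ⟨gt32, List.forall_mem_cons.2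
  ⟨gt33, List.forall_mem_cons.2 ⟨gt34, List.forall_mem_cons.2 ⟨gt45, List.forall_mem_cons.2 ⟨gt46,
  List.forall_mem_cons.2 ⟨gt47, List.forall_mem_cons.2 ⟨gt50, List.forall_mem_cons.2 ⟨gt51, List.forall_mem_cons.2
  ⟨gt53, List.forall_mem_cons.2 ⟨gt54, List.forall_mem_cons.2 ⟨gt57, List.forall_mem_nil _⟩⟩⟩⟩⟩⟩⟩⟩⟩⟩⟩⟩⟩⟩⟩⟩⟩⟩⟩⟩

theorem three_L6 : ∀ t ∈ L6, G3 (el (cw t.1 t.2.1)) :=
  List.forall_mem_cons.2 ⟨gh58, List.forall_mem_cons.2 ⟨gh1, List.forall_mem_cons.2 ⟨gh2, List.forall_mem_cons.2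
  ⟨gh6, List.forall_mem_cons.2 ⟨gh12, List.forall_mem_cons.2 ⟨gh21, List.forall_mem_cons.2 ⟨gh23,
  List.forall_mem_cons.2 ⟨gh24, List.forall_mem_cons.2 ⟨gh31, List.forall_mem_cons.2 ⟨gh32, List.forall_mem_cons.2
  ⟨gh33, List.forall_mem_cons.2 ⟨gh34, List.forall_mem_cons.2 ⟨gh45, List.forall_mem_cons.2 ⟨gh46,
  List.forall_mem_cons.2 ⟨gh47, List.forall_mem_cons.2 ⟨gh50, List.forall_mem_cons.2 ⟨gh51, List.forall_mem_cons.2
  ⟨gh53, List.forall_mem_cons.2 ⟨gh54, List.forall_mem_cons.2 ⟨gh57, List.forall_mem_nil _⟩⟩⟩⟩⟩⟩⟩⟩⟩⟩⟩⟩⟩⟩⟩⟩⟩⟩⟩⟩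

end Cfsg.Agent.H878.RIM.Fi
end

-- part: H878/RIM/FiCent
section
set_option linter.all false
open scoped Cfsg.Agent.FastGrp

/-!
# S4816, `Fi22`: centralizers in `Fi22` and in `Fi22 : 2` (helper878)

* `card_CA` : bounds of the centralizers in `A = Fi22 : 2`;
* `two_mul_le` : `2 |C_S(g)| ≤ |C_A(g)|` if an outer element commutes with `g`;
* `not_conj_of` : `g` and its image under the outer involution are not conjugate if `|C_A(g)| < 2 |C_S(g)|`.
-/

set_option autoImplicit false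
set_option linter.unusedSectionVars false
set_option maxRecDepth 100000
set_option exponentiation.threshold 5000

namespace Cfsg.Agent.H878.RIM.Fi

open Cfsg Cfsg.Spor Subgroup Cfsg.Agent.H123.Cls Cfsg.Agent.H123.Cls.FiDat
open Cfsg.Agent.H494.F22 (A N N_le_Aut A_le_Aut N_le_A rho rp tau tau_mem_A tau_notMem tau_sq tau_inv tau_conj sw
  rho_injective S A_conj)
open Cfsg.Agent.H494.F22.Row (row)
open Cfsg.Agent.H326.QS.FiRow (cw el_cw chkE el_eq_of_chkE)
open Equiv

theorem card_CA {r : Perm (Fin 3510)} {P : ℕ} (hr : ∀ p : Fin 3510, (r p : ℕ) = lk 12 P p) {l : List (Bool × ℕ)}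
    {L : List Ins} {c : ℕ} (h : chkB 3510 12 row 12 P l L c = true) :
    Nat.card ↥(A ⊓ centralizer ({r} : Set (Perm (Fin 3510)))) ≤ c + 1 := by
  refine card_le_bound (by norm_num) hr h (inf_le_left.trans A_le_Aut) fun σ hσ p => ?_
  have h2 := mem_centralizer_singleton_iff.1 (mem_inf.1 hσ).2
  exact congrArg (fun τ : Perm (Fin 3510) => τ p) h2

theorem two_mul_le {g : Spor.Fi22} {u : Perm (Fin 3510)} (hu : u ∈ A) (hun : u ∉ N) (huc : u * rho g = rho g * u) :
    2 * Nat.card (centralizer ({g} : Set Spor.Fi22)) ≤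
      Nat.card ↥(A ⊓ centralizer ({rho g} : Set (Perm (Fin 3510)))) := by
  have e1 : Nat.card ((centralizer ({g} : Set Spor.Fi22)).map rho) = Nat.card (centralizer ({g} : Set Spor.Fi22)) :=
    (Nat.card_congr ((centralizer ({g} : Set Spor.Fi22)).equivMapOfInjective rho rho_injective).toEquiv).symm
  have hle : (centralizer ({g} : Set Spor.Fi22)).map rho ≤ A ⊓ centralizer ({rho g} : Set (Perm (Fin 3510))) := by
    rintro _ ⟨x, hx, rfl⟩
    have hx1 := mem_centralizer_singleton_iff.1 hx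
    refine mem_inf.2 ⟨N_le_A ⟨x, rfl⟩, mem_centralizer_singleton_iff.2 ?_⟩
    rw [← map_mul, hx1, map_mul]
  have hum : u ∈ A ⊓ centralizer ({rho g} : Set (Perm (Fin 3510))) :=
    mem_inf.2 ⟨hu, mem_centralizer_singleton_iff.2 huc⟩
  obtain ⟨k, hk⟩ := card_dvd_of_le hle
  rw [e1] at hk
  have h0 : 0 < Nat.card ↥(A ⊓ centralizer ({rho g} : Set (Perm (Fin 3510)))) := Nat.card_pos
  have hk0 : k ≠ 0 := by
    rintro rfl
    rw [mul_zero] at hk
    omega
  have hk1 : k ≠ 1 := by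
    rintro rfl
    rw [mul_one] at hk
    have h3 : (centralizer ({g} : Set Spor.Fi22)).map rho = A ⊓ centralizer ({rho g} : Set (Perm (Fin 3510))) :=
      eq_of_le_of_card_ge hle (by rw [hk, e1])
    rw [← h3] at hum
    obtain ⟨x, -, hx⟩ := hum
    exact hun ⟨x, hx⟩
  rw [hk, mul_comm]
  exact Nat.mul_le_mul_left _ (by omega)

theorem not_conj_of {g h : Spor.Fi22} (hh : rho h = tau * rho g * tau⁻¹)
    (hc : Nat.card ↥(A ⊓ centralizer ({rho g} : Set (Perm (Fin 3510)))) <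
      2 * Nat.card (centralizer ({g} : Set Spor.Fi22))) : ¬ IsConj g h := by
  intro hgh
  obtain ⟨c, rfl⟩ := isConj_iff.1 hgh
  have hc1 : rho c ∈ N := ⟨c, rfl⟩
  have h1 := two_mul_le (g := g) (u := (rho c)⁻¹ * tau) (A.mul_mem (A.inv_mem (N_le_A hc1)) tau_mem_A)
    (fun hn => tau_notMem (by
      have h2 := N.mul_mem hc1 hn
      rwa [mul_inv_cancel_left] at h2)) (by
    have h3 : tau * rho g = rho (c * g * c⁻¹) * tau := by rw [hh, inv_mul_cancel_right]
    rw [mul_assoc, h3, map_mul, map_mul, map_inv]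
    group)
  omega

/-! ### the outer involution on words -/

theorem sw_lt {x : ℕ} (hx : x < 9) : sw x < 9 := by revert x; decide

theorem rho_sw : ∀ {l : List ℕ}, (∀ x ∈ l, x < 9) → rho (el (l.map sw)) = tau * rho (el l) * tau⁻¹
  | [], _ => by
    show rho 1 = tau * rho 1 * tau⁻¹
    rw [map_one, mul_one, mul_inv_cancel]
  | x :: l, h => by
    have hx := h x List.mem_cons_self
    rw [List.map_cons, el_cons, map_mul, gn_S (sw_lt hx), rho_sw fun y hy => h y (List.mem_cons_of_mem _ hy), el_cons,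
      map_mul, gn_S hx, ← tau_conj hx]
    group

theorem key_tau {g h : Spor.Fi22} (hh : rho h = tau * rho g * tau⁻¹) : key h = key g := by
  unfold key
  refine List.map_congr_left fun k _ => ?_
  rw [hh, pj_conj (A_le_Aut tau_mem_A)]

/-- the class of the cover is determined by the keys, with the bound of the centralizer -/
theorem card_CA_of_key {g : Spor.Fi22} {s : List ℕ} (hg : key g = s) {c : ℕ}
    (hs : ∀ x ∈ D.map fun x => (x.2.1, x.2.2), x.2 = s → x.1 ≤ c) :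
    Nat.card ↥(A ⊓ centralizer ({rho g} : Set (Perm (Fin 3510)))) ≤ c + 1 := by
  obtain ⟨x, hx, r, hrN, hr, b, hb, hgb⟩ := fi_cover (rho g) ⟨g, rfl⟩
  have h1 : keys.map (pj row r) = x.2.2 := key_of_chk (by norm_num) hr (D_sg x hx) (D_len x hx)
  have h2 : key g = x.2.2 := by
    rw [← h1]
    unfold key
    refine List.map_congr_left fun k _ => ?_
    rw [hgb, pj_conj (A_le_Aut hb)]
  have h3 := hs (x.2.1, x.2.2) (List.mem_map.2 ⟨x, hx, rfl⟩) (by rw [← h2, hg])
  obtain ⟨l, L, h4⟩ := D_bd x hx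
  have h5 := card_CA hr h4
  have h6 : Nat.card ↥(A ⊓ centralizer ({rho g} : Set (Perm (Fin 3510)))) =
      Nat.card ↥(A ⊓ centralizer ({r} : Set (Perm (Fin 3510)))) := by
    have e : A ⊓ centralizer ({rho g} : Set (Perm (Fin 3510))) =
        (A ⊓ centralizer ({r} : Set (Perm (Fin 3510)))).map (MulAut.conj b).toMonoidHom := by
      ext y
      constructor
      · rintro ⟨hy, hyc⟩
        have hyc' := mem_centralizer_singleton_iff.1 hyc
        rw [hgb] at hyc'
        refine ⟨b⁻¹ * y * b, ⟨A.mul_mem (A.mul_mem (A.inv_mem hb) hy) hb, mem_centralizer_singleton_iff.2 ?_⟩, ?_⟩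
        · calc b⁻¹ * y * b * r = b⁻¹ * (y * (b * r * b⁻¹)) * b := by group
            _ = b⁻¹ * (b * r * b⁻¹ * y) * b := by rw [hyc']
            _ = r * (b⁻¹ * y * b) := by group
        · show b * (b⁻¹ * y * b) * b⁻¹ = y
          group
      · rintro ⟨y, ⟨hy, hyc⟩, rfl⟩
        have hyc' := mem_centralizer_singleton_iff.1 hyc
        refine ⟨A.mul_mem (A.mul_mem hb hy) (A.inv_mem hb), mem_centralizer_singleton_iff.2 ?_⟩
        show b * y * b⁻¹ * rho g = rho g * (b * y * b⁻¹)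
        rw [hgb]
        calc b * y * b⁻¹ * (b * r * b⁻¹) = b * (y * r) * b⁻¹ := by group
          _ = b * (r * y) * b⁻¹ := by rw [hyc']
          _ = b * r * b⁻¹ * (b * y * b⁻¹) := by group
    rw [e]
    exact (Nat.card_congr (Subgroup.equivMapOfInjective _ _ (MulAut.conj b).injective).toEquiv).symm
  rw [h6]
  omega

end Cfsg.Agent.H878.RIM.Fi
end

-- part: H878/RIM/FiNine
section
set_option linter.all false
open scoped Cfsg.Agent.FastGrp

/-!
# S4816, `Fi22`: an element of order nine whose centralizer has order at most 27 (helper878)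
-/

set_option autoImplicit false
set_option linter.unusedSectionVars false
set_option maxRecDepth 1000000
set_option exponentiation.threshold 5000

namespace Cfsg.Agent.H878.RIM.Fi

open Cfsg Cfsg.Spor Subgroup Cfsg.Agent.H123.Cls Cfsg.Agent.H123.Cls.FiDat
open Cfsg.Agent.H494.F22 (A N N_le_A rho rp tau tau_mem_A tau_notMem tau_sq tau_inv sw rho_injective)
open Cfsg.Agent.H494.F22.Row (row)
open Cfsg.Agent.H326.QS.FiRow (cw el_cw chkE el_eq_of_chkE)
open Equiv

/-- the table -/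
noncomputable def p9 : ℕ := 0xd6dc83c5391cc84c6074a648b75b9bb29b51cc9c4d9076477a4aefc7ebd47268cb72576c67cd7fce7c14728bcfbe491db3aca76dab076f0b02bf0cb27a2b92d1fd6cb32cc1773c22d35d2b8c7727d11d98bd9cd6c0d9e1bd1c85d59c40be3b83af06f19e0c07d07b47c97d44d0cb48b03b69ccfb009a98f9ce9d849afc5663f716673d5a6409b6916b0e941cedc5793f906911d23c4365ad1eb95cb9ce2b1e6998e5c4fb7bb7dd56c09bdecebb8cc5faf3ca4c4e6d8cf7d30ba6b06cccc45714d18922d1a9e8afc692d87c4bb30d33b4c65cbf6905d32659db2baa67f680cf69b9c5cd0bc3c717b9cb599a2b74b9d6a7c6d9deccd8eecc3c42b4dd73d91b5dbe674fd7e775644787bbbbffa97c95ca5ca6d60d66bd874ebc9c9dcf2dabb24c81cad719d45ce579fd2cba2c8fb71c50bf5b3f71bc6bb199e4b4fb189bed8e7249a3947c15ba4d6fb40c61d067296f9bf7ba1674d3ec2ab9a649d70675d09c5b94b9bcbe29b4d53affb2ccaf767b45d4ec31cf0b1473eb2dcd173064bc2c9ad73ad7cb6d938c9f76eb6fb31909d34c98c68b78bbd8cccacc62bc29acc38c8bcc8bbcceec1ad9b74b6a89a1d659039408fa67ed936f2cfdc23d81c9ec7bc4cb90c59b37b65cfecb0d9276d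d8adb1d05c80b8b76bc1dbb9be09b8930774b44cb8c9ab7a8d3da5cd2b946d4d366ba639c0bc3ebcaafecdcafdc73754af26aabf37a1c79d0094672bc2bce0becda890b92066b73fb17763d9ada4dacbc68dad5dd78ca12f6caec82b9ecec8c671563eb04b05b73d3a63ac8acc79a0d2867ac30c899d4c9960fb986bb93bd7b65bc55c41d19cc5d68add505ace73cc377116697a0cb4babc8cbdfd77b5fc32d4d94955cd2ad83b08d74af7c46b93766bf28e98e88f86986d6d8dd2eb72bfab636b86578c9c1774db6cc2669dd248c5b57b50b2fcea6a66b96589c5ce8693d8692b9c7cf59c6d0891a64ac67db4db5c3fd0e8e38c4d8094ad827a5776d61c2db33b0bd95677af1d0a8e792ec026a3d6ed149029eccd8703c13c6ed72c76d1d9b2b99bb1934ce3db394393172f9dfd7d753cd76c0870b22c8ebefd67bdd71a7647389d89e32facd5b7cd206f8b21b5ed21bd3772c21d5c9a8701d37c9463d73b8d1c77c91c65c017626976efc12cb59e71ef9b18ca91363bc19912c726139d3c58cf872ad3d7886d9b6ebc3ca2c1bb5ad2f8c3bdcd638e493eb91d3fc90bbab016bdcbb7529046d5809bbfbccd4b9b06acc03bed6b7b2e785b1a8dfb39b67765ca0935d6ac875b5ab360e419ac971093c6bcb60667c3dba594cc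54942dad9d9bdac069a7b77d46b8a756cbdb86c6a8e6bc7d506d3bce901bc0d048decffb58d4ccba6f7656bb07866a5bfeb89baf4c0bf1cb1c10b3cd549bf9c0c35b41c6cd52c3bcfcb20b4a2f7d5fc1ec1691b7a3ce6be5c0ebf8cf1676b66b38c5a71f71ed94cd3b136f69ebd996ea748db0ba731f2ed153c7d923beb9bab35b34b236f493269eae62422d478d4258548f42f35551ce2fc84260680c6883fb4205db2cb4eb4ec47a539ab68252f118b322243ac48b983498529888034f3b128a2ca97661698384152b4078567b15878613fd5ce4e02255feaa7c275a7ade31a2ba7d2aa074258d799aafad079a6ae60054939056a88dabc4c714f50080a3425bf1a15574f21957b883587382f4f3a85a3fa03a22a42a3795fa17a1e9579ff96d961a1ba70a395f79fda6da28a19a2ca15a77a44a69a7647ca4aa60a94a5c95ea1da83a34a8ca23a5aa51a14a63a45a06a75a9195aa33a65a3aa7da2a8c0443a12a56a1f6e7a78a79a16958a84a26a677ac94e6b3a049cea21a31a92a89a7ca8aa2ba621718b395da5fa80954a02a7ea2da0196e465a7fa3ba10a5e95ca40a58a53a05a24a009fea077be96a4978b6955a08a0fa6e956a90a66a25a0da82a87a41a4da8b9f5a72a738d7a6ba6aa29a4ba8ea88a8da5ba64a3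8459a5d8b2a279f870da546c71aaa8fa74a0ba7aa57a4ca0ca35959a4fa6fa2ea59a09a481404f738c8088588cdd22b4bd109bbd97c39c7f771d58c4877dd02b2bb967409ca71cb3eaa867d90866ab3dda2d9ed969edcfac6691f9e29f0800a93704d16c47b70199244c04900c937845341cf7a8daeca9705b2ab97d27760ba8d389a6d0db5c7398d9b8d69a9e9b15987ca36d2b8829cb10780c44c0c89bc05bb59dac92d1cc965a6ad82c15889aa3ad3ed3525e336681f6641904765549812a445765e41e36e60db539997bc5357c68171d761547b2a619832884c2234368d426640558c998ad59c14489935ae238736a612a3269a115fd53a99a4fd41a451986a8694f9f7a47953a55960a0ea81a3ea7b9fc9f99fb950a49a4ea6c7b7a50461219b286fac3acdd768d01da1d40d898c8be7cabd79cd4670cb6bb4d155632ccc08b49917b6299fbfbbd676acf4924cdbc75d69d3b1888b08303547de9ccb1d6ec6956f36a0696bfcbd5b80be9c25b1b3497c472dc00c2fc8893771d66f25dbcbbae750cdad76914da6d88d489ea6f5bdbd64b0f66e1ec28b6424ed341cdfb816a2ce18dc77f5563fe36c2a1700bb2c33c861cb75a537c9c751cd9dafbf4b79cbc6a1b117e7b36bc59108e2bcd9d592d9cba713ce222745b42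6456ab713d1b9d6bc1d12b76cc2d29cc4b27d51761b5bd39ba9a1ca137e639462157557455d3ec53c68495124f977a18a1a7f77d777b9948068487c5a4344c4632bf5a01c352c7d440b43a2cd40f18f88235144040d2e22e37ba2863df4581c62a53006656ddae732b161ad78bb54f2ff3337f64552593628b836562223d7c115c19343b66125c94833e4ea6121c929b16538f3883fc56dad498fa9b3ff84e81382919e57a1c54231d456c54b2d34375e4a9e4c44dc55333859e81d5a954d3d34382eeaea1943b85c6988329ac34542ac27a4624743bb92aaec1eb4267977582998a95d781a21f2613e13c634c60287933c32e4a21f6ab46dfac03704fe3e215b3c73247d064183e16316248a1ed6ff40c8ae5dd4a623f6296105d4bb72e445698e25b58b56f371611571abd3774d87e05817cd4b61927b57d33a35e14118af7f485251c7fc4832aa73432a1601f149f4858a430c30dacc53f7d58143ae37e37d433b6a2f472189989a80f3f999b5165152bc4685278153a598c96f46b25819a8fc78e97870b6665bb41486cab197b5c75b4164c286e1779ae91c883c8558c118427b21523983b27896250962c6cd4272878014394ac9c20dd63495285c1e48f3573ab09cdb468f593369fd4fd7560453341d7e38404b06ca1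dc44550b4755238ab7aa4a41d55863378a893a99e9dbd4290d9b7671b7f8e08775596b6beece4722be8abeac25943aa6b1d259b5712770b856ee9b39d792590ed9c672944876489bc8d4ad90655af569ccf3af487532683889047838a37a87a35dd137499e5c1fd5b9e6c71c9bc36cbeccab9faf8b0ac5d8d259a39c4a13cf35f487d85c0abe1702cced8c919cb3d6b214a462d55c55b34a0565c516ed91ecef93dc6fd716689ab915d9dd17b4e9bd74c7b334bb7eda0718d55d2d8edc52694bfdbbe64667b8dd77c9efcc09707929fa2354cd2c95ef6081d11f2cd0c63b82da7d5e6eb56788f2c845029ab68b3bb618c2da9945b0cd62d41c7ac20b648db77ebb6d0f8f062a660a520c50531721fb6e96e861ec3458254e625aaed268efd7accbba0cf98f7bd2c8d4d027219f2c061b61dadf97c5f94b25da5a341c8239642f95032c73e33c8c789dc72e90c9218e1cbfc2e5608468aa0c311737b5e719673266d9c4bd09d18ced3cb09c24bea63cbadb43789ba3b0dc1cd8fb1fc5eaf68d0cfbc499a4d31c0fbf9aca400aa16515b8273248652a2f16fac549d2e52dd2fbadc75d723d49bb3b6bb8ec69c7ccdeaee90a76fb8492fc74755c7092cb1c6796a46a9d43bc4ca86d7cc65968107fb7f11163b238b8bfae389f66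c9d28d8d9fc64747da3d8b33416e4923a740e25e58e5f147073dcaa9d08cfd578f6c11bd74027c78fbd47b1272c69bcb79eeb25daa3507c3662777a0a68909d0a10c244796548b3125903cd972aba6de2f28336bfa9a1cd3db97d55f8b785a4cf5b76cb4305ca4d93156cc8375be5bd4a882a8113dc827406a984ab25aaab5c236aa9d78f99c53e77887f7df87b90f5c09f229056914b6331868eb530ada82d29fd03845a681daad23ba3452c557c37c3a65f63fa79d41b41f5227ff68515d8782b6a3048d3464ae4956cf68d31d9844ee82b31b49e1f030186d1663609906e49f499d2ce1f5a9f6d055b3735e99711894935a131614d1a75f46e323168693929d43e49b5ff8532fe8bc2fd4643558944296371871a95ec15f3e4864304682562843b527db59b15e70a8713634691de33a7905312ef97f6afacf4f09184de1506537e56d17dc8ac36475e5cb86a70f4287b2678a962452465041cc65d5c355a8627439a56fc6095e861443c4217462851e120a7bd2da63829282c73186e9638288681a08727413da5832707445786912f55069c346f97597e88c56b89289d3f18843f045a5451591572601e375c51f7ed3235df87d8605612c62e67968391f833f34031c98a34a98b7954083c97338d58038fd3a4b877fa542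54179399184775f0ce3e96fe83a3e084a85029320f2a92a885b3a12eb7e157f2e74a32ec4e9374abb5bc4a7aa659781864331847d5ea24b6b041757b20057e31941641518a4965d95e55895324d15997d14b94bb4988596074aa393acb81c2263eac2957d8367cb3cc8194ef4015019824e82417b480d5641f41f34889ae78a4fb2326172e83eb7e2ae4c1886f7093c33c287439a5725c18be79e35e3e55118a629144f2ea2e94fa2db5b6aa556e6273724187cc3144b71914e34a9769781a9c64d8a23f2ab54245182648075f8a3c2575ba5cc3ca7ca3cb3b75914e44e52499961673a93f8ae82978a145349c29659523b5664731dba3651a21721688aac7708afa8a57a95802b42842ae81e18e5cd1c4bb83475a4412584a3d1e279115695b0ae0eb0f122f279283263a325447ef2136505b02d02b82827eb28e28f4df46c4919793bd4463a84f63f3519a207c22958985af54a1e97f93c4ad34229748264c24949664f522924d4b86c5ae14da3af1f71552347fe49a51e7ec6c16fd8936e040932032134431e3983bf2bb82e78269086675919b80e42a4802ab89e9808318956c25284c17208a35766208676c66ce3973433be3bc9c858a3c14ffb559c9579369ad95b179438032f5ab54821c51d5473351bf82182033d5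d19897f05138492c33a04bf88347e2b73823616c842b4672e021a44d1c01e05464f88025264d25d060139f2c480587c81234d23e6ad4d57c836f5d5afb1bb48f4db3d61ba5b94e6ab219c88e1684665401547bf7e95dc2308ad45d4ba3f63f542c35c99751240483db8fae52f8aed62857036b83f783b161bc48e31762f8b5151aaa8bd82438126b26c3835a235b7af1c25245fb5c842d26246d7cf7351ea3e662b1a322424a4036fb3c578c80b6033783957575984bd2712477b668e68c61f1eeab8327af94be52f1a41fc14c25621170e18c3067b046a3f42dcbac6b523659d32c4c51523877e843543243436dae279c348240379ae08fe6057c94d65921d31d219d8441c747f52050c2511e73055fc18d4797fd26896b39e927a99aa25d688181b2f0502acd53639b8693c08323994f14d73895084c35d85eb4316e23e85f32773303ef2af2d95f002f4994b55aaab988645b89652139d52a4a58ff85fad16236246265774d34d44bc8163a25e05a8ad6507aa4339adb7a755164c9262ad3573d250d5431321820af1106c93de6b41e8ac8851ab715a77a9297bb2a043f1d09679688ba7e41976dc8ea78b84f48653d3b04e24dd3b965f4ce5d3c4a5582201f93d07c02675ad5ac4810340cf07f20b40a20e21238675b51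08918b496c7374842d868364e888237b2659f88921b45c8857f36639cf37f35834e85e7ce2cf23c6813255d29363d13ab3d826f38486b3361584cc4822b320246051b45e0ea1e635920d50f7ee86561c8f24b31ab1701a844a52556841328c0ac7b92b52b02a24775b288b992abf87e99535641030b3322107ae1e52334f91c108508222d35327442e44922168f68b68a928396ac64fc4f44907d928828984d33b8f189c3dd8ecac155e60c2c270630f3033023f74e126d3ac38e26a1ff08142f4c93b644b26e24e2274b14ca28d7981be1a50ad4423077ea7f544153b23a29470730e2d72d689738544430a25f22e20c6545fa16c22b13914528008701d3d908c60a6191bd8d61288a71fd52e3683675527a6aa953845229e43d5172182a72654b48635f28a07d62553ee3d446e4af38d1371246186871a20883114cb6c43923919f39f1aad9dd1ca85770c98d9692b984b6be7d85de5297dd97a376b544ad4c662d50a1411fe22a58501f07002a0b212c0290b00860ba1d903a13c13b1b97ab24c2762bd1b708d27522858f5ed14e9734e75e65cf822b567da94d59c47188764f2d254c2d1aa33756c379baac2094c835a59331061a2be3b52df0b817d0371b106b1330351b808312a0b60250312530301231859f61491df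50e1201480a81af1b61d61d85e248c3135f53e732d8044727f25148b17f860b52da955506db5c4aeb20833130844e5a52503b33d785d62e3b417406a1300261760a902d14a5ee06f0bf0be1420bb16b1210bc5c91dd02c0170160120141751ac3d51b207301a0b40b316a14712f17b18312907517c25203c0380d445f0cd10711810c0dc0f60f81120f90db0de1060e80f02de0d527d0ee10f0ec10511910110910d10a0ca0fc0da0ff0a60fa1006351151146360fe0d30fd00d0e511d0e70e90ef11a0e210827e11111b2b20ed10b10e27c0e00e30d00f27ad1020fb0d90cb0d811309b0e61030df1040cc0f50c90f40d20d10e10f70c811c0d60526e609f63263063104808920402220108b07817f20601318022c2051811780270ab21e2e107d1b31271380180230361350e409c0a005004f04d0c10540a504c0c406305f09709906609300905506106505904500a05d13417306c02b01c30920707401b17e02017a03212d2541310391690aa1a60b707b1771fa21d28107907e01e2b107702103b13d11e16d06e06905700300b08f0410d709a09009209403f06000e06703d09809108e0566e50a209e04e6b20c604a0a30c70510490a404b06200c00809504204605b06400201000f0c00150110681b50711430bd1b01251ad11f2030760840b912e17903306d14602e01907214412b0b127f02807c1b40b502407a13a1ae12608008a12213f0a713613e05a03e0070440f300605c04304004709605805e000004005001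

theorem p9_chk : chkW 3510 12 gens p9 ([7, 1, 4, 3] ++ [7, 5, 2, 3]) = true := by decide +kernel

theorem p9_key : chkKey 3510 12 row 12 p9 keys [2484, 2268] = true := by decide +kernel

/-- the element of order nine -/
noncomputable def y9 : Spor.Fi22 := el ([7, 1, 4, 3] ++ [7, 5, 2, 3])

theorem y9_tab (p : Fin 3510) : (rho y9 p : ℕ) = lk 12 p9 p := by
  obtain ⟨h1, h2⟩ := band_true p9_chk
  rw [Nat.eq_of_beq_eq_true ((allN_iff _ _).1 h2 p p.2)]
  exact ev_tab _ (chkL_iff _ _ h1) p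

theorem key_y9 : key y9 = [2484, 2268] := key_of_chk (by norm_num) y9_tab p9_key rfl

theorem y9_pow : y9 ^ 9 = 1 := by
  unfold y9
  rw [← el_rp, el_eq_of_chkE (v := []) (by decide +kernel)]
  rfl

theorem bound9 : ∀ x ∈ D.map fun x => (x.2.1, x.2.2), x.2 = [2484, 2268] → x.1 ≤ 53 := by
  unfold D
  decide +kernel

theorem card_y9 : Nat.card (centralizer ({y9} : Set Spor.Fi22)) ≤ 27 := by
  have h1 := card_CA_of_key key_y9 bound9
  have e : rho y9 = (tau * rho (el [7, 5, 2, 3])) * (tau * rho (el [7, 5, 2, 3])) := by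
    have h2 := rho_sw (l := [7, 5, 2, 3]) (by decide)
    have h3 : ([7, 5, 2, 3] : List ℕ).map sw = [7, 1, 4, 3] := by decide
    rw [h3, tau_inv] at h2
    unfold y9
    rw [el_append, map_mul, h2]
    group
  have hN : rho (el [7, 5, 2, 3]) ∈ N := ⟨_, rfl⟩
  have h4 := two_mul_le (g := y9) (u := tau * rho (el [7, 5, 2, 3]))
    (A.mul_mem tau_mem_A (N_le_A hN)) (fun hn => tau_notMem (by
      have h5 := N.mul_mem hn (N.inv_mem hN)
      rwa [mul_inv_cancel_right] at h5)) (by rw [e]; group)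
  omega

end Cfsg.Agent.H878.RIM.Fi
end

-- part: H32/NY/Defs
section
set_option linter.all false

/-!
# S4816, layer (I): the imprimitive situation without conditions on `q` (helper32)

`CoreW p q K N φ` is `Core2` of S4979 without the fields `ne`, `qS`, `qs`, `qN`: `V` is an elementary abelian `q`-group and
`q = p` is allowed.  `ImpW p q W K N Q φ` is `ImpC` without `cop`.
-/

set_option autoImplicit false

open Cfsg
open scoped Pointwise

namespace Cfsg.Agent.H20.NX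
end Cfsg.Agent.H20.NX

namespace Cfsg.Agent.H322.NX
end Cfsg.Agent.H322.NX

namespace Cfsg.Agent.H239.NX
end Cfsg.Agent.H239.NX

namespace Cfsg.Agent.H912.NX
end Cfsg.Agent.H912.NX

namespace Cfsg.Agent.H32.NY.A37
end Cfsg.Agent.H32.NY.A37

namespace Cfsg.Agent.H32.NY.A20
end Cfsg.Agent.H32.NY.A20

namespace Cfsg.Agent.H32.NY.A322
end Cfsg.Agent.H32.NY.A322

namespace Cfsg.Agent.H32.NY.A239
end Cfsg.Agent.H32.NY.A239

namespace Cfsg.Agent.H32.NY.A912
end Cfsg.Agent.H32.NY.A912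

namespace Cfsg.Agent.H32.NY.A32

open Cfsg.Agent.H32.NX9

/-- The core situation, `q = p` allowed. -/
structure CoreW (p q : ℕ) {H V : Type*} [Group H] [Finite H] [AddCommGroup V] [Finite V]
    [DistribMulAction H V] (K N : Subgroup H) (φ : N →* ℂˣ) : Prop where
  odd : p ≠ 2
  perf : commutator H = ⊤
  nK : K.Normal
  Kt : K ≠ ⊤
  maxK : ∀ M : Subgroup H, M.Normal → M ≠ ⊤ → M ≤ K
  simp : IsSimpleGroup (H ⧸ K)
  na : ¬ IsMulCommutative (H ⧸ K)
  pK : ¬ p ∣ Nat.card K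
  pS : p ∣ Nat.card (H ⧸ K)
  cen : N ≤ Subgroup.center H
  NK : N ≤ K
  Nne : N ≠ ⊥
  inj : Function.Injective φ
  exp : ∀ v : V, q • v = 0
  nt : Nontrivial V
  ker : ∀ h : H, (∀ v : V, h • v = v) ↔ h ∈ N
  irr : ∀ W : AddSubgroup V, (∀ h : H, ∀ w ∈ W, h • w ∈ W) → W = ⊥ ∨ W = ⊤
  P1 : ∀ v : V, ¬ p ∣ (MulAction.stabilizer H v).index
  P2 : ∀ (v : V) (χ : ↥(MulAction.stabilizer H v) → ℂ),
    IsIrrCharacter ↥(MulAction.stabilizer H v) χ →
    (∀ n (hn : n ∈ N) (hn' : n ∈ MulAction.stabilizer H v), χ ⟨n, hn'⟩ = χ 1 * φ ⟨n, hn⟩) →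
    ¬ p ∣ charDegree χ

/-- The imprimitive situation, `q = p` allowed. -/
structure ImpW (p q : ℕ) {H V B : Type*} [Group H] [Finite H] [AddCommGroup V] [Finite V]
    [DistribMulAction H V] [Finite B] [MulAction H B] (W : B → AddSubgroup V) (K N Q : Subgroup H)
    (φ : N →* ℂˣ) : Prop where
  core : CoreW (V := V) p q K N φ
  hp : p.Prime
  hq : q.Prime
  smulW : ∀ (g : H) (i : B), g • W i = W (g • i)
  ind : iSupIndep W
  top : ⨆ i, W i = ⊤
  memQ : ∀ g : H, g ∈ Q ↔ ∀ i : B, g • i = i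
  QK : Q ≤ K
  card : p + 2 ≤ Nat.card B
  lab : ∀ (Γ : Set B) (b : B), b ∈ Γ → Γ.ncard = p → ∀ T : Subgroup H, (∀ t ∈ T, t • b = b) →
    (∀ t ∈ T, ∀ c ∈ Γ, t • c ∈ Γ) → p ∣ T.index
  trans : ∀ i, ∀ a ∈ W i, ∀ b ∈ W i, a ≠ 0 → b ≠ 0 → ∃ m : H, m • i = i ∧ m • a = b
  t3 : ∀ i j k i' j' k' : B, i ≠ j → i ≠ k → j ≠ k → i' ≠ j' → i' ≠ k' → j' ≠ k' →
    ∃ h : H, h • i = i' ∧ h • j = j' ∧ h • k = k'
  type : (Q = K ∧ IsAlt H B ∧ ((p = 3 ∧ Nat.card B = 5) ∨ 8 ≤ Nat.card B)) ∨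
    (p = 3 ∧ Nat.card B = 8 ∧ Q.index = 1344)

end Cfsg.Agent.H32.NY.A32
end

-- part: H32/NY/Coord
section
prune_inst 0x2d4306f055720000000040010a00000903100010200400000e8e605040108024289468001181004100010804060040028125c0010400000000000040000000521108802048018ac00100006000004000000000000000000000000000000000000000000000
set_option linter.all false
open scoped Cfsg.Agent.FastGrp

/-!
# S4979, layer (I): coordinates on the Sylow `r`-subgroup (helper322)

For `R : RData r a W N Q P t` the element `x ∈ P` acts on the block `W i` as `t i ^ (X R i x)`; `X R i (x y) = X R i x + X R i y`,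
`X R (h i) (h x h⁻¹) = U R h i * X R i x`, where `U R` is a cocycle with values in the units of `ZMod (r ^ a)`.
-/

set_option autoImplicit false
set_option linter.unusedSectionVars false

open Cfsg
open scoped commutatorElement Pointwise

namespace Cfsg.Agent.H32.NY.A322

open Cfsg.Agent.H322.NX Cfsg.Agent.H32.NX9 Cfsg.Agent.H32.NY.A32

open Cfsg.Agent.H32.NX9 Cfsg.Agent.H32.NY.A32 Cfsg.Agent.H37.NX Cfsg.Agent.H32.NY.A37

variable {p q r a : ℕ} {H V B : Type*} [Group H] [Finite H] [AddCommGroup V] [Finite V]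
  [DistribMulAction H V] [Finite B] [MulAction H B] {W : B → AddSubgroup V} {K N Q P : Subgroup H}
  {φ : N →* ℂˣ} {t : B → H}

theorem smul_mem (I : ImpW (V := V) p q W K N Q φ) (g : H) {i : B} {w : V} (hw : w ∈ W i) :
    g • w ∈ W (g • i) := by
  rw [← I.smulW]
  exact AddSubgroup.smul_mem_pointwise_smul _ _ _ hw

theorem smul_memQ (I : ImpW (V := V) p q W K N Q φ) {g : H} (hg : g ∈ Q) {i : B} {w : V}
    (hw : w ∈ W i) : g • w ∈ W i := by
  have h := smul_mem I g hw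
  rwa [(I.memQ g).1 hg i] at h

theorem inv_smul_mem (I : ImpW (V := V) p q W K N Q φ) (g : H) {i : B} {w : V}
    (hw : w ∈ W (g • i)) : g⁻¹ • w ∈ W i := by
  have h := smul_mem I g⁻¹ hw
  rwa [inv_smul_smul] at h

/-- an element trivial on all blocks is in `N` -/
theorem mem_N (I : ImpW (V := V) p q W K N Q φ) {g : H} (hg : ∀ i, ∀ w ∈ W i, g • w = w) : g ∈ N := by
  rw [← I.core.ker]
  let F : AddSubgroup V :=
    { carrier := {v | g • v = v}
      zero_mem' := smul_zero g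
      add_mem' := fun {x y} hx hy => by
        show g • (x + y) = x + y
        rw [smul_add, show g • x = x from hx, show g • y = y from hy]
      neg_mem' := fun {x} hx => by
        show g • (-x) = -x
        rw [smul_neg, show g • x = x from hx] }
  have h1 : (⨆ i, W i) ≤ F := iSup_le fun i w hw => hg i w hw
  rw [I.top] at h1
  exact fun v => h1 (AddSubgroup.mem_top v)

theorem smul_of_mem_N (I : ImpW (V := V) p q W K N Q φ) {g : H} (hg : g ∈ N) (v : V) : g • v = v :=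
  (I.core.ker g).2 hg v

theorem N_le_Q (I : ImpW (V := V) p q W K N Q φ) (hW : ∀ i, W i ≠ ⊥) : N ≤ Q := by
  intro n hn
  rw [I.memQ]
  intro i
  by_contra hne
  obtain ⟨w, hw0⟩ := AddSubgroup.ne_bot_iff_exists_ne_zero.1 (hW i)
  have hw : (w : V) ∈ W i := w.2
  have h1 : (w : V) ∈ W (n • i) := by
    have := smul_mem I n hw
    rwa [smul_of_mem_N I hn] at this
  have h2 := (I.ind i)
  have h3 : W (n • i) ≤ ⨆ (j) (_ : j ≠ i), W j := le_iSup₂_of_le (n • i) hne le_rfl
  have h4 := (disjoint_iff.1 h2).le (show (w : V) ∈ W i ⊓ ⨆ (j) (_ : j ≠ i), W j from ⟨hw, h3 h1⟩)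
  exact hw0 (Subtype.ext (by simpa using h4))

/-- agreement on a block -/
def Ag (W : B → AddSubgroup V) (i : B) (x y : H) : Prop := ∀ w ∈ W i, x • w = y • w

theorem Ag.rfl' {i : B} {x : H} : Ag W i x x := fun _ _ => rfl

theorem Ag.symm {i : B} {x y : H} (h : Ag W i x y) : Ag W i y x := fun w hw => (h w hw).symm

theorem Ag.trans {i : B} {x y z : H} (h : Ag W i x y) (h' : Ag W i y z) : Ag W i x z :=
  fun w hw => (h w hw).trans (h' w hw)

theorem Ag.mul (I : ImpW (V := V) p q W K N Q φ) {i : B} {x y x' y' : H} (h : Ag W i x y)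
    (h' : Ag W i x' y') (hy : y' ∈ Q) : Ag W i (x * x') (y * y') := fun w hw => by
  rw [mul_smul, mul_smul, h' w hw, h _ (smul_memQ I hy hw)]

theorem Ag.pow (I : ImpW (V := V) p q W K N Q φ) {i : B} {x y : H} (h : Ag W i x y) (hy : y ∈ Q)
    (n : ℕ) : Ag W i (x ^ n) (y ^ n) := by
  induction n with
  | zero => rw [pow_zero, pow_zero]; exact Ag.rfl'
  | succ n ih => rw [pow_succ, pow_succ]; exact Ag.mul I ih h hy

theorem Ag.inv (I : ImpW (V := V) p q W K N Q φ) {i : B} {x y : H} (h : Ag W i x y) (hx : x ∈ Q)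
    (hy : y ∈ Q) : Ag W i x⁻¹ y⁻¹ := fun w hw => by
  have h1 := h _ (smul_memQ I (inv_mem hy) hw)
  rw [smul_inv_smul] at h1
  rw [inv_smul_eq_iff, h1]

theorem Ag.conj (I : ImpW (V := V) p q W K N Q φ) {i : B} {x y : H} (h : Ag W i x y) (g : H) :
    Ag W (g • i) (g * x * g⁻¹) (g * y * g⁻¹) := fun w hw => by
  rw [mul_smul, mul_smul, mul_smul, mul_smul, h _ (inv_smul_mem I g hw)]

section R

variable (R : RData r a W N Q P t)

theorem neZero_ra (R : RData r a W N Q P t) : NeZero (r ^ a) := ⟨pow_ne_zero _ R.prime.ne_zero⟩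

theorem Ag_pow_iff (R : RData r a W N Q P t) (i : B) (j k : ℕ) :
    Ag W i (t i ^ j) (t i ^ k) ↔ (j : ZMod (r ^ a)) = k := by
  rw [ZMod.natCast_eq_natCast_iff]
  have key : ∀ {j k : ℕ}, j ≤ k → (Ag W i (t i ^ j) (t i ^ k) ↔ j ≡ k [MOD r ^ a]) := by
    intro j k hjk
    obtain ⟨l, rfl⟩ := Nat.exists_eq_add_of_le hjk
    rw [Nat.modEq_iff_dvd' (Nat.le_add_right _ _), Nat.add_sub_cancel_left, ← R.ord i l]
    refine forall₂_congr fun w hw => ?_
    rw [pow_add, mul_smul, eq_comm, smul_left_cancel_iff]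
  rcases le_total j k with h | h
  · exact key h
  · rw [show Ag W i (t i ^ j) (t i ^ k) ↔ Ag W i (t i ^ k) (t i ^ j) from ⟨Ag.symm, Ag.symm⟩, key h]
    exact ⟨Nat.ModEq.symm, Nat.ModEq.symm⟩

open Classical in
/-- the coordinate of `x ∈ P` on the block `i` -/
noncomputable def X (R : RData r a W N Q P t) (i : B) (x : H) : ZMod (r ^ a) :=
  if h : x ∈ P then ((Classical.choose (R.gen i x h) : ℕ) : ZMod (r ^ a)) else 0

theorem X_iff {x : H} (hx : x ∈ P) (i : B) (j : ℕ) : X R i x = (j : ZMod (r ^ a)) ↔ Ag W i x (t i ^ j) := by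
  have h1 : Ag W i x (t i ^ Classical.choose (R.gen i x hx)) := Classical.choose_spec (R.gen i x hx)
  rw [X, dif_pos hx, ← Ag_pow_iff R i]
  exact ⟨fun h => h1.trans h, fun h => h1.symm.trans h⟩

theorem X_val {x : H} (hx : x ∈ P) (i : B) : Ag W i x (t i ^ (X R i x).val) := by
  haveI := neZero_ra R
  rw [← X_iff R hx, ZMod.natCast_zmod_val]

theorem X_one (i : B) : X R i 1 = 0 := by
  rw [← Nat.cast_zero, X_iff R (one_mem P), pow_zero]; exact Ag.rfl'

theorem X_eq_zero {x : H} (hx : x ∈ P) (i : B) : X R i x = 0 ↔ ∀ w ∈ W i, x • w = w := by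
  rw [← Nat.cast_zero, X_iff R hx, pow_zero]
  exact forall₂_congr fun w _ => by rw [one_smul]

theorem X_t (i : B) : X R i (t i) = 1 := by
  rw [← Nat.cast_one, X_iff R (R.tP i), pow_one]; exact Ag.rfl'

theorem X_mul (I : ImpW (V := V) p q W K N Q φ) {x y : H} (hx : x ∈ P) (hy : y ∈ P) (i : B) :
    X R i (x * y) = X R i x + X R i y := by
  haveI := neZero_ra R
  conv_rhs => rw [← ZMod.natCast_zmod_val (X R i x), ← ZMod.natCast_zmod_val (X R i y), ← Nat.cast_add]
  rw [X_iff R (mul_mem hx hy), pow_add]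
  exact Ag.mul I (X_val R hx i) (X_val R hy i) (pow_mem (R.PQ (R.tP i)) _)

theorem X_inv (I : ImpW (V := V) p q W K N Q φ) {x : H} (hx : x ∈ P) (i : B) :
    X R i x⁻¹ = - X R i x := by
  have h := X_mul R I hx (inv_mem hx) i
  rw [mul_inv_cancel, X_one] at h
  exact eq_neg_of_add_eq_zero_right h.symm

theorem X_pow (I : ImpW (V := V) p q W K N Q φ) {x : H} (hx : x ∈ P) (i : B) (n : ℕ) :
    X R i (x ^ n) = n * X R i x := by
  induction n with
  | zero => rw [pow_zero, X_one, Nat.cast_zero, zero_mul]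
  | succ n ih => rw [pow_succ, X_mul R I (pow_mem hx n) hx, ih]; push_cast; ring

/-- the cocycle -/
noncomputable def U (R : RData r a W N Q P t) (h : H) (i : B) : ZMod (r ^ a) := X R (h • i) (h * t i * h⁻¹)

theorem X_conj (I : ImpW (V := V) p q W K N Q φ) {x : H} (hx : x ∈ P) (h : H) (i : B) :
    X R (h • i) (h * x * h⁻¹) = U R h i * X R i x := by
  haveI := neZero_ra R
  have h1 := (X_val R hx i).conj I h
  have h2 : h * t i * h⁻¹ ∈ P := R.nP.conj_mem _ (R.tP i) h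
  have h3 := Ag.pow I (X_val R h2 (h • i)) (pow_mem (R.PQ (R.tP (h • i))) _) (X R i x).val
  conv_rhs => rw [← ZMod.natCast_zmod_val (X R i x), ← ZMod.natCast_zmod_val (U R h i), ← Nat.cast_mul]
  rw [X_iff R (R.nP.conj_mem _ hx h), pow_mul]
  refine h1.trans ?_
  rw [← conj_pow]
  exact h3

theorem X_all (I : ImpW (V := V) p q W K N Q φ) {x : H} (hx : x ∈ P) (h : ∀ i, X R i x = 0) : x ∈ N :=
  mem_N I fun i => (X_eq_zero R hx i).1 (h i)

theorem X_N (I : ImpW (V := V) p q W K N Q φ) {x : H} (hx : x ∈ P) (h : x ∈ N) (i : B) : X R i x = 0 :=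
  (X_eq_zero R hx i).2 fun w _ => smul_of_mem_N I h w

theorem U_one (i : B) : U R 1 i = 1 := by
  have h : (1 : H) * t i * 1⁻¹ = t i := by group
  rw [U, h, one_smul, X_t]

theorem U_mul (I : ImpW (V := V) p q W K N Q φ) (g h : H) (i : B) :
    U R (g * h) i = U R g (h • i) * U R h i := by
  have h1 := X_conj R I (R.nP.conj_mem _ (R.tP i) h) g (h • i)
  have h2 : g * (h * t i * h⁻¹) * g⁻¹ = g * h * t i * (g * h)⁻¹ := by group
  rw [h2] at h1
  rw [U, mul_smul, h1]
  rfl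

theorem U_inv (I : ImpW (V := V) p q W K N Q φ) (h : H) (i : B) : U R h⁻¹ (h • i) * U R h i = 1 := by
  rw [← U_mul R I, inv_mul_cancel, U_one]

theorem U_unit (I : ImpW (V := V) p q W K N Q φ) (h : H) (i : B) : IsUnit (U R h i) :=
  isUnit_iff_exists_inv'.2 ⟨_, U_inv R I h i⟩

theorem U_conj (I : ImpW (V := V) p q W K N Q φ) (g h : H) (i : B) (hi : h • i = i) :
    U R (g * h * g⁻¹) (g • i) = U R h i := by
  rw [U_mul R I, U_mul R I, inv_smul_smul, hi]
  calc U R g i * U R h i * U R g⁻¹ (g • i) = (U R g⁻¹ (g • i) * U R g i) * U R h i := by ring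
    _ = _ := by rw [U_inv R I, one_mul]

theorem U_P (I : ImpW (V := V) p q W K N Q φ) {x : H} (hx : x ∈ P) (i : B) : U R x i = 1 := by
  have h1 : x * t i * x⁻¹ = ⁅x, t i⁆ * t i := by rw [commutatorElement_def]; group
  have hc : ⁅x, t i⁆ ∈ P := by
    rw [commutatorElement_def]
    exact mul_mem (mul_mem (mul_mem hx (R.tP i)) (inv_mem hx)) (inv_mem (R.tP i))
  rw [U, (I.memQ x).1 (R.PQ hx) i, h1, X_mul R I hc (R.tP i), X_N R I hc (R.comm x hx _ (R.tP i)), X_t,
    zero_add]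

/-- reduction modulo `r` -/
noncomputable def red (R : RData r a W N Q P t) : ZMod (r ^ a) →+* ZMod r :=
  ZMod.castHom (dvd_pow_self r (by have := R.ha; omega)) (ZMod r)

theorem isUnit_iff (z : ZMod (r ^ a)) : IsUnit z ↔ red R z ≠ 0 := by
  haveI := neZero_ra R
  haveI : Fact r.Prime := ⟨R.prime⟩
  have ha : a ≠ 0 := by have := R.ha; omega
  have h1 : red R z = ((z.val : ℕ) : ZMod r) := by
    conv_lhs => rw [← ZMod.natCast_zmod_val z]
    rw [map_natCast]
  rw [h1, Ne, ZMod.natCast_eq_zero_iff]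
  conv_lhs => rw [← ZMod.natCast_zmod_val z]
  rw [ZMod.isUnit_iff_coprime, Nat.coprime_comm, Nat.coprime_pow_left_iff (Nat.pos_of_ne_zero ha),
    Nat.Prime.coprime_iff_not_dvd R.prime]

/-- an `r'`-element of the units congruent to `1` mod `r` is `1` -/
theorem eq_one_of_red {u : ZMod (r ^ a)} {n : ℕ} (hn : ¬ r ∣ n) (hu : u ^ n = 1) (h1 : red R u = 1) :
    u = 1 := by
  haveI : Fact r.Prime := ⟨R.prime⟩
  have h2 : (∑ i ∈ Finset.range n, u ^ i) * (u - 1) = 0 := by rw [geom_sum_mul, hu, sub_self]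
  have h3 : IsUnit (∑ i ∈ Finset.range n, u ^ i) := by
    rw [isUnit_iff R, map_sum]
    simp only [map_pow, h1, one_pow, Finset.sum_const, Finset.card_range, nsmul_eq_mul, mul_one]
    rwa [Ne, ZMod.natCast_eq_zero_iff]
  exact sub_eq_zero.1 ((h3.mul_right_eq_zero).1 h2)

include R in
/-- the `n`-th power of an element of `Q` is in `P`, `n = |Q : P|` -/
theorem pow_relIndex_mem {k : H} (hk : k ∈ Q) : k ^ P.relIndex Q ∈ P := by
  haveI := R.nP
  have h1 : (P.subgroupOf Q).Normal := inferInstance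
  have h2 := Subgroup.pow_index_mem (P.subgroupOf Q) ⟨k, hk⟩
  exact (Subgroup.mem_subgroupOf.1 h2)

theorem U_pow (I : ImpW (V := V) p q W K N Q φ) {k : H} {i : B} (hi : k • i = i) (n : ℕ) :
    U R (k ^ n) i = U R k i ^ n := by
  induction n with
  | zero => rw [pow_zero, pow_zero, U_one]
  | succ n ih => rw [pow_succ, U_mul R I, hi, ih, pow_succ]

theorem U_Q_pow (I : ImpW (V := V) p q W K N Q φ) {k : H} (hk : k ∈ Q) (i : B) :
    U R k i ^ P.relIndex Q = 1 := by
  rw [← U_pow R I ((I.memQ k).1 hk i), U_P R I (pow_relIndex_mem R hk)]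

/-- elements of `P` conjugated by elements of `Q` -/
theorem X_conj_Q (I : ImpW (V := V) p q W K N Q φ) {k x : H} (hk : k ∈ Q) (hx : x ∈ P) (i : B) :
    X R i (k * x * k⁻¹) = U R k i * X R i x := by
  have h := X_conj R I hx k i
  rwa [(I.memQ k).1 hk i] at h

end R

end Cfsg.Agent.H32.NY.A322

private theorem dce_c1ab14610f39 : _root_.True := by
  try have : _root_.True := by simp only [_root_.Cfsg.Agent.H32.NY.A322.red.congr_simp]
  try have : _root_.True := by simp only [_root_.Cfsg.Agent.H32.NY.A322.X.congr_simp]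
  try have : _root_.True := by simp only [_root_.Cfsg.Agent.H32.NY.A322.X.eq_1]
  try have : _root_.True := by simp only [_root_.Cfsg.Agent.H32.NY.A322.U.eq_1]
  exact _root_.True.intro
end

-- part: H32/NY/Scal
section
prune_inst 0x204202c0542220000001c0000a0002090110001020040000188c6040400088a40a0018001183014100000084000040068134400504000000000000400011804011088000480080000000006000004000000000000000000000000000000000000000000000
set_option linter.all false
open scoped Cfsg.Agent.FastGrp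

/-!
# S4979, layer (I), [I-f]: PROD or scalar action (helper322)

* `prod_data` : if `P ≤ Q` are as in `RData` and every block has an element of `P` supported on it whose coordinate is a unit,
  if the elements of different blocks commute, and if `Q`, or a block stabiliser, acts nontrivially, then there is a PROD family;
* `scal_or_prod` : `Scal N Q P`, or there is a PROD family.
-/

set_option autoImplicit false
set_option linter.unusedSectionVars false

open Cfsg
open scoped commutatorElement Pointwise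

namespace Cfsg.Agent.H32.NY.A322

open Cfsg.Agent.H322.NX Cfsg.Agent.H32.NX9 Cfsg.Agent.H32.NY.A32

open Cfsg.Agent.H32.NX9 Cfsg.Agent.H32.NY.A32 Cfsg.Agent.H37.NX Cfsg.Agent.H32.NY.A37

/-- a PROD family -/
structure Prod {H V B : Type*} [Group H] [AddCommGroup V] [DistribMulAction H V] [MulAction H B]
    (W : B → AddSubgroup V) (N Q : Subgroup H) (T : B → Subgroup H) : Prop where
  TQ : ∀ i, T i ≤ Q
  conj : ∀ (h : H) (i : B), ∀ t ∈ T i, h * t * h⁻¹ ∈ T (h • i)
  triv : ∀ i j, i ≠ j → ∀ t ∈ T i, ∀ w ∈ W j, t • w = w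
  ne : ∀ i, T i ≠ ⊥
  ab : ∀ i j, ∀ a ∈ T i, ∀ b ∈ T j, a * b = b * a
  inf : (⨆ i, T i) ⊓ N = ⊥

/-! ### Coprime action -/

section action

variable {Γ : Type*} [Group Γ]

/-- The action of `Γ / C(V)` on the normal subgroup `V`. -/
noncomputable def quotAct (V : Subgroup Γ) [hV : V.Normal] :
    (Γ ⧸ Subgroup.centralizer (V : Set Γ)) →* MulAut V :=
  QuotientGroup.lift (Subgroup.centralizer (V : Set Γ)) (MulAut.conjNormal (H := V)) (by
    intro x hx
    apply MulEquiv.ext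
    intro v
    apply Subtype.ext
    rw [MulAut.conjNormal_apply]
    have h1 := (Subgroup.mem_centralizer_iff.mp hx) v v.2
    rw [← h1]
    simp)

theorem quotAct_mk (V : Subgroup Γ) [hV : V.Normal] (g : Γ) (v : V) :
    ((quotAct V (QuotientGroup.mk' _ g) v : V) : Γ) = g * v * g⁻¹ := by
  show ((MulAut.conjNormal g v : V) : Γ) = _
  rw [MulAut.conjNormal_apply]

/-- `[V, B] ∩ C_V(B) = 1` when `B` acts on the abelian normal subgroup `V` through a group of order
prime to that of `V`. -/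
theorem inf_commutator_eq_bot [Finite Γ] (V B : Subgroup Γ) [hV : V.Normal]
    (hab : ∀ x ∈ V, ∀ y ∈ V, x * y = y * x)
    (hcop : (Nat.card (B.map (QuotientGroup.mk' (Subgroup.centralizer (V : Set Γ))))).Coprime
      (Nat.card V)) :
    ⁅V, B⁆ ⊓ Subgroup.centralizer (B : Set Γ) = ⊥ := by
  rw [eq_bot_iff]
  rintro x ⟨hx1, hx2⟩
  have hVB : ⁅V, B⁆ ≤ V := Subgroup.commutator_le_left V B
  have hxV : x ∈ V := hVB hx1
  let cg : CommGroup V := { (inferInstance : Group V) with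
    mul_comm := fun a b => Subtype.ext (hab a a.2 b b.2) }
  let φ : (B.map (QuotientGroup.mk' (Subgroup.centralizer (V : Set Γ)))) →* MulAut V :=
    (quotAct V).comp (Subgroup.subtype _)
  have hfix : ∀ a, φ a ⟨x, hxV⟩ = ⟨x, hxV⟩ := by
    rintro ⟨_, b, hb, rfl⟩
    apply Subtype.ext
    show ((quotAct V (QuotientGroup.mk' _ b) ⟨x, hxV⟩ : V) : Γ) = x
    rw [quotAct_mk]
    have h1 := (Subgroup.mem_centralizer_iff.mp hx2) b hb
    show b * x * b⁻¹ = x
    rw [h1]; group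
  have hmem : (⟨x, hxV⟩ : V) ∈ Subgroup.closure {w : V | ∃ a u, w = φ a u * u⁻¹} := by
    have h1 : ⁅V, B⁆ ≤ (Subgroup.closure {w : V | ∃ a u, w = φ a u * u⁻¹}).map V.subtype := by
      rw [Subgroup.commutator_comm, Subgroup.commutator_le]
      intro b hb v hv
      refine ⟨φ ⟨_, b, hb, rfl⟩ ⟨v, hv⟩ * (⟨v, hv⟩ : V)⁻¹, Subgroup.subset_closure ⟨_, _, rfl⟩, ?_⟩
      show ((quotAct V (QuotientGroup.mk' _ b) ⟨v, hv⟩ : V) : Γ) * v⁻¹ = ⁅b, v⁆
      rw [quotAct_mk, commutatorElement_def]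
    obtain ⟨w, hw, hwx⟩ := h1 hx1
    have h2 : w = ⟨x, hxV⟩ := Subtype.ext hwx
    rwa [h2] at hw
  have h2 := @Cfsg.Agent.Lib.CoprimeAbelian.eq_one_of_fixed_of_mem_closure _ _ _ _ _ φ hcop ⟨x, hxV⟩ hfix
    hmem
  rw [Subgroup.mem_bot]
  exact congrArg Subtype.val h2

end action

variable {p q r a : ℕ} {H V B : Type*} [Group H] [Finite H] [AddCommGroup V] [Finite V]
  [DistribMulAction H V] [Finite B] [MulAction H B] {W : B → AddSubgroup V} {K N Q P : Subgroup H}
  {φ : N →* ℂˣ} {t : B → H}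

section PR

variable (R : RData r a W N Q P t)

/-- the elements of `P` supported on the block `i` -/
def Sup (R : RData r a W N Q P t) (I : ImpW (V := V) p q W K N Q φ) (i : B) : Subgroup H where
  carrier := {x | x ∈ P ∧ ∀ j, j ≠ i → X R j x = 0}
  one_mem' := ⟨one_mem P, fun j _ => X_one R j⟩
  mul_mem' := fun {x y} hx hy => ⟨mul_mem hx.1 hy.1, fun j hj => by
    rw [X_mul R I hx.1 hy.1, hx.2 j hj, hy.2 j hj, add_zero]⟩
  inv_mem' := fun {x} hx => ⟨inv_mem hx.1, fun j hj => by rw [X_inv R I hx.1, hx.2 j hj, neg_zero]⟩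

variable (I : ImpW (V := V) p q W K N Q φ)

theorem Sup_conj {h : H} {i : B} {x : H} (hx : x ∈ Sup R I i) : h * x * h⁻¹ ∈ Sup R I (h • i) := by
  refine ⟨R.nP.conj_mem _ hx.1 h, fun j hj => ?_⟩
  have h1 := X_conj R I hx.1 h (h⁻¹ • j)
  rw [smul_inv_smul] at h1
  rw [h1, hx.2 _ (fun e => hj (by rw [← e, smul_inv_smul])), mul_zero]

theorem Sup_triv {i j : B} (hij : i ≠ j) {x : H} (hx : x ∈ Sup R I i) : ∀ w ∈ W j, x • w = w :=
  (X_eq_zero R hx.1 j).1 (hx.2 j hij.symm)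

include I in
theorem sub_mem_N {x y : H} (hx : x ∈ P) (hy : y ∈ P) (h : ∀ i, X R i x = X R i y) : x * y⁻¹ ∈ N :=
  X_all R I (mul_mem hx (inv_mem hy)) fun i => by
    rw [X_mul R I hx (inv_mem hy), X_inv R I hy, h i, add_neg_cancel]

theorem NP_le_Sup {x : H} (hx : x ∈ P) (hN : x ∈ N) (i : B) : x ∈ Sup R I i :=
  ⟨hx, fun j _ => X_N R I hx hN j⟩

include R in
/-- `x = (x s^{-m}) s^m` -/
theorem exists_pow {i : B} {s x : H} (hs : s ∈ Sup R I i) (hu : IsUnit (X R i s)) (hx : x ∈ P) :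
    ∃ m : ℕ, X R i (x * (s ^ m)⁻¹) = 0 ∧ ∀ j, j ≠ i → X R j (x * (s ^ m)⁻¹) = X R j x := by
  haveI := neZero_ra R
  obtain ⟨u, hu⟩ := hu
  refine ⟨(X R i x * ((u⁻¹ : (ZMod (r ^ a))ˣ) : ZMod (r ^ a))).val, ?_, fun j hj => ?_⟩
  · rw [X_mul R I hx (inv_mem (pow_mem hs.1 _)), X_inv R I (pow_mem hs.1 _), X_pow R I hs.1,
      ZMod.natCast_zmod_val, ← hu, mul_assoc, Units.inv_mul, mul_one, add_neg_cancel]
  · rw [X_mul R I hx (inv_mem (pow_mem hs.1 _)), X_inv R I (pow_mem hs.1 _), X_pow R I hs.1,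
      hs.2 j hj, mul_zero, neg_zero, add_zero]

include I in
theorem comm_N {n : H} (hn : n ∈ N) (h : H) : h * n = n * h := Subgroup.mem_center_iff.1 (I.core.cen hn) h

theorem Sup_comm {i : B} {s : H} (hs : s ∈ Sup R I i) (hu : IsUnit (X R i s)) :
    ∀ x ∈ Sup R I i, ∀ y ∈ Sup R I i, x * y = y * x := by
  have key : ∀ x ∈ Sup R I i, ∃ (n : H) (m : ℕ), n ∈ N ∧ x = n * s ^ m := by
    intro x hx
    obtain ⟨m, h1, h2⟩ := exists_pow R I hs hu hx.1
    refine ⟨x * (s ^ m)⁻¹, m, X_all R I (mul_mem hx.1 (inv_mem (pow_mem hs.1 _))) fun j => ?_, by group⟩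
    by_cases hj : j = i
    · rw [hj]; exact h1
    · rw [h2 j hj, hx.2 j hj]
  intro x hx y hy
  obtain ⟨n, m, hn, rfl⟩ := key x hx
  obtain ⟨n', m', hn', rfl⟩ := key y hy
  have e1 : Commute n n' := (comm_N I hn n').symm
  have e2 : ∀ z, Commute n z := fun z => (comm_N I hn z).symm
  have e3 : ∀ z, Commute n' z := fun z => (comm_N I hn' z).symm
  have e4 : Commute (s ^ m) (s ^ m') := (Commute.refl s).pow_pow m m'
  exact ((e2 _).mul_left ((((e3 _).symm).mul_right e4))).eq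

/-- `P` is generated by the `Sup i` -/
theorem P_le (s : B → H) (hs : ∀ i, s i ∈ Sup R I i) (hu : ∀ i, IsUnit (X R i (s i))) :
    P ≤ ⨆ i, Sup R I i := by
  classical
  haveI := Fintype.ofFinite B
  intro x hx
  have key : ∀ F : Finset B, ∃ y : H, y ∈ P ∧ y ∈ (⨆ i, Sup R I i) ∧ (∀ i ∈ F, X R i (x * y⁻¹) = 0) := by
    intro F
    induction F using Finset.induction_on with
    | empty => exact ⟨1, one_mem _, one_mem _, fun i hi => absurd hi (Finset.notMem_empty i)⟩
    | insert i F hi ih =>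
      obtain ⟨y, hyP, hy, h1⟩ := ih
      obtain ⟨m, h2, h3⟩ := exists_pow R I (hs i) (hu i) (mul_mem hx (inv_mem hyP))
      refine ⟨s i ^ m * y, mul_mem (pow_mem (hs i).1 m) hyP,
        mul_mem (pow_mem ((le_iSup (Sup R I) i) (hs i)) m) hy, fun j hj => ?_⟩
      have h4 : x * (s i ^ m * y)⁻¹ = x * y⁻¹ * (s i ^ m)⁻¹ := by group
      rw [h4]
      rcases Finset.mem_insert.1 hj with rfl | hj
      · exact h2
      · rw [h3 j (fun e => hi (e ▸ hj)), h1 j hj]
  obtain ⟨y, hyP, hy, h1⟩ := key Finset.univ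
  have h2 : x * y⁻¹ ∈ N := X_all R I (mul_mem hx (inv_mem hyP)) fun i => h1 i (Finset.mem_univ i)
  have h3 : x = x * y⁻¹ * y := by group
  rw [h3]
  by_cases hB : Nonempty B
  · obtain ⟨i⟩ := hB
    exact mul_mem ((le_iSup (Sup R I) i) (NP_le_Sup R I (mul_mem hx (inv_mem hyP)) h2 i)) hy
  · have : 0 < Nat.card B := lt_of_lt_of_le (by omega) I.card
    exact absurd (Nat.card_pos_iff.1 this).1 hB

theorem P_comm (s : B → H) (hs : ∀ i, s i ∈ Sup R I i) (hu : ∀ i, IsUnit (X R i (s i)))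
    (hcomm : ∀ i j, i ≠ j → ∀ x ∈ Sup R I i, ∀ y ∈ Sup R I j, x * y = y * x) :
    ∀ x ∈ P, ∀ y ∈ P, x * y = y * x := by
  have h1 : ∀ i j, ∀ x ∈ Sup R I i, ∀ y ∈ Sup R I j, x * y = y * x := by
    intro i j
    by_cases hij : i = j
    · subst hij; exact Sup_comm R I (hs i) (hu i)
    · exact hcomm i j hij
  have h2 : (⨆ i, Sup R I i) ≤ Subgroup.centralizer ((⨆ i, Sup R I i : Subgroup H) : Set H) := by
    refine iSup_le fun i x hx => ?_
    have h3 : (⨆ j, Sup R I j) ≤ Subgroup.centralizer ({x} : Set H) := iSup_le fun j y hy => by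
      rw [Subgroup.mem_centralizer_singleton_iff]
      exact (h1 i j x hx y hy).symm
    rw [Subgroup.mem_centralizer_iff]
    intro y hy
    exact Subgroup.mem_centralizer_singleton_iff.1 (h3 hy)
  intro x hx y hy
  have h3 := P_le R I s hs hu
  exact Subgroup.mem_centralizer_iff.1 (h2 (h3 hy)) x (h3 hx)

/-- **PROD**: every block has an element of `P` supported on it with unit coordinate, the elements supported on
different blocks commute, and the block stabiliser acts nontrivially on the coordinates. -/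
theorem prod_data (s : B → H) (hs : ∀ i, s i ∈ Sup R I i) (hu : ∀ i, IsUnit (X R i (s i)))
    (hcomm : ∀ i j, i ≠ j → ∀ x ∈ Sup R I i, ∀ y ∈ Sup R I j, x * y = y * x)
    (L : B → Subgroup H) (hL : ∀ (h : H) (i : B), ∀ k ∈ L i, h * k * h⁻¹ ∈ L (h • i))
    (hLi : ∀ i, ∀ k ∈ L i, k • i = i)
    (hcop : ∀ i, ∀ k ∈ L i, ∃ n : ℕ, ¬ r ∣ n ∧ k ^ n ∈ P)
    (hne : ∀ i, ∃ k ∈ L i, U R k i ≠ 1) : ∃ T : B → Subgroup H, Prod W N Q T := by
  classical
  haveI := Fintype.ofFinite B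
  haveI := R.nP
  haveI : Fact r.Prime := ⟨R.prime⟩
  have hPab := P_comm R I s hs hu hcomm
  -- `[Sup i, L i] ≤ Sup i`
  have hle : ∀ i, ⁅Sup R I i, L i⁆ ≤ Sup R I i := by
    intro i
    rw [Subgroup.commutator_le]
    intro x hx k hk
    rw [commutatorElement_def]
    have h1 : k * x⁻¹ * k⁻¹ ∈ Sup R I i := by
      have := Sup_conj R I (h := k) (inv_mem hx)
      rwa [hLi i k hk] at this
    have h2 : x * k * x⁻¹ * k⁻¹ = x * (k * x⁻¹ * k⁻¹) := by group
    rw [h2]
    exact mul_mem hx h1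
  -- `[P, L i] ∩ N = 1`
  have hcap : ∀ i, ⁅P, L i⁆ ⊓ N = ⊥ := by
    intro i
    have h1 : (Nat.card ((L i).map (QuotientGroup.mk' (Subgroup.centralizer (P : Set H))))).Coprime
        (Nat.card P) := by
      obtain ⟨m, hm⟩ := R.pg.exists_card_eq
      rw [hm]
      refine Nat.Coprime.pow_right m ?_
      rw [Nat.coprime_comm, Nat.Prime.coprime_iff_not_dvd R.prime]
      intro hd
      obtain ⟨⟨_, k, hk, rfl⟩, hg⟩ := exists_prime_orderOf_dvd_card' r hd
      obtain ⟨n, hn, hkn⟩ := hcop i k hk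
      apply hn
      rw [← hg, orderOf_dvd_iff_pow_eq_one]
      apply Subtype.ext
      show (QuotientGroup.mk' _ k) ^ n = 1
      rw [← map_pow, QuotientGroup.mk'_apply, QuotientGroup.eq_one_iff, Subgroup.mem_centralizer_iff]
      exact fun x hx => hPab x hx _ hkn
    have h2 := inf_commutator_eq_bot P (L i) hPab h1
    rw [eq_bot_iff]
    refine le_trans ?_ h2.le
    refine inf_le_inf le_rfl fun n hn => ?_
    rw [Subgroup.mem_centralizer_iff]
    exact fun k _ => comm_N I hn k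
  have hTN : ∀ i, ∀ x ∈ ⁅Sup R I i, L i⁆, X R i x = 0 → x = 1 := by
    intro i x hx h0
    have h1 : x ∈ N := X_all R I (hle i hx).1 fun j => by
      by_cases hj : j = i
      · rw [hj, h0]
      · exact (hle i hx).2 j hj
    have h2 : x ∈ ⁅P, L i⁆ := Subgroup.commutator_mono (fun y (hy : y ∈ Sup R I i) => hy.1) le_rfl hx
    have h3 : x ∈ (⁅P, L i⁆ ⊓ N : Subgroup H) := ⟨h2, h1⟩
    rw [hcap i, Subgroup.mem_bot] at h3
    exact h3
  refine ⟨fun i => ⁅Sup R I i, L i⁆, ?_, ?_, ?_, ?_, ?_, ?_⟩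
  · exact fun i x hx => R.PQ (hle i hx).1
  · intro h i x hx
    have h1 : h * x * h⁻¹ ∈ (⁅Sup R I i, L i⁆).map (MulAut.conj h).toMonoidHom := ⟨x, hx, rfl⟩
    rw [Subgroup.map_commutator] at h1
    refine Subgroup.commutator_mono ?_ ?_ h1
    · rintro _ ⟨y, hy, rfl⟩
      exact Sup_conj R I hy
    · rintro _ ⟨y, hy, rfl⟩
      exact hL h i y hy
  · exact fun i j hij x hx => Sup_triv R I hij (hle i hx)
  · intro i hbot
    obtain ⟨k, hk, hk1⟩ := hne i
    have h1 : ⁅k, s i⁆ ∈ ⁅Sup R I i, L i⁆ := by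
      rw [Subgroup.commutator_comm]
      exact Subgroup.commutator_mem_commutator hk (hs i)
    have h0 : (fun i => ⁅Sup R I i, L i⁆) i = ⊥ := hbot
    simp only at h0
    rw [h0, Subgroup.mem_bot, commutatorElement_def, mul_inv_eq_one] at h1
    have h2 := X_conj R I (hs i).1 k i
    rw [hLi i k hk, h1] at h2
    apply hk1
    have h3 : (U R k i - 1) * X R i (s i) = 0 := by rw [sub_mul, one_mul, ← h2, sub_self]
    exact sub_eq_zero.1 (((hu i).mul_left_eq_zero).1 h3)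
  · exact fun i j x hx y hy => hPab x (hle i hx).1 y (hle j hy).1
  · rw [eq_bot_iff]
    rintro x ⟨hx, hxN⟩
    letI : CommGroup P := { (inferInstance : Group P) with
      mul_comm := fun a b => Subtype.ext (hPab a a.2 b b.2) }
    let D : Subgroup P :=
      { carrier := {y | ∃ f : B → P, (∀ i, (f i : H) ∈ ⁅Sup R I i, L i⁆) ∧ y = ∏ i, f i}
        one_mem' := ⟨fun _ => 1, fun i => one_mem _, by rw [Finset.prod_const_one]⟩
        mul_mem' := by
          rintro _ _ ⟨f, hf, rfl⟩ ⟨g, hg, rfl⟩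
          exact ⟨fun i => f i * g i, fun i => mul_mem (hf i) (hg i), by rw [Finset.prod_mul_distrib]⟩
        inv_mem' := by
          rintro _ ⟨f, hf, rfl⟩
          exact ⟨fun i => (f i)⁻¹, fun i => inv_mem (hf i), by rw [Finset.prod_inv_distrib]⟩ }
    have h1 : (⨆ i, ⁅Sup R I i, L i⁆) ≤ D.map P.subtype := by
      refine iSup_le fun i y hy => ?_
      refine ⟨⟨y, (hle i hy).1⟩, ⟨Pi.mulSingle i ⟨y, (hle i hy).1⟩, fun j => ?_, ?_⟩, rfl⟩
      · by_cases hj : j = i
        · subst hj; rw [Pi.mulSingle_eq_same]; exact hy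
        · rw [Pi.mulSingle_eq_of_ne hj]; exact one_mem _
      · rw [Finset.prod_pi_mulSingle']
        simp
    obtain ⟨y, ⟨f, hf, rfl⟩, rfl⟩ := h1 hx
    let Xh : B → (P →* Multiplicative (ZMod (r ^ a))) := fun j => MonoidHom.mk'
      (fun y => Multiplicative.ofAdd (X R j y)) fun y z => by
        rw [← ofAdd_add]
        exact congrArg _ (X_mul R I y.2 z.2 j)
    have h2 : ∀ j, X R j (f j : H) = 0 := by
      intro j
      have h3 : Xh j (∏ i, f i) = Multiplicative.ofAdd (X R j (f j : H)) := by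
        rw [map_prod]
        refine Finset.prod_eq_single j (fun i _ hi => ?_) (fun h => absurd (Finset.mem_univ j) h)
        show Multiplicative.ofAdd (X R j (f i : H)) = 1
        rw [(hle i (hf i)).2 j (Ne.symm hi)]
        rfl
      have h4 : X R j ((∏ i, f i : P) : H) = 0 := X_N R I (Subtype.prop _) hxN j
      have h5 : Xh j (∏ i, f i) = Multiplicative.ofAdd (X R j ((∏ i, f i : P) : H)) := rfl
      rw [h5, h4] at h3
      exact (Multiplicative.ofAdd.injective h3).symm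
    have h3 : ∀ j, f j = 1 := fun j => Subtype.ext (hTN j _ (hf j) (h2 j))
    rw [Subgroup.mem_bot]
    show ((∏ i, f i : P) : H) = 1
    rw [Finset.prod_congr rfl fun i _ => h3 i, Finset.prod_const_one]
    rfl

/-! ### scalars or PROD -/

include I in
theorem Q_conj {k : H} (hk : k ∈ Q) (h : H) : h * k * h⁻¹ ∈ Q := by
  rw [I.memQ] at hk ⊢
  intro i
  rw [mul_smul, mul_smul, hk, smul_inv_smul]

include I in
theorem third (i j : B) : ∃ k : B, i ≠ k ∧ j ≠ k := by
  classical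
  haveI := Fintype.ofFinite B
  by_contra hcon
  push Not at hcon
  have h1 : (Finset.univ : Finset B) ⊆ {i, j} := by
    intro k _
    rw [Finset.mem_insert, Finset.mem_singleton]
    by_cases hk : i = k
    · exact Or.inl hk.symm
    · exact Or.inr (hcon k hk).symm
  have h2 := Finset.card_le_card h1
  have h3 : (({i, j} : Finset B)).card ≤ 2 := Finset.card_le_two
  have h4 := I.card
  have h5 := I.hp.two_le
  rw [Nat.card_eq_fintype_card] at h4
  rw [Finset.card_univ] at h2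
  omega

include I in
theorem two {i j i' j' : B} (hij : i ≠ j) (hij' : i' ≠ j') : ∃ h : H, h • i = i' ∧ h • j = j' := by
  obtain ⟨k, h1, h2⟩ := third I i j
  obtain ⟨k', h1', h2'⟩ := third I i' j'
  obtain ⟨h, h3, h4, -⟩ := I.t3 i j k i' j' k' hij h1 h2 hij' h1' h2'
  exact ⟨h, h3, h4⟩

include I in
/-- conjugating back -/
theorem U_conj' {k : H} (hk : k ∈ Q) (h : H) (i : B) : U R (h⁻¹ * k * h) i = U R k (h • i) := by
  have h1 : h⁻¹ * k * h ∈ Q := by simpa using Q_conj I hk h⁻¹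
  have h2 := U_conj R I h (h⁻¹ * k * h) i ((I.memQ _).1 h1 i)
  rw [← h2]
  congr 1
  group

theorem red_val (z : ZMod (r ^ a)) : red R z = ((z.val : ℕ) : ZMod r) := by
  haveI := neZero_ra R
  conv_lhs => rw [← ZMod.natCast_zmod_val z]
  rw [map_natCast]

theorem comm_pow {G : Type*} [Group G] {x y c : G} (hc : ∀ g, g * c = c * g) (h : x * y = c * (y * x))
    (e f : ℕ) : x ^ e * y ^ f = c ^ (e * f) * (y ^ f * x ^ e) := by
  have hcp : ∀ (n : ℕ) (g : G), g * c ^ n = c ^ n * g := fun n g =>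
    ((show Commute g c from hc g).pow_right n).eq
  have h1 : ∀ e : ℕ, x ^ e * y = c ^ e * (y * x ^ e) := by
    intro e
    induction e with
    | zero => rw [pow_zero, pow_zero, one_mul, one_mul, mul_one]
    | succ e ih =>
      calc x ^ (e + 1) * y = x ^ e * (x * y) := by rw [pow_succ]; group
        _ = x ^ e * c * (y * x) := by rw [h]; group
        _ = c * (x ^ e * y) * x := by rw [hc]; group
        _ = c * c ^ e * (y * (x ^ e * x)) := by rw [ih]; group
        _ = _ := by rw [← pow_succ', ← pow_succ]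
  induction f with
  | zero => rw [pow_zero, mul_zero, pow_zero, mul_one, one_mul, one_mul]
  | succ f ih =>
    calc x ^ e * y ^ (f + 1) = x ^ e * y ^ f * y := by rw [pow_succ]; group
      _ = c ^ (e * f) * (y ^ f * (x ^ e * y)) := by rw [ih]; group
      _ = c ^ (e * f) * (y ^ f * c ^ e) * (y * x ^ e) := by rw [h1]; group
      _ = c ^ (e * f) * c ^ e * (y ^ f * y * x ^ e) := by rw [hcp]; group
      _ = _ := by rw [← pow_add, ← pow_succ]; ring_nf

/-- elements supported on different blocks commute if the product of the characters is not one mod `r` -/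
theorem sup_comm {i j : B} (hij : i ≠ j) {k : H} (hk : k ∈ Q) (hne : red R (U R k i * U R k j) ≠ 1)
    {x y : H} (hx : x ∈ Sup R I i) (hy : y ∈ Sup R I j) : x * y = y * x := by
  haveI := neZero_ra R
  haveI : Fact r.Prime := ⟨R.prime⟩
  have key : ∀ {i : B} {x : H}, x ∈ Sup R I i → ∃ n ∈ N, k * x * k⁻¹ = n * x ^ (U R k i).val := by
    intro i x hx
    refine ⟨k * x * k⁻¹ * (x ^ (U R k i).val)⁻¹, ?_, by group⟩
    refine sub_mem_N R I (R.nP.conj_mem _ hx.1 k) (pow_mem hx.1 _) fun l => ?_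
    rw [X_conj_Q R I hk hx.1, X_pow R I hx.1, ZMod.natCast_zmod_val]
    by_cases hl : l = i
    · rw [hl]
    · rw [hx.2 l hl, mul_zero, mul_zero]
  obtain ⟨n, hn, e1⟩ := key hx
  obtain ⟨n', hn', e2⟩ := key hy
  set c := x * y * x⁻¹ * y⁻¹ with hc
  have hcN : c ∈ N := R.comm x hx.1 y hy.1
  have hcP : c ∈ P := mul_mem (mul_mem (mul_mem hx.1 hy.1) (inv_mem hx.1)) (inv_mem hy.1)
  have hcc : ∀ g : H, g * c = c * g := comm_N I hcN
  have h1 : x * y = c * (y * x) := by rw [hc]; group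
  have h2 := comm_pow hcc h1 (U R k i).val (U R k j).val
  set e := (U R k i).val with he
  set f := (U R k j).val with hf
  have h3 : k * x * k⁻¹ * (k * y * k⁻¹) = c * (k * y * k⁻¹ * (k * x * k⁻¹)) := by
    calc k * x * k⁻¹ * (k * y * k⁻¹) = k * (x * y) * k⁻¹ := by group
      _ = k * c * (y * x) * k⁻¹ := by rw [h1]; group
      _ = _ := by rw [hcc]; group
  rw [e1, e2] at h3
  have hnc : ∀ g, g * n = n * g := comm_N I hn
  have hnc' : ∀ g, g * n' = n' * g := comm_N I hn'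
  have h4 : n * x ^ e * (n' * y ^ f) = n * n' * (x ^ e * y ^ f) := by
    calc n * x ^ e * (n' * y ^ f) = n * (x ^ e * n') * y ^ f := by group
      _ = _ := by rw [hnc']; group
  have h5 : n' * y ^ f * (n * x ^ e) = n * n' * (y ^ f * x ^ e) := by
    calc n' * y ^ f * (n * x ^ e) = n' * (y ^ f * n) * x ^ e := by group
      _ = n' * n * (y ^ f * x ^ e) := by rw [hnc]; group
      _ = _ := by rw [hnc]
  rw [h4, h5, h2] at h3
  have h6 : c ^ (e * f) = c := by
    have h7 : n * n' * (c ^ (e * f) * (y ^ f * x ^ e)) = n * n' * (c * (y ^ f * x ^ e)) := by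
      rw [h3]
      calc c * (n * n' * (y ^ f * x ^ e)) = c * (n * n') * (y ^ f * x ^ e) := by group
        _ = _ := by rw [← hcc]; group
    exact mul_right_cancel (mul_left_cancel h7)
  have h8 : c = 1 := by
    by_contra hc1
    have h9 : r ∣ orderOf c := by
      obtain ⟨m, hm⟩ := R.pg ⟨c, hcP⟩
      have h10 : c ^ r ^ m = 1 := congrArg Subtype.val hm
      obtain ⟨l, -, hl⟩ := (Nat.dvd_prime_pow R.prime).1 (orderOf_dvd_of_pow_eq_one h10)
      rw [hl]
      refine dvd_pow_self r fun h0 => hc1 ?_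
      rw [h0, pow_zero, orderOf_eq_one_iff] at hl
      exact hl
    have h10 : c ^ (e * f) = c ^ 1 := by rw [pow_one]; exact h6
    have h11 := ((pow_eq_pow_iff_modEq.1 h10).of_dvd h9)
    apply hne
    rw [map_mul, red_val, red_val, ← Nat.cast_mul]
    have h12 := (ZMod.natCast_eq_natCast_iff _ _ _).2 h11
    rw [Nat.cast_one] at h12
    exact h12
  rw [h8, one_mul] at h1
  exact h1

include R I in
/-- **`Q` acts on `P` modulo `N` by scalars, or there is a PROD family.** -/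
theorem scal_or_prod : Scal N Q P ∨ ∃ T : B → Subgroup H, Prod W N Q T := by
  classical
  haveI := neZero_ra R
  haveI : Fact r.Prime := ⟨R.prime⟩
  by_cases hall : ∀ k ∈ Q, ∀ i j, U R k i = U R k j
  · left
    intro k hk
    have h0 : 0 < Nat.card B := lt_of_lt_of_le (by omega) I.card
    obtain ⟨⟨i0⟩, -⟩ := Nat.card_pos_iff.1 h0
    refine ⟨(U R k i0).val, fun x hx => ?_⟩
    exact sub_mem_N R I (R.nP.conj_mem _ hx k) (pow_mem hx _) fun i => by
      rw [X_conj_Q R I hk hx, X_pow R I hx, ZMod.natCast_zmod_val, hall k hk i i0]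
  right
  push Not at hall
  obtain ⟨k0, hk0, i0, j0, hne⟩ := hall
  have h0 : i0 ≠ j0 := fun e => hne (by rw [e])
  have step1 : ∀ i j, i ≠ j → ∃ k ∈ Q, red R (U R k i) ≠ red R (U R k j) := by
    intro i j hij
    obtain ⟨h, h1, h2⟩ := two I h0 hij
    by_contra hcon
    push Not at hcon
    have hkQ := Q_conj I hk0 h
    have e1 : U R (h * k0 * h⁻¹) i = U R k0 i0 := by
      rw [← h1, U_conj R I h k0 i0 ((I.memQ k0).1 hk0 i0)]
    have e2 : U R (h * k0 * h⁻¹) j = U R k0 j0 := by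
      rw [← h2, U_conj R I h k0 j0 ((I.memQ k0).1 hk0 j0)]
    have h3 := hcon _ hkQ
    rw [e1, e2] at h3
    apply hne
    obtain ⟨v, hv⟩ := U_unit R I k0 j0
    have h4 : U R k0 i0 * ((v⁻¹ : (ZMod (r ^ a))ˣ) : ZMod (r ^ a)) = 1 := by
      refine eq_one_of_red R (n := P.relIndex Q) R.idx ?_ ?_
      · rw [mul_pow, U_Q_pow R I hk0, one_mul, ← Units.val_pow_eq_pow_val, inv_pow]
        have h5 : v ^ P.relIndex Q = 1 := Units.ext (by
          rw [Units.val_pow_eq_pow_val, hv, U_Q_pow R I hk0, Units.val_one])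
        rw [h5, inv_one, Units.val_one]
      · rw [map_mul, h3, ← hv, ← map_mul, Units.mul_inv, map_one]
    calc U R k0 i0 = U R k0 i0 * ((v⁻¹ : (ZMod (r ^ a))ˣ) : ZMod (r ^ a)) * v := by
          rw [mul_assoc, Units.inv_mul, mul_one]
      _ = U R k0 j0 := by rw [h4, one_mul, hv]
  have step2 : ∀ i j, i ≠ j → ∃ k ∈ Q, red R (U R k i * U R k j) ≠ 1 := by
    intro i1 j1 hij1
    by_contra hcon
    push Not at hcon
    have h1 : ∀ i j, i ≠ j → ∀ k ∈ Q, red R (U R k i * U R k j) = 1 := by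
      intro i j hij k hk
      obtain ⟨h, e1, e2⟩ := two I hij1 hij
      have h2 := hcon (h⁻¹ * k * h) (by simpa using Q_conj I hk h⁻¹)
      rwa [U_conj' R I hk, U_conj' R I hk, e1, e2] at h2
    obtain ⟨l, hl1, hl2⟩ := third I i1 j1
    obtain ⟨k, hk, h2⟩ := step1 j1 l hl2
    apply h2
    have h3 := h1 i1 j1 hij1 k hk
    have h4 := h1 i1 l hl1 k hk
    rw [map_mul] at h3 h4
    have h5 : red R (U R k i1) ≠ 0 := fun h => by rw [h, zero_mul] at h3; exact zero_ne_one h3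
    exact mul_left_cancel₀ h5 (h3.trans h4.symm)
  -- isolate
  have iso : ∀ i, ∃ s ∈ Sup R I i, IsUnit (X R i s) := by
    intro i
    haveI := Fintype.ofFinite B
    have key : ∀ F : Finset B, i ∉ F → ∃ s ∈ P, IsUnit (X R i s) ∧ ∀ j ∈ F, X R j s = 0 := by
      intro F
      induction F using Finset.induction_on with
      | empty => exact fun _ => ⟨t i, R.tP i, by rw [X_t]; exact isUnit_one,
          fun j hj => absurd hj (Finset.notMem_empty j)⟩
      | insert j F hj ih =>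
        intro hi
        rw [Finset.mem_insert, not_or] at hi
        obtain ⟨s, hs, hu, hF⟩ := ih hi.2
        obtain ⟨k, hk, hne'⟩ := step1 i j hi.1
        have hX : ∀ l, X R l (k * s * k⁻¹ * (s ^ (U R k j).val)⁻¹) = (U R k l - U R k j) * X R l s := by
          intro l
          rw [X_mul R I (R.nP.conj_mem _ hs k) (inv_mem (pow_mem hs _)), X_conj_Q R I hk hs,
            X_inv R I (pow_mem hs _), X_pow R I hs, ZMod.natCast_zmod_val]
          ring
        refine ⟨k * s * k⁻¹ * (s ^ (U R k j).val)⁻¹,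
          mul_mem (R.nP.conj_mem _ hs k) (inv_mem (pow_mem hs _)), ?_, fun l hl => ?_⟩
        · rw [hX]
          refine IsUnit.mul ?_ hu
          rw [isUnit_iff R, map_sub]
          exact sub_ne_zero.2 hne'
        · rw [hX]
          rcases Finset.mem_insert.1 hl with rfl | hl
          · rw [sub_self, zero_mul]
          · rw [hF l hl, mul_zero]
    obtain ⟨s, hs, hu, hF⟩ := key (Finset.univ.erase i) (Finset.notMem_erase i _)
    exact ⟨s, ⟨hs, fun j hj => hF j (Finset.mem_erase.2 ⟨hj, Finset.mem_univ j⟩)⟩, hu⟩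
  choose s hs hu using iso
  refine prod_data R I s hs hu (fun i j hij x hx y hy => ?_) (fun _ => Q) (fun h _ k hk => Q_conj I hk h)
    (fun i k hk => (I.memQ k).1 hk i) (fun _ k hk => ⟨P.relIndex Q, R.idx, pow_relIndex_mem R hk⟩) ?_
  · obtain ⟨k, hk, hne'⟩ := step2 i j hij
    exact sup_comm R I hij hk hne' hx hy
  · intro i
    by_contra hcon
    push Not at hcon
    obtain ⟨j, hij, -⟩ := third I i i
    obtain ⟨k, hk, h1⟩ := step1 i j hij
    obtain ⟨h, e1, -⟩ := two I hij hij.symm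
    have h2 := hcon (h⁻¹ * k * h) (by simpa using Q_conj I hk h⁻¹)
    rw [U_conj' R I hk, e1] at h2
    exact h1 (by rw [hcon k hk, h2])

end PR

end Cfsg.Agent.H32.NY.A322

private theorem dce_f57240b496de : _root_.True := by
  try have : _root_.True := by simp only [_root_.Cfsg.Agent.H32.NY.A322.U.congr_simp]
  try have : _root_.True := by simp only [_root_.Cfsg.Agent.H32.NY.A322.Sup.congr_simp]
  exact _root_.True.intro
end

-- part: H32/NY/AltP
section
set_option linter.all false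
open scoped Cfsg.Agent.FastGrp

/-!
# S4979, layer (I), [I-f]: permuted generators in the alternating case (helper322)

`RData`, `Scal` and `IsAlt`: either there is a PROD family (`n = 5`, `p = 3`, a block stabiliser acts on the block
with order 3), or the generators of the groups induced on the blocks can be chosen to be permuted by `H`.
-/

set_option autoImplicit false
set_option linter.unusedSectionVars false

open Cfsg
open scoped commutatorElement Pointwise

namespace Cfsg.Agent.H32.NY.A322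

open Cfsg.Agent.H322.NX Cfsg.Agent.H32.NX9 Cfsg.Agent.H32.NY.A32

open Cfsg.Agent.H32.NX9 Cfsg.Agent.H32.NY.A32 Cfsg.Agent.H37.NX Cfsg.Agent.H32.NY.A37

/-! ### homomorphisms of a two-point stabiliser -/

theorem alt_le_map_commutator {F : Type*} [Fintype F] [DecidableEq F] (h5 : 5 ≤ Nat.card F) :
    alternatingGroup F = ⁅alternatingGroup F, alternatingGroup F⁆ := by
  have h1 := commutator_alternatingGroup_eq_top h5
  have h2 : (commutator (alternatingGroup F)).map (alternatingGroup F).subtype =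
      ⁅alternatingGroup F, alternatingGroup F⁆ := by
    rw [commutator_def, Subgroup.map_commutator, ← MonoidHom.range_eq_map, Subgroup.range_subtype]
  rw [← h2, h1, ← MonoidHom.range_eq_map, Subgroup.range_subtype]

/-- a homomorphism from the stabiliser of two points to an abelian group, trivial on the kernel, is trivial -/
theorem hom_trivial {H B A : Type*} [Group H] [MulAction H B] [CommGroup A] [Finite B] (hA : IsAlt H B)
    (h7 : 7 ≤ Nat.card B) (i j : B) (M : Subgroup H) (hM : ∀ h, h ∈ M ↔ h • i = i ∧ h • j = j)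
    (f : M →* A) (hf : ∀ h : M, (∀ b : B, (h : H) • b = b) → f h = 1) (h : M) : f h = 1 := by
  classical
  obtain ⟨inst1, inst2, hA⟩ := hA
  let p : B → Prop := fun k => k ≠ i ∧ k ≠ j
  have hp : ∀ (g : M) (x : B), p (MulAction.toPerm (g : H) x) ↔ p x := by
    intro g x
    have h1 := ((hM g).1 g.2).1
    have h2 := ((hM g).1 g.2).2
    show ((g : H) • x ≠ i ∧ (g : H) • x ≠ j) ↔ (x ≠ i ∧ x ≠ j)
    constructor
    · rintro ⟨e1, e2⟩
      exact ⟨fun e => e1 (by rw [e, h1]), fun e => e2 (by rw [e, h2])⟩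
    · rintro ⟨e1, e2⟩
      exact ⟨fun e => e1 (MulAction.injective (g : H) (show (g : H) • x = (g : H) • i by rw [e, h1])),
        fun e => e2 (MulAction.injective (g : H) (show (g : H) • x = (g : H) • j by rw [e, h2]))⟩
  let g : M →* Equiv.Perm {k // p k} := MonoidHom.mk' (fun m => (MulAction.toPerm (m : H)).subtypePerm (hp m))
    fun m m' => by
      ext x
      show ((m * m' : M) : H) • (x : B) = (m : H) • ((m' : H) • (x : B))
      rw [Subgroup.coe_mul, mul_smul]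
  have hcard : 5 ≤ Nat.card {k // p k} := by
    rw [Nat.card_eq_fintype_card] at h7 ⊢
    have h1 := Fintype.card_subtype_compl p
    have h2 : Fintype.card {k // ¬ p k} ≤ 2 := by
      rw [Fintype.card_subtype]
      have h3 : (Finset.univ.filter fun k => ¬ p k) ⊆ {i, j} := by
        intro k hk
        rw [Finset.mem_filter] at hk
        rw [Finset.mem_insert, Finset.mem_singleton]
        by_contra hcon
        rw [not_or] at hcon
        exact hk.2 hcon
      exact (Finset.card_le_card h3).trans Finset.card_le_two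
    have h3 := Fintype.card_subtype_le p
    omega
  have hsign : ∀ m : M, Equiv.Perm.sign (g m) = Equiv.Perm.sign (MulAction.toPerm (m : H) : Equiv.Perm B) := by
    intro m
    refine Equiv.Perm.sign_subtypePerm _ (hp m) fun x hx => ?_
    constructor
    · rintro rfl; exact hx ((hM m).1 m.2).1
    · rintro rfl; exact hx ((hM m).1 m.2).2
  have hgalt : ∀ m : M, g m ∈ alternatingGroup {k // p k} := by
    intro m
    rw [Equiv.Perm.mem_alternatingGroup, hsign]
    have := (hA (MulAction.toPerm (m : H) : Equiv.Perm B)).2 ⟨m, fun b => rfl⟩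
    convert this
  have hrange : alternatingGroup {k // p k} ≤ g.range := by
    intro σ hσ
    have h1 : Equiv.Perm.sign (Equiv.Perm.ofSubtype σ : Equiv.Perm B) = 1 := by
      rw [Equiv.Perm.sign_ofSubtype]
      exact Equiv.Perm.mem_alternatingGroup.1 hσ
    obtain ⟨m, hm⟩ := (hA (Equiv.Perm.ofSubtype σ)).1 (by convert h1)
    have hmM : m ∈ M := by
      rw [hM, hm, hm]
      exact ⟨Equiv.Perm.ofSubtype_apply_of_not_mem σ (fun h => h.1 rfl),
        Equiv.Perm.ofSubtype_apply_of_not_mem σ (fun h => h.2 rfl)⟩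
    refine ⟨⟨m, hmM⟩, ?_⟩
    ext x
    show m • (x : B) = _
    rw [hm, Equiv.Perm.ofSubtype_apply_coe]
  have h1 : alternatingGroup {k // p k} ≤ (commutator M).map g := by
    rw [commutator_def, Subgroup.map_commutator, ← MonoidHom.range_eq_map]
    conv_lhs => rw [alt_le_map_commutator hcard]
    exact Subgroup.commutator_mono hrange hrange
  obtain ⟨d, hd, hdh⟩ := h1 (hgalt h)
  have h2 : f d = 1 := by
    have h3 : commutator M ≤ f.ker := by
      rw [commutator_def, Subgroup.commutator_le]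
      intro x _ y _
      rw [MonoidHom.mem_ker, map_commutatorElement, commutatorElement_eq_one_iff_mul_comm, mul_comm]
    exact h3 hd
  have h3 : f (h * d⁻¹) = 1 := by
    apply hf
    intro b
    have h4 : g (h * d⁻¹) = 1 := by rw [map_mul, map_inv, hdh, mul_inv_cancel]
    by_cases hb : p b
    · have h5 := congrArg (fun σ => ((σ ⟨b, hb⟩ : {k // p k}) : B)) h4
      exact h5
    · have h6 : b = i ∨ b = j := by
        by_contra hcon
        rw [not_or] at hcon
        exact hb hcon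
      rcases h6 with rfl | rfl
      · exact ((hM _).1 (h * d⁻¹).2).1
      · exact ((hM _).1 (h * d⁻¹).2).2
  rw [map_mul, map_inv, h2, inv_one, mul_one] at h3
  exact h3

variable {p q r a : ℕ} {H V B : Type*} [Group H] [Finite H] [AddCommGroup V] [Finite V]
  [DistribMulAction H V] [Finite B] [MulAction H B] {W : B → AddSubgroup V} {K N Q P : Subgroup H}
  {φ : N →* ℂˣ} {t : B → H}

variable (R : RData r a W N Q P t) (I : ImpW (V := V) p q W K N Q φ)

/-- the cocycle with values in the units -/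
noncomputable def Uu (h : H) (i : B) : (ZMod (r ^ a))ˣ := (U_unit R I h i).unit

theorem Uu_val (h : H) (i : B) : ((Uu R I h i : (ZMod (r ^ a))ˣ) : ZMod (r ^ a)) = U R h i := rfl

theorem Uu_mul (g h : H) (i : B) : Uu R I (g * h) i = Uu R I g (h • i) * Uu R I h i :=
  Units.ext (by rw [Units.val_mul, Uu_val, Uu_val, Uu_val, U_mul R I])

theorem Uu_one (i : B) : Uu R I 1 i = 1 := Units.ext (by rw [Uu_val, U_one, Units.val_one])

theorem Uu_conj (g h : H) (i : B) (hi : h • i = i) : Uu R I (g * h * g⁻¹) (g • i) = Uu R I h i :=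
  Units.ext (by rw [Uu_val, Uu_val, U_conj R I g h i hi])

theorem Uu_pow {k : H} {i : B} (hi : k • i = i) (n : ℕ) : Uu R I (k ^ n) i = Uu R I k i ^ n :=
  Units.ext (by rw [Units.val_pow_eq_pow_val, Uu_val, Uu_val, U_pow R I hi])

include I in
theorem scal_U (hS : Scal N Q P) {k : H} (hk : k ∈ Q) (i j : B) : U R k i = U R k j := by
  obtain ⟨e, he⟩ := hS k hk
  have key : ∀ i, U R k i = e := by
    intro i
    have h1 := he (t i) (R.tP i)
    have h2 : k * t i * k⁻¹ ∈ P := R.nP.conj_mem _ (R.tP i) k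
    have h3 := X_N R I (mul_mem h2 (inv_mem (pow_mem (R.tP i) e))) h1 i
    rw [X_mul R I h2 (inv_mem (pow_mem (R.tP i) e)), X_inv R I (pow_mem (R.tP i) e), X_pow R I (R.tP i),
      X_t, mul_one] at h3
    have h4 : U R k i = X R i (k * t i * k⁻¹) := by rw [U, (I.memQ k).1 hk i]
    rw [h4]
    exact add_neg_eq_zero.1 h3
  rw [key i, key j]

/-- the set of the EDGE lemma -/
structure Om (B A : Type*) where
  b : B
  a : A

include I in
theorem no_hom {A : Type*} [CommGroup A] (f : H →* A) : f = 1 := by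
  ext h
  have h1 : h ∈ commutator H := by rw [I.core.perf]; trivial
  have h3 : commutator H ≤ f.ker := by
    rw [commutator_def, Subgroup.commutator_le]
    intro x _ y _
    rw [MonoidHom.mem_ker, map_commutatorElement, commutatorElement_eq_one_iff_mul_comm, mul_comm]
  exact h3 h1

include I in
theorem three_pts : ∃ i j k : B, i ≠ j ∧ i ≠ k ∧ j ≠ k := by
  have h0 : 0 < Nat.card B := lt_of_lt_of_le (by omega) I.card
  obtain ⟨⟨i⟩, -⟩ := Nat.card_pos_iff.1 h0
  obtain ⟨j, hj, -⟩ := third I i i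
  obtain ⟨k, h1, h2⟩ := third I i j
  exact ⟨i, j, k, hj, h1, h2⟩

/-- **the cocycle is a coboundary** (EDGE) -/
theorem coboundary (e : ℕ) (hrel : ∀ (h : H) (i j : B), i ≠ j → h • i = i → h • j = j →
    Uu R I h i ^ e = Uu R I h j ^ e) :
    ∃ c : B → (ZMod (r ^ a))ˣ, ∀ (h : H) (i : B), Uu R I h i ^ e * c i = c (h • i) := by
  letI iH : MulAction H (Om B (ZMod (r ^ a))ˣ) :=
    { smul := fun h x => ⟨h • x.b, Uu R I h x.b ^ e * x.a⟩
      one_smul := fun x => by
        show Om.mk ((1 : H) • x.b) (Uu R I 1 x.b ^ e * x.a) = x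
        rw [one_smul, Uu_one, one_pow, one_mul]
      mul_smul := fun g h x => by
        show Om.mk ((g * h) • x.b) (Uu R I (g * h) x.b ^ e * x.a) =
          Om.mk (g • h • x.b) (Uu R I g (h • x.b) ^ e * (Uu R I h x.b ^ e * x.a))
        rw [mul_smul, Uu_mul, mul_pow, mul_assoc] }
  letI iA : MulAction (ZMod (r ^ a))ˣ (Om B (ZMod (r ^ a))ˣ) :=
    { smul := fun u x => ⟨x.b, u * x.a⟩
      one_smul := fun x => by
        show Om.mk x.b (1 * x.a) = x
        rw [one_mul]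
      mul_smul := fun u v x => by
        show Om.mk x.b (u * v * x.a) = Om.mk x.b (u * (v * x.a))
        rw [mul_assoc] }
  have hH : ∀ (h : H) (x : Om B (ZMod (r ^ a))ˣ), h • x = ⟨h • x.b, Uu R I h x.b ^ e * x.a⟩ :=
    fun _ _ => rfl
  have hAa : ∀ (u : (ZMod (r ^ a))ˣ) (x : Om B (ZMod (r ^ a))ˣ), u • x = ⟨x.b, u * x.a⟩ := fun _ _ => rfl
  have D : Cfsg.Agent.H20.NX.Edge.Data H (ZMod (r ^ a))ˣ (Om.b : Om B (ZMod (r ^ a))ˣ → B) :=
    { surj := fun b => ⟨⟨b, 1⟩, rfl⟩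
      equiv := fun h x => rfl
      bA := fun u x => rfl
      comm := fun h u x => by
        rw [hAa, hH, hH, hAa]
        show Om.mk _ _ = Om.mk _ _
        rw [mul_left_comm]
      trans := fun x y hxy => ⟨y.a * x.a⁻¹, by
        rw [hAa]
        show Om.mk x.b _ = y
        rw [inv_mul_cancel_right, hxy]⟩
      free := fun u x hx => by
        rw [hAa] at hx
        have h1 : u * x.a = x.a := congrArg Om.a hx
        exact mul_eq_right.1 h1
      rel := fun h x y s t hxy h1 h2 => by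
        rw [hH, hAa] at h1 h2
        have e1 : h • x.b = x.b := congrArg Om.b h1
        have e2 : h • y.b = y.b := congrArg Om.b h2
        have e3 : Uu R I h x.b ^ e * x.a = s * x.a := congrArg Om.a h1
        have e4 : Uu R I h y.b ^ e * y.a = t * y.a := congrArg Om.a h2
        rw [← mul_right_cancel e3, ← mul_right_cancel e4]
        exact hrel h _ _ hxy e1 e2
      three := I.t3
      pts := three_pts I }
  obtain ⟨f, hf1, hf2⟩ := D.edge fun g => no_hom I g
  refine ⟨fun i => (f i).a, fun h i => ?_⟩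
  have h1 := hf2 h i
  rw [hH, hf1] at h1
  exact congrArg Om.a h1

/-- for `n ≥ 8` the cocycle is a coboundary -/
theorem cob_big (hA : IsAlt H B) (h7 : 7 ≤ Nat.card B) (hS : Scal N Q P) :
    ∃ c : B → (ZMod (r ^ a))ˣ, ∀ (h : H) (i : B), Uu R I h i * c i = c (h • i) := by
  obtain ⟨c, hc⟩ := coboundary R I 1 (fun h i j _ hi hj => by
    rw [pow_one, pow_one]
    let M : Subgroup H := MulAction.stabilizer H i ⊓ MulAction.stabilizer H j
    have hM : ∀ h, h ∈ M ↔ h • i = i ∧ h • j = j := fun h => Iff.rfl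
    let f : M →* (ZMod (r ^ a))ˣ := MonoidHom.mk' (fun h => Uu R I h i * (Uu R I h j)⁻¹) fun g h => by
      show Uu R I ((g : H) * h) i * (Uu R I ((g : H) * h) j)⁻¹ = _
      rw [Uu_mul, Uu_mul, ((hM h).1 h.2).1, ((hM h).1 h.2).2, mul_inv, mul_mul_mul_comm]
    have h1 := hom_trivial hA h7 i j M hM f (fun k hk => by
      show Uu R I k i * (Uu R I k j)⁻¹ = 1
      rw [mul_inv_eq_one]
      exact Units.ext (scal_U R I hS ((I.memQ k).2 hk) i j)) ⟨h, (hM h).2 ⟨hi, hj⟩⟩
    exact mul_inv_eq_one.1 h1)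
  exact ⟨c, fun h i => by rw [← hc, pow_one]⟩

end Cfsg.Agent.H32.NY.A322
end

-- part: H32/NY/Basic
section
set_option linter.all false
open scoped Cfsg.Agent.FastGrp

/-!
# S4979: basic consequences of `CoreW` (helper20)

* `mem_center` : an element centralising `H` modulo `N` is central;
* `exists_sylow_le` : every vector is fixed by a Sylow `p`-subgroup;
* `normal_char` : for `N ≤ Y ⊴ H_v` and `θ ∈ Irr(Y | φ)`: `p ∤ θ(1)` and a Sylow `p`-subgroup of `H` inside `H_v` fixes `θ`.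
-/

set_option autoImplicit false
set_option linter.style.haveILetI false
set_option linter.unusedSectionVars false

open Cfsg

namespace Cfsg.Agent.H32.NY.A20

open Cfsg.Agent.H20.NX Cfsg.Agent.H32.NX9 Cfsg.Agent.H32.NY.A32

open Cfsg.Agent.Characters.Core Cfsg.Agent.Characters.Clifford Cfsg.Agent.H672
open Cfsg.Agent.H672.RM (over_lin_iff)
open Cfsg.Agent.H586.GW Cfsg.Agent.H37.NX Cfsg.Agent.H32.NY.A37
open scoped commutatorElement

universe u

variable {p q : ℕ} {H V : Type u} [Group H] [Finite H] [AddCommGroup V] [Finite V]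
  [DistribMulAction H V] {K N : Subgroup H} {φ : N →* ℂˣ}

/-- in a perfect group an element centralising everything modulo a central subgroup is central -/
theorem mem_center_of_perfect {H : Type*} [Group H] {N : Subgroup H} (perf : commutator H = ⊤)
    (cen : N ≤ Subgroup.center H) {a : H} (ha : ∀ h : H, ⁅a, h⁆ ∈ N) : a ∈ Subgroup.center H := by
  have hz : ∀ h : H, ⁅a, h⁆ ∈ Subgroup.center H := fun h => cen (ha h)
  have hmul : ∀ x y : H, ⁅a, x * y⁆ = ⁅a, x⁆ * ⁅a, y⁆ := by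
    intro x y
    have h1 : ⁅a, x * y⁆ = ⁅a, x⁆ * (x * ⁅a, y⁆ * x⁻¹) := by
      simp only [commutatorElement_def]; group
    rw [h1, Subgroup.mem_center_iff.1 (hz y) x, mul_inv_cancel_right]
  let f : H →* H := MonoidHom.mk' (fun h => ⁅a, h⁆) hmul
  have h1 : commutator H ≤ f.ker := by
    rw [commutator_def, Subgroup.commutator_le]
    intro x _ y _
    rw [MonoidHom.mem_ker, map_commutatorElement, commutatorElement_eq_one_iff_mul_comm]
    exact (Subgroup.mem_center_iff.1 (hz x) (f y)).symm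
  rw [perf] at h1
  rw [Subgroup.mem_center_iff]
  intro g
  have h2 : f g = 1 := h1 (Subgroup.mem_top g)
  exact (commutatorElement_eq_one_iff_mul_comm.1 h2).symm

section
variable [hp : Fact p.Prime]

/-- the characters over `φ` of a normal subgroup `Y` of a stabiliser -/
theorem normal_char (C : CoreW (V := V) p q K N φ) (v : V) (Y : Subgroup H) (hNY : N ≤ Y)
    (hYv : Y ≤ MulAction.stabilizer H v)
    (hYn : ∀ g : H, g • v = v → ∀ y ∈ Y, g * y * g⁻¹ ∈ Y) {θ : Y → ℂ} (hθ : IsIrrCharacter Y θ)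
    (hθN : ∀ n (hn : n ∈ N), θ ⟨n, hNY hn⟩ = θ 1 * φ ⟨n, hn⟩) :
    ¬ p ∣ charDegree θ ∧ ∃ P : Sylow p H, (P : Subgroup H) ≤ MulAction.stabilizer H v ∧
      ∀ x ∈ P, ∀ (y : Y) (hy : x * y * x⁻¹ ∈ Y), θ ⟨x * y * x⁻¹, hy⟩ = θ y := by
  classical
  set T := MulAction.stabilizer H v with hT
  let Y' : Subgroup T := Y.subgroupOf T
  haveI hY'n : Y'.Normal := by
    constructor
    intro y hy g
    exact hYn g g.2 _ hy
  let e : Y' ≃* Y := Subgroup.subgroupOfEquivOfLe hYv
  let θ' : Y' → ℂ := θ ∘ e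
  have hθ' : IsIrrCharacter Y' θ' := isIrr_comp e.toMonoidHom e.surjective hθ
  have hdeg : charDegree θ' = charDegree θ := by
    rw [Blocks.Basic.charDegree_def, Blocks.Basic.charDegree_def]
    change ⌊(θ (e 1)).re⌋₊ = _
    rw [map_one]
  -- all characters over `θ'` have degree prime to `p`
  have hover : ∀ χ : T → ℂ, IsIrrCharacter T χ → Over Y'.subtype χ θ' → ¬ p ∣ charDegree χ := by
    intro χ hχ hov
    refine C.P2 v χ hχ ?_
    have hNT : N ≤ T := hNY.trans hYv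
    let iN : N →* Y' := (e.symm.toMonoidHom).comp (Subgroup.inclusion hNY)
    have hcT : ∀ n : N, Y'.subtype (iN n) ∈ Subgroup.center T := by
      intro n
      rw [Subgroup.mem_center_iff]
      intro g
      exact Subtype.ext (Subgroup.mem_center_iff.1 (C.cen n.2) (g : H))
    have hcY : ∀ n : N, iN n ∈ Subgroup.center Y' := by
      intro n
      rw [Subgroup.mem_center_iff]
      intro g
      exact Subtype.ext (Subgroup.mem_center_iff.1 (hcT n) g)
    have h1 : Over iN θ' (lf φ) := by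
      rw [over_lin_iff iN hcY hθ']
      intro n
      have h2 : e (iN n) = ⟨n, hNY n.2⟩ := by
        change e (e.symm _) = _
        rw [e.apply_symm_apply]
        rfl
      change θ (e (iN n)) = θ (e 1) * _
      rw [h2, map_one]
      exact hθN n n.2
    have h2 : Over (Y'.subtype.comp iN) χ (lf φ) :=
      (over_comp_iff _ _ (isIrr_isCharacter hχ) (isIrr_lf φ)).2 ⟨θ', hθ', hov, h1⟩
    rw [over_lin_iff _ hcT hχ] at h2
    intro n hn hn'
    exact h2 ⟨n, hn⟩
  have hrel : RelP p Y'.subtype θ' := fun χ hχ hov hd => hover χ hχ hov ((dvd_mul_right _ _).trans hd)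
  constructor
  · obtain ⟨χ, hχ, hov⟩ := exists_over_subtype Y' hθ'
    intro hd
    refine hover χ hχ hov (dvd_trans ?_ (charDegree_dvd_of_over Y' hχ hθ' hov).1)
    rw [hdeg]
    exact hd
  · have hidx := hrel.not_dvd_index Y' hθ'
    obtain ⟨P⟩ : Nonempty (Sylow p (inertia Y' θ')) := inferInstance
    obtain ⟨S, hS⟩ := Cfsg.Agent.H37.NW.exists_sylow_map hidx P
    obtain ⟨R, hR⟩ := Cfsg.Agent.H37.NW.exists_sylow_map (C.P1 v) S
    refine ⟨R, ?_, ?_⟩
    · rw [hR]
      exact Subgroup.map_subtype_le _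
    · intro x hx y hy
      have hx' : x ∈ (R : Subgroup H) := hx
      rw [hR] at hx'
      obtain ⟨t, ht, rfl⟩ := hx'
      change t ∈ (S : Subgroup T) at ht
      rw [hS] at ht
      obtain ⟨s, -, rfl⟩ := ht
      have h3 := mem_inertia_iff.1 s.2 (e.symm y)
      exact h3

end

end Cfsg.Agent.H32.NY.A20
end

-- part: H32/NY/Lab
section
prune_inst 0x2f4202305442200000018000200000020310001020040000008e6040000088a62290120011070001010108040400280681310001002300000200086004118040104ab42e68318bc0030000640e805180c00000000000000000000000000000000000000000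
set_option linter.all false
open scoped Cfsg.Agent.FastGrp

/-!
# S4979, layer (I): the final contradictions (helper912)

* `stab_index`: P2 for a linear character over `φ` of a normal subgroup of `H_v`;
* `exists_char`: a linear character of `N × ∏ S i` with prescribed restrictions;
* `ImpW.prod_false`, `ImpW.zero_false`.
-/

set_option autoImplicit false
set_option linter.unusedSectionVars false
set_option linter.style.haveILetI false

open Cfsg
open scoped Pointwise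

namespace Cfsg.Agent.H32.NY.A912

open Cfsg.Agent.H912.NX Cfsg.Agent.H32.NX9 Cfsg.Agent.H32.NY.A32

open Cfsg.Agent.H37.NX Cfsg.Agent.H32.NY.A37 Cfsg.Agent.H32.NX9 Cfsg.Agent.H32.NY.A32 Cfsg.Agent.H511.Wt Cfsg.Agent.H672

universe u

section core
variable {p q : ℕ} {H V : Type u} [Group H] [Finite H] [AddCommGroup V] [Finite V] [DistribMulAction H V]
  {K N : Subgroup H} {φ : N →* ℂˣ}

/-- [I-t] the tool of (I3): P2 for a linear character over `φ` of a normal subgroup of `H_v`. -/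
theorem stab_index (hp : p.Prime) (C : CoreW (V := V) p q K N φ) (v : V) (Y : Subgroup H) (hNY : N ≤ Y)
    (hYv : ∀ y ∈ Y, y • v = v) (hYn : ∀ h : H, h • v = v → ∀ y ∈ Y, h * y * h⁻¹ ∈ Y) (ψ : Y →* ℂˣ)
    (hψ : ∀ n (hn : n ∈ N), ψ ⟨n, hNY hn⟩ = φ ⟨n, hn⟩) (T : Subgroup H)
    (hT : ∀ h : H, h • v = v → (∀ y (hy : y ∈ Y) (hy' : h * y * h⁻¹ ∈ Y), ψ ⟨h * y * h⁻¹, hy'⟩ = ψ ⟨y, hy⟩) → h ∈ T) :
    ¬ p ∣ T.index := by
  haveI : Fact p.Prime := ⟨hp⟩
  obtain ⟨-, P, hPv, hP⟩ := Cfsg.Agent.H32.NY.A20.normal_char C v Y hNY (fun y hy => hYv y hy) hYn (isIrr_lf ψ) (by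
    intro n hn
    rw [lf_apply, lf_apply, map_one, Units.val_one, one_mul, hψ n hn])
  have h1 : (P : Subgroup H) ≤ T := by
    intro x hx
    refine hT x (hPv hx) ?_
    intro y hy hy'
    have h2 := hP x hx ⟨y, hy⟩ hy'
    rw [lf_apply, lf_apply] at h2
    exact Units.ext h2
  intro h2
  exact (Sylow.not_dvd_index P) (h2.trans (Subgroup.index_dvd_of_le h1))

end core

section build

variable {H V B : Type*} [Group H] [Finite H] [AddCommGroup V] [DistribMulAction H V]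

/-- A linear character of `N × ∏ S i` with prescribed restrictions. -/
theorem exists_char {ι : Type*} [Finite ι] (N : Subgroup H) (hN : N ≤ Subgroup.center H) (φ : N →* ℂˣ)
    (S : ι → Subgroup H) (hcomm : ∀ i j, ∀ a ∈ S i, ∀ b ∈ S j, a * b = b * a)
    (U : ι → AddSubgroup V) (hNU : ∀ n ∈ N, ∀ v : V, n • v = v)
    (hSU : ∀ i, ∀ s ∈ S i, ∀ w ∈ U i, s • w ∈ U i)
    (htriv : ∀ i j, i ≠ j → ∀ s ∈ S i, ∀ w ∈ U j, s • w = w)
    (hfaith : ∀ i, ∀ s ∈ S i, (∀ w ∈ U i, s • w = w) → s = 1)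
    (c : ∀ i, S i →* ℂˣ) :
    ∃ ψ : ↥(N ⊔ ⨆ i, S i) →* ℂˣ, (∀ n (hn : n ∈ N) (hn' : n ∈ N ⊔ ⨆ i, S i), ψ ⟨n, hn'⟩ = φ ⟨n, hn⟩) ∧
      ∀ i x (hx : x ∈ S i) (hx' : x ∈ N ⊔ ⨆ i, S i), ψ ⟨x, hx'⟩ = c i ⟨x, hx⟩ := by
  classical
  haveI : Fintype ι := Fintype.ofFinite ι
  have hc : Pairwise fun i j => ∀ x y : H, x ∈ S i → y ∈ S j → Commute x y :=
    fun i j _ x y hx hy => hcomm i j x hx y hy
  let F : (∀ i, S i) →* H := Subgroup.noncommPiCoprod hc
  have hF1 : ∀ i (x : S i), F (Pi.mulSingle i x) = x := fun i x => Subgroup.noncommPiCoprod_mulSingle i x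
  have hFr : F.range = ⨆ i, S i := Subgroup.noncommPiCoprod_range
  -- action of `F t` on `U i`
  have hact : ∀ i (t : ∀ i, S i), ∀ w ∈ U i, F t • w = (t i : H) • w := by
    intro i t
    let E : Subgroup (∀ i, S i) :=
      { carrier := {t | ∀ w ∈ U i, F t • w = (t i : H) • w}
        one_mem' := by
          intro w _
          simp only [_root_.map_one, _root_.one_smul, _root_.Pi.one_apply, _root_.OneMemClass.coe_one]
        mul_mem' := by
          intro a b ha hb w hw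
          rw [map_mul, mul_smul, hb w hw, ha _ (hSU i _ (b i).2 w hw), Pi.mul_apply, Subgroup.coe_mul,
            mul_smul]
        inv_mem' := by
          intro a ha w hw
          have h1 : (a i : H)⁻¹ • w ∈ U i := hSU i _ (S i |>.inv_mem (a i).2) w hw
          have h2 := ha _ h1
          rw [smul_inv_smul] at h2
          rw [map_inv, inv_smul_eq_iff, Pi.inv_apply, Subgroup.coe_inv]
          exact h2.symm }
    have hE : t ∈ E := by
      refine Subgroup.pi_mem_of_mulSingle_mem t ?_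
      intro j w hw
      rw [hF1]
      by_cases hj : j = i
      · subst hj
        rw [Pi.mulSingle_eq_same]
      · rw [Pi.mulSingle_eq_of_ne (Ne.symm hj)]
        rw [htriv j i hj _ (t j).2 w hw, Subgroup.coe_one, one_smul]
    exact hE
  let G : N × (∀ i, S i) →* H :=
    { toFun := fun x => (x.1 : H) * F x.2
      map_one' := by simp only [_root_.Prod.fst_one, _root_.OneMemClass.coe_one, _root_.Prod.snd_one, _root_.map_one, _root_.mul_one]
      map_mul' := by
        intro x y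
        have h1 : (y.1 : H) * F x.2 = F x.2 * y.1 := (Subgroup.mem_center_iff.1 (hN y.1.2) _).symm
        simp only [Prod.fst_mul, Prod.snd_mul, Subgroup.coe_mul, map_mul]
        rw [mul_assoc, mul_assoc, ← mul_assoc (y.1 : H), h1]
        simp only [mul_assoc] }
  have hGinj : Function.Injective G := by
    rw [injective_iff_map_eq_one]
    rintro ⟨n, t⟩ h
    have h1 : (n : H) * F t = 1 := h
    have h2 : F t = (n : H)⁻¹ := eq_inv_of_mul_eq_one_right h1
    have h3 : ∀ i, t i = 1 := by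
      intro i
      apply Subtype.ext
      refine hfaith i _ (t i).2 ?_
      intro w hw
      rw [← hact i t w hw, h2]
      exact hNU _ (N.inv_mem n.2) w
    have h4 : t = 1 := funext h3
    rw [h4, map_one, mul_one] at h1
    refine Prod.ext (Subtype.ext h1) h4
  have hGr : G.range = N ⊔ ⨆ i, S i := by
    apply le_antisymm
    · rintro _ ⟨⟨n, t⟩, rfl⟩
      refine mul_mem (Subgroup.mem_sup_left n.2) (Subgroup.mem_sup_right ?_)
      rw [← hFr]
      exact ⟨t, rfl⟩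
    · refine sup_le ?_ (iSup_le ?_)
      · intro n hn
        exact ⟨(⟨n, hn⟩, 1), by simp [G]⟩
      · intro i x hx
        refine ⟨(1, Pi.mulSingle i ⟨x, hx⟩), ?_⟩
        change ((1 : N) : H) * F _ = x
        rw [hF1]
        simp
  let e : N × (∀ i, S i) ≃* ↥(N ⊔ ⨆ i, S i) :=
    (MonoidHom.ofInjective hGinj).trans (MulEquiv.subgroupCongr hGr)
  have he : ∀ x, ((e x : ↥(N ⊔ ⨆ i, S i)) : H) = G x := fun x => rfl
  let κ : N × (∀ i, S i) →* ℂˣ :=
    (φ.comp (MonoidHom.fst _ _)) * ((∏ i, (c i).comp (Pi.evalMonoidHom (fun i => S i) i)).comp (MonoidHom.snd _ _))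
  refine ⟨κ.comp e.symm.toMonoidHom, ?_, ?_⟩
  · intro n hn hn'
    have h1 : e (⟨n, hn⟩, 1) = ⟨n, hn'⟩ := by
      apply Subtype.ext
      rw [he]
      simp [G]
    have h2 : e.symm ⟨n, hn'⟩ = (⟨n, hn⟩, 1) := by rw [← h1, e.symm_apply_apply]
    change κ (e.symm _) = _
    rw [h2]
    simp only [κ, _root_.MonoidHom.mul_apply, _root_.MonoidHom.coe_comp, _root_.MonoidHom.coe_fst, _root_.Function.comp_apply, _root_.MonoidHom.coe_snd, _root_.MonoidHom.finsetProd_apply, _root_.Pi.coe_evalMonoidHom, _root_.Function.eval, _root_.Pi.one_apply, _root_.map_one, _root_.Finset.prod_const_one, _root_.mul_one]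
  · intro i x hx hx'
    have h1 : e (1, Pi.mulSingle i ⟨x, hx⟩) = ⟨x, hx'⟩ := by
      apply Subtype.ext
      rw [he]
      change ((1 : N) : H) * F _ = x
      rw [hF1]
      simp
    have h2 : e.symm ⟨x, hx'⟩ = (1, Pi.mulSingle i ⟨x, hx⟩) := by rw [← h1, e.symm_apply_apply]
    change κ (e.symm _) = _
    rw [h2]
    simp only [κ, MonoidHom.mul_apply, MonoidHom.comp_apply, MonoidHom.coe_fst, MonoidHom.coe_snd, map_one, one_mul,
      MonoidHom.finsetProd_apply, Pi.evalMonoidHom_apply]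
    rw [Finset.prod_eq_single i]
    · rw [Pi.mulSingle_eq_same]
    · intro j _ hj
      rw [Pi.mulSingle_eq_of_ne hj, map_one]
    · intro h
      exact absurd (Finset.mem_univ i) h

end build

section imp
variable {p q : ℕ} {H V : Type u} {B : Type*} [Group H] [Finite H] [AddCommGroup V] [Finite V] [DistribMulAction H V]
  [Finite B] [MulAction H B] {W : B → AddSubgroup V} {K N Q : Subgroup H} {φ : N →* ℂˣ}

theorem mul_mem_W (I : ImpW (V := V) p q W K N Q φ) (g : H) (i : B) {w : V} (hw : w ∈ W i) : g • w ∈ W (g • i) := by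
  rw [← I.smulW]
  exact AddSubgroup.smul_mem_pointwise_smul w g (W i) hw

theorem exists_h (I : ImpW (V := V) p q W K N Q φ) (i j : B) : ∃ h : H, h • i = j := by
  have h1 : 3 ≤ Nat.card B := by
    have := I.card
    have h2 := I.hp.two_le
    omega
  classical
  haveI := Fintype.ofFinite B
  rw [Nat.card_eq_fintype_card] at h1
  have hex : ∀ i : B, ∃ k l : B, i ≠ k ∧ i ≠ l ∧ k ≠ l := by
    intro i
    have h2 : 1 < (Finset.univ.erase i).card := by
      rw [Finset.card_erase_of_mem (Finset.mem_univ i), Finset.card_univ]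
      omega
    obtain ⟨k, hk, l, hl, hkl⟩ := Finset.one_lt_card.1 h2
    exact ⟨k, l, (Finset.ne_of_mem_erase hk).symm, (Finset.ne_of_mem_erase hl).symm, hkl⟩
  obtain ⟨k, l, h2, h3, h4⟩ := hex i
  obtain ⟨k', l', h5, h6, h7⟩ := hex j
  obtain ⟨h, hh, -⟩ := I.t3 i k l j k' l' h2 h3 h4 h5 h6 h7
  exact ⟨h, hh⟩

theorem exists_ne_zero (I : ImpW (V := V) p q W K N Q φ) (i : B) : ∃ w ∈ W i, w ≠ 0 := by
  by_contra hcon
  push Not at hcon
  have h1 : ∀ j, W j ≤ ⊥ := by
    intro j w hw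
    obtain ⟨h, hh⟩ := exists_h I j i
    have h2 := mul_mem_W I h j hw
    rw [hh] at h2
    have h3 := hcon _ h2
    rw [AddSubgroup.mem_bot]
    exact (smul_eq_zero_iff_eq h).1 h3
  have h2 : (⊤ : AddSubgroup V) ≤ ⊥ := by
    rw [← I.top]
    exact iSup_le h1
  haveI := I.core.nt
  obtain ⟨v, hv⟩ := exists_ne (0 : V)
  exact hv ((AddSubgroup.mem_bot).1 (h2 (AddSubgroup.mem_top v)))

/-- a vector with support the complement of `Γ` -/
theorem exists_vec (I : ImpW (V := V) p q W K N Q φ) (Γ : Set B) :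
    ∃ v : V, (∀ h : H, (∀ i, i ∉ Γ → ∀ w ∈ W i, h • w = w) → h • v = v) ∧
      ∀ h : H, h • v = v → ∀ c ∈ Γ, h • c ∈ Γ := by
  classical
  haveI := Fintype.ofFinite B
  choose w hw hw0 using exists_ne_zero I
  let f : B → V := fun i => if i ∈ Γ then 0 else w i
  have hf : ∀ i, f i ∈ W i := by
    intro i
    by_cases h : i ∈ Γ
    · simp only [f, if_pos h]
      exact (W i).zero_mem
    · simp only [f, if_neg h]
      exact hw i
  refine ⟨∑ i, f i, ?_, ?_⟩
  · intro h hh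
    rw [Finset.smul_sum]
    refine Finset.sum_congr rfl fun i _ => ?_
    by_cases hi : i ∈ Γ
    · simp only [f, if_pos hi, smul_zero]
    · simp only [f, if_neg hi]
      exact hh i hi _ (hw i)
  · intro h hh c hc
    by_contra hcon
    have h1 : ∑ i, (h • f (h⁻¹ • i) - f i) = 0 := by
      rw [Finset.sum_sub_distrib]
      have h2 : ∑ i, h • f (h⁻¹ • i) = ∑ i, h • f i := by
        refine Fintype.sum_equiv (MulAction.toPerm h⁻¹) _ _ ?_
        intro i
        rfl
      rw [h2, ← Finset.smul_sum, hh, sub_self]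
    have h3 : ∀ i, h • f (h⁻¹ • i) - f i ∈ W i := by
      intro i
      refine (W i).sub_mem ?_ (hf i)
      have := mul_mem_W I h (h⁻¹ • i) (hf (h⁻¹ • i))
      rwa [smul_inv_smul] at this
    have h4 := sum_unique I.ind h3 h1 (h • c)
    rw [inv_smul_smul] at h4
    simp only [f, if_pos hc, if_neg hcon, smul_zero, zero_sub, neg_eq_zero] at h4
    exact hw0 _ h4

theorem exists_Gamma (I : ImpW (V := V) p q W K N Q φ) : ∃ (Γ : Set B) (b : B), b ∈ Γ ∧ Γ.ncard = p := by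
  classical
  haveI := Fintype.ofFinite B
  have h1 : p ≤ (Finset.univ : Finset B).card := by
    rw [Finset.card_univ, ← Nat.card_eq_fintype_card]
    have := I.card
    omega
  obtain ⟨s, -, hs⟩ := Finset.exists_subset_card_eq h1
  have h2 : s.Nonempty := by
    rw [← Finset.card_pos, hs]
    exact I.hp.pos
  obtain ⟨b, hb⟩ := h2
  exact ⟨(s : Set B), b, by simpa using hb, by rw [Set.ncard_coe_finset, hs]⟩

/-- The stabilizer of `b` and of the set `Γ`. -/
theorem index_false (I : ImpW (V := V) p q W K N Q φ) (Γ : Set B) (b : B) (hb : b ∈ Γ) (hΓ : Γ.ncard = p)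
    (v : V) (hvΓ : ∀ h : H, h • v = v → ∀ c ∈ Γ, h • c ∈ Γ)
    (Y : Subgroup H) (hNY : N ≤ Y)
    (hYv : ∀ y ∈ Y, y • v = v) (hYn : ∀ h : H, h • v = v → ∀ y ∈ Y, h * y * h⁻¹ ∈ Y) (ψ : Y →* ℂˣ)
    (hψ : ∀ n (hn : n ∈ N), ψ ⟨n, hNY hn⟩ = φ ⟨n, hn⟩)
    (hst : ∀ h : H, h • v = v → (∀ c ∈ Γ, h • c ∈ Γ) →
      (∀ y (hy : y ∈ Y) (hy' : h * y * h⁻¹ ∈ Y), ψ ⟨h * y * h⁻¹, hy'⟩ = ψ ⟨y, hy⟩) → h • b = b) : False := by
  let T : Subgroup H := MulAction.stabilizer H b ⊓ MulAction.stabilizer H Γ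
  have hT1 : ∀ t ∈ T, t • b = b := fun t ht => ht.1
  have hT2 : ∀ t ∈ T, ∀ c ∈ Γ, t • c ∈ Γ := by
    intro t ht c hc
    have h1 : t • Γ = Γ := ht.2
    rw [← h1]
    exact Set.smul_mem_smul_set hc
  refine stab_index I.hp I.core v Y hNY hYv hYn ψ hψ T ?_ (I.lab Γ b hb hΓ T hT1 hT2)
  intro h hv hinv
  have h1 := hvΓ h hv
  refine ⟨hst h hv h1 hinv, ?_⟩
  have hfin : Γ.Finite := Set.toFinite _
  change h • Γ = Γ
  apply Set.eq_of_subset_of_ncard_le
  · rintro _ ⟨c, hc, rfl⟩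
    exact h1 c hc
  · rw [Set.ncard_smul_set]
  · exact hfin

/-- [I-e1] PROD. -/
theorem prod_false (I : ImpW (V := V) p q W K N Q φ) (T : B → Subgroup H) (hTQ : ∀ i, T i ≤ Q)
    (hconj : ∀ (h : H) (i : B), ∀ t ∈ T i, h * t * h⁻¹ ∈ T (h • i))
    (htriv : ∀ i j, i ≠ j → ∀ t ∈ T i, ∀ w ∈ W j, t • w = w) (hT1 : ∀ i, T i ≠ ⊥)
    (hab : ∀ i j, ∀ a ∈ T i, ∀ b ∈ T j, a * b = b * a) (hTN : (⨆ i, T i) ⊓ N = ⊥) : False := by
  classical
  obtain ⟨Γ, b, hb, hΓ⟩ := exists_Gamma I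
  obtain ⟨v, hv1, hv2⟩ := exists_vec I Γ
  -- characters
  have hchar : ∀ i : Γ, ∃ c : T i →* ℂˣ, ((i : B) ≠ b → ∃ x, c x ≠ 1) ∧ ((i : B) = b → c = 1) := by
    intro i
    by_cases hi : (i : B) = b
    · exact ⟨1, fun h => absurd hi h, fun _ => rfl⟩
    · letI : CommGroup (T i) := { (inferInstance : Group (T i)) with
        mul_comm := fun x y => Subtype.ext (hab i i x x.2 y y.2) }
      obtain ⟨x, hx⟩ : ∃ x : T i, x ≠ 1 := by
        by_contra hcon
        push Not at hcon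
        apply hT1 i
        rw [eq_bot_iff]
        intro x hx
        have := congrArg Subtype.val (hcon ⟨x, hx⟩)
        exact this
      obtain ⟨c, hc⟩ := CommGroup.exists_apply_ne_one_of_hasEnoughRootsOfUnity (T i) ℂ hx
      exact ⟨c, fun _ => ⟨x, hc⟩, fun h => absurd h hi⟩
  choose c hc1 hc2 using hchar
  have hker : ∀ n ∈ N, ∀ w : V, n • w = w := fun n hn => (I.core.ker n).2 hn
  have hfaith : ∀ i : Γ, ∀ s ∈ T i, (∀ w ∈ W i, s • w = w) → s = 1 := by
    intro i s hs hw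
    have h1 : s ∈ N := by
      rw [← I.core.ker]
      have h2 : (⊤ : AddSubgroup V) ≤
          { carrier := {x | s • x = x}, zero_mem' := smul_zero s,
            add_mem' := fun {a b} ha hb => by
              have ha' : s • a = a := ha
              have hb' : s • b = b := hb
              change s • (a + b) = a + b
              rw [smul_add, ha', hb']
            neg_mem' := fun {a} ha => by
              have ha' : s • a = a := ha
              change s • (-a) = -a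
              rw [smul_neg, ha'] } := by
        rw [← I.top]
        refine iSup_le ?_
        intro j w hw'
        by_cases hj : (i : B) = j
        · subst hj
          exact hw w hw'
        · exact htriv i j hj s hs w hw'
      intro x
      exact h2 (AddSubgroup.mem_top x)
    have h3 : s ∈ (⨆ i, T i) ⊓ N := ⟨Subgroup.mem_iSup_of_mem (i : B) hs, h1⟩
    rw [hTN] at h3
    exact h3
  have hTW : ∀ i : B, ∀ s ∈ T i, ∀ j, ∀ w ∈ W j, s • w ∈ W j := by
    intro i s hs j w hw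
    have h1 := mul_mem_W I s j hw
    rwa [(I.memQ s).1 (hTQ i hs) j] at h1
  let Y : Subgroup H := N ⊔ ⨆ i : Γ, T i
  obtain ⟨ψ, hψN, hψT⟩ : ∃ ψ : Y →* ℂˣ, (∀ n (hn : n ∈ N) (hn' : n ∈ Y), ψ ⟨n, hn'⟩ = φ ⟨n, hn⟩) ∧
      ∀ (i : Γ) x (hx : x ∈ T i) (hx' : x ∈ Y), ψ ⟨x, hx'⟩ = c i ⟨x, hx⟩ :=
    exists_char N I.core.cen φ (fun i : Γ => T i)
    (fun i j a ha b hb => hab i j a ha b hb) (fun i : Γ => W i) hker
    (fun i s hs w hw => hTW i s hs i w hw)
    (fun i j hij s hs w hw => htriv i j (fun h => hij (Subtype.ext h)) s hs w hw) hfaith c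
  have hTY : ∀ i ∈ Γ, T i ≤ Y := fun i hi => le_trans (le_iSup (fun i : Γ => T i) ⟨i, hi⟩) le_sup_right
  refine index_false I Γ b hb hΓ v hv2 Y le_sup_left ?_ ?_ ψ (fun n hn => hψN n hn _) ?_
  · -- `Y` fixes `v`
    have h1 : Y ≤ MulAction.stabilizer H v := by
      refine sup_le (fun n hn => hker n hn v) (iSup_le ?_)
      rintro ⟨i, hi⟩ t ht
      refine hv1 t ?_
      intro j hj w hw
      exact htriv i j (fun h => hj (h ▸ hi)) t ht w hw
    exact fun y hy => h1 hy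
  · -- `Y` is normalized
    intro h hv
    have h1 : Y ≤ Y.comap (MulAut.conj h).toMonoidHom := by
      refine sup_le ?_ (iSup_le ?_)
      · intro n hn
        rw [Subgroup.mem_comap]
        have h2 : h * n * h⁻¹ = n := by
          rw [Subgroup.mem_center_iff.1 (I.core.cen hn) h, mul_inv_cancel_right]
        change h * n * h⁻¹ ∈ Y
        rw [h2]
        exact Subgroup.mem_sup_left hn
      · rintro ⟨i, hi⟩ t ht
        rw [Subgroup.mem_comap]
        change h * t * h⁻¹ ∈ Y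
        exact hTY _ (hv2 h hv i hi) (hconj h i t ht)
    exact fun y hy => h1 hy
  · intro h hv hΓ' hinv
    by_contra hne
    have hb' : h • b ∈ Γ := hΓ' b hb
    obtain ⟨⟨x, hx⟩, hx1⟩ := hc1 ⟨h • b, hb'⟩ hne
    have h1 : h⁻¹ * x * h ∈ T b := by
      have := hconj h⁻¹ (h • b) x hx
      rwa [inv_smul_smul, inv_inv] at this
    have h2 : h * (h⁻¹ * x * h) * h⁻¹ = x := by group
    have h3 := hinv (h⁻¹ * x * h) (hTY b hb h1) (by rw [h2]; exact hTY _ hb' hx)
    rw [hψT ⟨b, hb⟩ _ h1] at h3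
    have h4 : ψ ⟨h * (h⁻¹ * x * h) * h⁻¹, by rw [h2]; exact hTY _ hb' hx⟩ = c ⟨h • b, hb'⟩ ⟨x, hx⟩ := by
      rw [← hψT ⟨h • b, hb'⟩ x hx (hTY _ hb' hx)]
      congr 1
      exact Subtype.ext h2
    rw [h4, hc2 ⟨b, hb⟩ rfl] at h3
    exact hx1 h3

/-- [I-e2] ZERO. -/
theorem zero_false (I : ImpW (V := V) p q W K N Q φ) {r : ℕ} (hr : r.Prime) (y : B → B → H)
    (hyQ : ∀ i j, i ≠ j → y i j ∈ Q) (hyN : ∀ i j, i ≠ j → y i j ∉ N)
    (htriv : ∀ i j k, i ≠ j → k ≠ i → k ≠ j → ∀ w ∈ W k, y i j • w = w)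
    (hab : ∀ i j k l, i ≠ j → k ≠ l → y i j * y k l = y k l * y i j)
    (hconj : ∀ (h : H) (i j : B), i ≠ j → h * y i j * h⁻¹ = y (h • i) (h • j))
    (hinv : ∀ i j, i ≠ j → y i j * y j i = 1)
    (hmul : ∀ i j k, i ≠ j → i ≠ k → j ≠ k → y i j * y j k = y i k)
    (hpow : ∀ i j, i ≠ j → y i j ^ r = 1) : False := by
  classical
  haveI : Fact r.Prime := ⟨hr⟩
  obtain ⟨Γ, b, hb, hΓ⟩ := exists_Gamma I
  obtain ⟨v, hv1, hv2⟩ := exists_vec I Γ
  have hker : ∀ n ∈ N, ∀ w : V, n • w = w := fun n hn => (I.core.ker n).2 hn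
  have hp3 : 3 ≤ p := by
    have h1 := I.hp.two_le
    have h2 := I.core.odd
    omega
  -- order of `y`
  have hy1 : ∀ i j, i ≠ j → y i j ≠ 1 := fun i j hij h => hyN i j hij (h ▸ N.one_mem)
  have hord : ∀ i j, i ≠ j → orderOf (y i j) = r := fun i j hij => orderOf_eq_prime (hpow i j hij) (hy1 i j hij)
  have hyinv : ∀ i j, i ≠ j → y j i = (y i j)⁻¹ := fun i j hij => (eq_inv_of_mul_eq_one_right (hinv i j hij))
  -- `y i j` is nontrivial on `W j`
  have hnt : ∀ i j, i ≠ j → ¬ ∀ w ∈ W j, y i j • w = w := by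
    intro i j hij hcon
    apply hyN i j hij
    rw [← I.core.ker]
    have hi : ∀ w ∈ W i, y i j • w = w := by
      -- move `(i, j)` to `(j, i)`
      obtain ⟨k, hk1, hk2⟩ : ∃ k, i ≠ k ∧ j ≠ k := by
        haveI := Fintype.ofFinite B
        have h3 : 5 ≤ Fintype.card B := by
          rw [← Nat.card_eq_fintype_card]
          have := I.card
          omega
        have h2 : 0 < ((Finset.univ.erase i).erase j).card := by
          rw [Finset.card_erase_of_mem (Finset.mem_erase.2 ⟨hij.symm, Finset.mem_univ j⟩),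
            Finset.card_erase_of_mem (Finset.mem_univ i), Finset.card_univ]
          omega
        obtain ⟨k, hk⟩ := Finset.card_pos.1 h2
        rw [Finset.mem_erase, Finset.mem_erase] at hk
        exact ⟨k, hk.2.1.symm, hk.1.symm⟩
      obtain ⟨h, h1, h2, -⟩ := I.t3 i j k j i k hij hk1 hk2 hij.symm hk2 hk1
      intro w hw
      have h3 : y j i = h * y i j * h⁻¹ := by rw [hconj h i j hij, h1, h2]
      have h4 : h⁻¹ • w ∈ W j := by
        have := mul_mem_W I h⁻¹ i hw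
        rwa [show h⁻¹ • i = j by rw [inv_smul_eq_iff]; exact h2.symm] at this
      have h5 : y j i • w = w := by
        rw [h3, mul_smul, mul_smul, hcon _ h4, smul_inv_smul]
      rw [hyinv i j hij] at h5
      rw [inv_smul_eq_iff] at h5
      exact h5.symm
    have h2 : (⊤ : AddSubgroup V) ≤
        { carrier := {x | y i j • x = x}, zero_mem' := smul_zero (y i j),
          add_mem' := fun {a b} ha hb => by
            have ha' : y i j • a = a := ha
            have hb' : y i j • b = b := hb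
            change y i j • (a + b) = a + b
            rw [smul_add, ha', hb']
          neg_mem' := fun {a} ha => by
            have ha' : y i j • a = a := ha
            change y i j • (-a) = -a
            rw [smul_neg, ha'] } := by
      rw [← I.top]
      refine iSup_le ?_
      intro k w hw'
      by_cases hk : k = i
      · subst hk
        exact hi w hw'
      · by_cases hk' : k = j
        · subst hk'
          exact hcon w hw'
        · exact htriv i j k hij hk hk' w hw'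
    intro x
    exact h2 (AddSubgroup.mem_top x)
  -- index set and subgroups
  let ι := {k : B // k ∈ Γ ∧ k ≠ b}
  have hι : ∀ k : ι, b ≠ (k : B) := fun k => k.2.2.symm
  let S : ι → Subgroup H := fun k => Subgroup.zpowers (y b k)
  have hfaith : ∀ i : ι, ∀ s ∈ S i, (∀ w ∈ W i, s • w = w) → s = 1 := by
    intro i s hs hw
    by_contra hne
    apply hnt b i (hι i)
    -- `s` generates
    have h1 : Subgroup.zpowers s = Subgroup.zpowers (y b i) := by
      have h2 : Subgroup.zpowers s ≤ Subgroup.zpowers (y b i) := by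
        rw [Subgroup.zpowers_le]
        exact hs
      apply Subgroup.eq_of_le_of_card_ge h2
      have h3 : orderOf s ∣ r := by
        rw [← hord b i (hι i)]
        rw [← Nat.card_zpowers, ← Nat.card_zpowers]
        exact Subgroup.card_dvd_of_le h2
      rw [Nat.card_zpowers, Nat.card_zpowers, hord b i (hι i)]
      rcases (Nat.dvd_prime hr).1 h3 with h4 | h4
      · exact absurd (orderOf_eq_one_iff.1 h4) hne
      · exact h4.ge
    have h2 : y b i ∈ Subgroup.zpowers s := by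
      rw [h1]
      exact Subgroup.mem_zpowers _
    obtain ⟨m, hm⟩ := Subgroup.mem_zpowers_iff.1 h2
    intro w hw'
    have h3 : Subgroup.zpowers s ≤ MulAction.stabilizer H w := by
      rw [Subgroup.zpowers_le]
      exact hw w hw'
    exact h3 h2
  have hSQ : ∀ i : ι, S i ≤ Q := by
    intro i
    rw [Subgroup.zpowers_le]
    exact hyQ b i (hι i)
  have hSW : ∀ i : ι, ∀ s ∈ S i, ∀ j, ∀ w ∈ W j, s • w ∈ W j := by
    intro i s hs j w hw
    have h1 := mul_mem_W I s j hw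
    rwa [(I.memQ s).1 (hSQ i hs) j] at h1
  have hStriv : ∀ i : ι, ∀ j : B, j ≠ b → j ≠ i → ∀ s ∈ S i, ∀ w ∈ W j, s • w = w := by
    intro i j hj1 hj2 s hs w hw
    have h3 : S i ≤ MulAction.stabilizer H w := by
      rw [Subgroup.zpowers_le]
      exact htriv b i j (hι i) hj1 hj2 w hw
    exact h3 hs
  have hScomm : ∀ i j : ι, ∀ a ∈ S i, ∀ c ∈ S j, a * c = c * a := by
    intro i j a ha c hc
    obtain ⟨m, rfl⟩ := Subgroup.mem_zpowers_iff.1 ha
    obtain ⟨l, rfl⟩ := Subgroup.mem_zpowers_iff.1 hc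
    have h1 : Commute (y b i) (y b j) := hab b i b j (hι i) (hι j)
    exact (h1.zpow_zpow m l).eq
  -- the root of unity
  haveI : NeZero r := ⟨hr.ne_zero⟩
  obtain ⟨ζ, hζ⟩ : ∃ ζ : ℂˣ, orderOf ζ = r := by
    have h1 : IsPrimitiveRoot (Complex.exp (2 * Real.pi * Complex.I / r)) r :=
      Complex.isPrimitiveRoot_exp r hr.ne_zero
    obtain ⟨z, hz⟩ := h1.isUnit hr.ne_zero
    refine ⟨z, ?_⟩
    have h2 : IsPrimitiveRoot z r := by
      rw [← hz] at h1
      exact (IsPrimitiveRoot.coe_units_iff).1 h1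
    exact h2.eq_orderOf.symm
  have hζ1 : ζ ≠ 1 := by
    intro h
    rw [h, orderOf_one] at hζ
    exact hr.one_lt.ne hζ
  have hc : ∀ i : ι, ∃ c : S i →* ℂˣ, c ⟨y b i, Subgroup.mem_zpowers _⟩ = ζ := by
    intro i
    let g : S i := ⟨y b i, Subgroup.mem_zpowers _⟩
    have hg : ∀ x, x ∈ Subgroup.zpowers g := by
      rintro ⟨x, hx⟩
      obtain ⟨m, rfl⟩ := Subgroup.mem_zpowers_iff.1 hx
      exact Subgroup.mem_zpowers_iff.2 ⟨m, Subtype.ext (by simp [g])⟩
    have hg' : orderOf ζ ∣ orderOf g := by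
      rw [hζ]
      have : orderOf g = r := by
        rw [← hord b i (hι i)]
        exact (Subgroup.orderOf_coe g).symm
      rw [this]
    exact ⟨monoidHomOfForallMemZpowers hg hg', monoidHomOfForallMemZpowers_apply_gen hg hg'⟩
  choose c hc using hc
  let Y : Subgroup H := N ⊔ ⨆ i : ι, S i
  obtain ⟨ψ, hψN, hψS⟩ : ∃ ψ : Y →* ℂˣ, (∀ n (hn : n ∈ N) (hn' : n ∈ Y), ψ ⟨n, hn'⟩ = φ ⟨n, hn⟩) ∧
      ∀ (i : ι) x (hx : x ∈ S i) (hx' : x ∈ Y), ψ ⟨x, hx'⟩ = c i ⟨x, hx⟩ :=
    exists_char N I.core.cen φ S hScomm (fun i : ι => W i) hker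
    (fun i s hs w hw => hSW i s hs i w hw)
    (fun i j hij s hs w hw => hStriv i j j.2.2 (fun h => hij (Subtype.ext h.symm)) s hs w hw) hfaith c
  have hby : ∀ k (h1 : k ∈ Γ) (h2 : k ≠ b), y b k ∈ Y := fun k h1 h2 =>
    Subgroup.mem_sup_right (Subgroup.mem_iSup_of_mem (⟨k, h1, h2⟩ : ι) (Subgroup.mem_zpowers _))
  have hyb : ∀ k (h1 : k ∈ Γ) (h2 : k ≠ b), y k b ∈ Y := by
    intro k h1 h2
    rw [hyinv b k h2.symm]
    exact Y.inv_mem (hby k h1 h2)
  have hYmem : ∀ i ∈ Γ, ∀ j ∈ Γ, i ≠ j → y i j ∈ Y := by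
    intro i hi j hj hij
    by_cases h1 : i = b
    · subst h1
      exact hby j hj hij.symm
    · by_cases h2 : j = b
      · subst h2
        exact hyb i hi hij
      · rw [← hmul i b j h1 hij (Ne.symm h2)]
        exact Y.mul_mem (hyb i hi h1) (hby j hj h2)
  have hψb : ∀ k (h1 : k ∈ Γ) (h2 : k ≠ b) (h3 : y b k ∈ Y), ψ ⟨y b k, h3⟩ = ζ := by
    intro k h1 h2 h3
    rw [hψS (⟨k, h1, h2⟩ : ι) (y b k) (Subgroup.mem_zpowers _) h3]
    exact hc ⟨k, h1, h2⟩
  have hψ1 : ∀ i ∈ Γ, ∀ j ∈ Γ, i ≠ j → i ≠ b → j ≠ b → ∀ h3 : y i j ∈ Y, ψ ⟨y i j, h3⟩ = 1 := by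
    intro i hi j hj hij h1 h2 h3
    have h4 : (⟨y i j, h3⟩ : Y) = (⟨y b i, hby i hi h1⟩ : Y)⁻¹ * ⟨y b j, hby j hj h2⟩ := by
      apply Subtype.ext
      rw [Subgroup.coe_mul, Subgroup.coe_inv, ← hyinv b i (Ne.symm h1), hmul i b j h1 hij (Ne.symm h2)]
    rw [h4, map_mul, map_inv, hψb i hi h1, hψb j hj h2, inv_mul_cancel]
  refine index_false I Γ b hb hΓ v hv2 Y le_sup_left ?_ ?_ ψ (fun n hn => hψN n hn _) ?_
  · -- `Y` fixes `v`
    have h1 : Y ≤ MulAction.stabilizer H v := by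
      refine sup_le (fun n hn => hker n hn v) (iSup_le ?_)
      intro i
      rw [Subgroup.zpowers_le]
      refine hv1 _ ?_
      intro j hj w hw
      exact htriv b i j (hι i) (fun h => hj (h ▸ hb)) (fun h => hj (h ▸ i.2.1)) w hw
    exact fun y hy => h1 hy
  · -- `Y` is normalized
    intro h hv
    have h1 : Y ≤ Y.comap (MulAut.conj h).toMonoidHom := by
      refine sup_le ?_ (iSup_le ?_)
      · intro n hn
        rw [Subgroup.mem_comap]
        have h2 : h * n * h⁻¹ = n := by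
          rw [Subgroup.mem_center_iff.1 (I.core.cen hn) h, mul_inv_cancel_right]
        change h * n * h⁻¹ ∈ Y
        rw [h2]
        exact Subgroup.mem_sup_left hn
      · intro i
        rw [Subgroup.zpowers_le, Subgroup.mem_comap]
        change h * y b i * h⁻¹ ∈ Y
        rw [hconj h b i (hι i)]
        exact hYmem _ (hv2 h hv b hb) _ (hv2 h hv i i.2.1) (fun h' => hι i (MulAction.injective h h'))
    exact fun y hy => h1 hy
  · intro h hv hΓ' hinv'
    by_contra hne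
    have hb' : h • b ∈ Γ := hΓ' b hb
    -- choose `k ∈ Γ`, `k ≠ b`, `h • k ≠ b`
    obtain ⟨k, hk, hkb, hhk⟩ : ∃ k ∈ Γ, k ≠ b ∧ h • k ≠ b := by
      by_contra hcon
      push Not at hcon
      have h1 : Γ ⊆ {b, h⁻¹ • b} := by
        intro k hk
        by_cases h2 : k = b
        · exact Or.inl h2
        · right
          have := hcon k hk h2
          rw [Set.mem_singleton_iff, eq_inv_smul_iff]
          exact this
      have h2 : Γ.ncard ≤ 2 := (Set.ncard_le_ncard h1 (Set.toFinite _)).trans (by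
        have := Set.ncard_insert_le b ({h⁻¹ • b} : Set B)
        rw [Set.ncard_singleton] at this
        exact this)
      omega
    have hhk' : h • k ∈ Γ := hΓ' k hk
    have hne' : h • b ≠ h • k := fun h' => hkb (MulAction.injective h h').symm
    have h2 : h * y b k * h⁻¹ = y (h • b) (h • k) := hconj h b k (Ne.symm hkb)
    have h3 := hinv' (y b k) (hby k hk hkb) (by rw [h2]; exact hYmem _ hb' _ hhk' hne')
    rw [hψb k hk hkb] at h3
    have h4 : ψ ⟨h * y b k * h⁻¹, by rw [h2]; exact hYmem _ hb' _ hhk' hne'⟩ = 1 := by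
      rw [← hψ1 _ hb' _ hhk' hne' hne hhk (hYmem _ hb' _ hhk' hne')]
      congr 1
      exact Subtype.ext h2
    rw [h4] at h3
    exact hζ1 h3.symm

end imp

end Cfsg.Agent.H32.NY.A912
end
end
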