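import Cfsg.Agent.H300.Ru.Theta
import Cfsg.Agent.H289.Eight.RuDeg
import Cfsg.Agent.H535.RIM.Ov2
import Cfsg.Agent.H95.StemCover
import Cfsg.Agent.H588.RIM.Val_m3
import Cfsg.Agent.J3Type.CharTools
import Cfsg.Agent.SporadicA.M11CharBasic
import Cfsg.Agent.H620.RIM.Nb
import Cfsg.Agent.SmallSimple.PrimeOrderData
import Cfsg.Agent.H60.MultA
import Cfsg.Agent.H302.RIM.Five_mg_m3
import Cfsg.Agent.H665.RIM.Defs
import Cfsg.Agent.H477.HC.RowSp
import Cfsg.Agent.H62.SpMult
import Cfsg.Agent.H37.NX.TripNum_m3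
import Cfsg.Agent.S2112
import Cfsg.Agent.S2238
import Cfsg.Agent.S0330
import Cfsg.Agent.S0324
import Cfsg.Agent.OddCyclic.ClaimC.SzIso
import Cfsg.Agent.H347.HX.G23.Main
import Cfsg.Agent.S2101
import Cfsg.Agent.H86.TI.ThreeMcL
import Cfsg.Agent.H68.Bounds
import Cfsg.Agent.H235.Ore.McL
import Cfsg.Agent.S2047
import Cfsg.Agent.H600.RIM.Row
import Cfsg.Agent.H113.PSU.Main
import Cfsg.Agent.S2089
import Cfsg.Agent.ClassicalGeometry.GUBasic
import Mathlib
import Cfsg.Agent.H990.TC.Univ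
import Cfsg.Agent.S0277
import Cfsg.Agent.H643.RIM.Wrap_mg_m3
import Cfsg.Agent.H64.CrossChev
import Cfsg.Agent.H59.CrossTw
import Cfsg.Agent.OddHalf.NI.OmegaPlus
import Cfsg.Agent.Nodes.RGDOrth
import Cfsg.Agent.Nodes.WittInst
import Cfsg.Agent.H948.Ppd.NdMinus
import Cfsg.Agent.KFacts.RgdFiltClass
import Cfsg.Agent.H191.K547.Prod
import Cfsg.Agent.S2091
import Cfsg.Agent.Characters.Linear
import Cfsg.Agent.H487.SchurMult
import Cfsg.Agent.KFacts.Mult.UnitLit
import Cfsg.Agent.KFacts.MulLift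
import Cfsg.Agent.LieClassical.HermPerfect
import Cfsg.Agent.H175.BdSp_m3
import Cfsg.Agent.H45.GG.Series_m3
import Cfsg.Agent.H965.XZ.IdxD
import Cfsg.Agent.H63.Odd
import Cfsg.Agent.S0292
import Cfsg.Agent.H759.RIM.SuzY_m3
import Cfsg.Agent.FastGrp
import Cfsg.Agent.Prune
set_option linter.all false

section
prune_inst 0x7fb0a8f889a801dfe7ff7e3fa698cffc10c08fffe6dff9437fe061bf8b9f030009c56b8509e010fc0e56e01410b87803fb7eeabfe06bdc7ffffd1ff41ffbee0fe5f7350011d48c340f3c2ff783f0778a6f3fffffffffffffffffffffffffffbeffbffbfeffff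

-- part: H300/RIM/RuChi
section
set_option linter.all false
open scoped Cfsg.Agent.FastGrp

/-!
# The values of `|χ28|²` on the fourfold cover of the Rudvalis group (helper300, S4816)

`chi_sq` : `χ28 g * conj (χ28 g) = 1 + χ783 (q g)`.
-/

set_option autoImplicit false
set_option maxRecDepth 100000
set_option exponentiation.threshold 5000

namespace Cfsg.Agent.H300.RIM

open Cfsg Cfsg.Spor Cfsg.Agent.SporadicB Cfsg.Agent.SporadicB.RuOrder Cfsg.Agent.H300 Cfsg.Agent.H300.Ru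
open Cfsg.Agent.H289.Eight.RuRep Cfsg.Agent.H289.Eight.RuDeg Cfsg.Agent.H289.Eight.SqIrr
open Cfsg.Agent.Characters.Core
open scoped ComplexConjugate

theorem valOk : ∀ i : Fin 28, (fx i 1 : ℤ) = 1 + va.getD i 0 + vb.getD i 0 := by decide +kernel

theorem fix_sum (g : H) : (Nat.card (MulAction.fixedBy (Fin 4060) g) : ℂ) =
    1 + Cls.tv fam va g + Cls.tv fam vb g := by
  have h1 : Nat.card (MulAction.fixedBy (Fin 4060) g) = fixC g := by
    rw [fixC, Nat.card_eq_fintype_card, Fintype.card_subtype]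
    rfl
  rw [h1, fixC_fam]
  have h2 := valOk ⟨fam g, fam_lt g⟩
  simp only [Cls.tv]
  have h3 : ((fx (fam g) 1 : ℕ) : ℂ) = (((fx (fam g) 1 : ℕ) : ℤ) : ℂ) := by push_cast; rfl
  rw [h3]
  change (((fx (fam g) 1 : ℕ) : ℤ) : ℂ) = _
  have h4 : ((fx (fam g) 1 : ℕ) : ℤ) = 1 + va.getD (fam g) 0 + vb.getD (fam g) 0 := h2
  rw [h4]
  push_cast
  rfl

theorem va_zero : va.getD (fam (1 : H)) 0 = 783 ∧ vb.getD (fam (1 : H)) 0 = 3276 := by
  have h : IsConj (R 0) 1 := by
    have h1 : R 0 = 1 := by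
      rw [R]
      exact one_pow _
    rw [h1]
  rw [fam_eq h]
  decide +kernel

/-- **the character of `End V`** -/
theorem end_val : (Representation.linHom rho rho).character = 1 + (Cls.tv fam va) ∘ q := by
  classical
  have := Fintype.ofFinite fourRu
  refine eq_add (P := Fin 4060) _ T (w := P0) (x := 0) (y := Cfsg.Agent.H690.Spor.Ru.c3) ?_ tr tr_ne
    (isIrr_comp q q_surj irr_a) (isIrr_comp q q_surj irr_b) (n := 783) (b := 3276) ?_ (by norm_num) ?_ ?_
    (by norm_num) ?_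
  · rw [T_P0_three]
    exact T_P0_zero
  · rw [Module.finrank_linearMap, finrank_V]
  · change Cls.tv fam va (q 1) = _
    rw [map_one, Cls.tv, va_zero.1]
    norm_num
  · change Cls.tv fam vb (q 1) = _
    rw [map_one, Cls.tv, va_zero.2]
    norm_num
  · intro g
    rw [fixed_eq]
    exact fix_sum (q g)

theorem chi_sq (g : fourRu) : chi g * conj (chi g) = ((1 + va.getD (fam (q g)) 0 : ℤ) : ℂ) := by
  have h := congrFun end_val g
  rw [Representation.char_linHom, Cfsg.Agent.PermutationGroups.PermChar.char_inv_eq_conj, mul_comm] at h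
  rw [chi, h]
  change 1 + Cls.tv fam va (q g) = _
  rw [Cls.tv]
  push_cast
  rfl

theorem chi_ne {g : fourRu} (h : 1 + va.getD (fam (q g)) 0 ≠ 0) : chi g ≠ 0 := by
  intro h0
  have h1 := chi_sq g
  rw [h0, zero_mul] at h1
  exact h (by exact_mod_cast h1.symm)

end Cfsg.Agent.H300.RIM
end

-- part: H300/RIM/RuFuse
section
prune_inst 0x4010000
set_option linter.all false
open scoped Cfsg.Agent.FastGrp

/-!
# Classes of the Rudvalis group whose lifts to the double cover are conjugate to their negatives (helper300, S4816)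

* `comm_test` : if `f`, `g` in `fourRu` commute then a product of four Hermitian products of minimal vectors is real;
* `Fused h` : some element commutes with `h` but its lifts do not commute with the lifts of `h`;
* `fused_R` : the eleven classes.
-/

set_option autoImplicit false
set_option maxRecDepth 100000
set_option exponentiation.threshold 5000

namespace Cfsg.Agent.H300.RIM

open Cfsg Cfsg.Spor Cfsg.Agent.SporadicB Cfsg.Agent.SporadicB.RuOrder Cfsg.Agent.H300 Cfsg.Agent.H300.Ru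
open Cfsg.Agent.H289.Eight.RuRep Cfsg.Agent.H289.Eight.RuDeg Cfsg.Agent.RuLat Cfsg.Agent.SporadicB.RuData
open Cfsg.Agent.SporRec.TCUpperCert Cfsg.Agent.RuD.Letters

/-! ### the test -/

theorem im_of (f : fourRu) (i : Fin 4060) : ∃ e : ℕ, ((f.1 (lv i) : ruLattice) : RuVec) =
    gI ^ e • vec (((q f : H) : Equiv.Perm (Fin 4060)) i) := by
  obtain ⟨e, -, h⟩ := RuLat.Main.hyp.im_spec f i
  exact ⟨e, h⟩

theorem herm_rot (a b : ℕ) (x y : RuVec) : herm (gI ^ a • x) (gI ^ b • y) = gI ^ a * star (gI ^ b) * herm x y := by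
  rw [herm_smul_left, herm_smul_right, mul_assoc]

theorem apply_rot (f : fourRu) (b : ℕ) (i j : Fin 4060) (v : ruLattice) (hv : ((v : ruLattice) : RuVec) = gI ^ b • vec i)
    {a : ℕ} (ha : ((f.1 (lv i) : ruLattice) : RuVec) = gI ^ a • vec j) :
    ((f.1 v : ruLattice) : RuVec) = (gI ^ b * gI ^ a) • vec j := by
  have h := four_smul f.2 (gI ^ b) (vec i) (RuLat.Main.hyp.mem i)
  have e : v = ⟨gI ^ b • vec i, smul_mem _ (RuLat.Main.hyp.mem i)⟩ := Subtype.ext hv
  rw [e, h]
  change gI ^ b • ((f.1 (lv i) : ruLattice) : RuVec) = _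
  rw [ha, smul_smul]

theorem comm_test {f g : fourRu} (hfg : f * g = g * f) (i si ti w : Fin 4060)
    (h1 : ((q f : H) : Equiv.Perm (Fin 4060)) i = si) (h2 : ((q g : H) : Equiv.Perm (Fin 4060)) i = ti)
    (h3 : ((q f : H) : Equiv.Perm (Fin 4060)) ti = w) :
    herm (vec i) (vec si) * herm (vec ti) (vec i) = herm (vec ti) (vec w) * herm (vec w) (vec si) := by
  have h4 : ((q g : H) : Equiv.Perm (Fin 4060)) si = w := by
    rw [← h3, ← h2, ← h1]
    have h5 : q f * q g = q g * q f := by rw [← map_mul, ← map_mul, hfg]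
    exact (congrArg (fun z : H => (z : Equiv.Perm (Fin 4060)) i) h5).symm
  obtain ⟨a, ha⟩ := im_of f i
  obtain ⟨a', ha'⟩ := im_of f ti
  obtain ⟨b, hb⟩ := im_of g i
  obtain ⟨b', hb'⟩ := im_of g si
  rw [h1] at ha
  rw [h2] at hb
  rw [h3] at ha'
  rw [h4] at hb'
  -- the two products
  have e1 : ((f.1 (g.1 (lv i)) : ruLattice) : RuVec) = (gI ^ b * gI ^ a') • vec w := apply_rot f b ti w _ hb ha'
  have e2 : ((g.1 (f.1 (lv i)) : ruLattice) : RuVec) = (gI ^ a * gI ^ b') • vec w := apply_rot g a si w _ ha hb'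
  have e3 : f.1 (g.1 (lv i)) = g.1 (f.1 (lv i)) := by
    have := congrArg (fun z : fourRu => z.1 (lv i)) hfg
    exact this
  have e4 : gI ^ b * gI ^ a' = gI ^ a * gI ^ b' := by
    have h5 : (gI ^ b * gI ^ a' - gI ^ a * gI ^ b') * herm (vec w) (vec w) = 0 := by
      rw [sub_mul, ← herm_smul_left, ← herm_smul_left, ← e1, ← e2, e3, sub_self]
    rcases mul_eq_zero.1 h5 with h6 | h6
    · exact sub_eq_zero.1 h6
    · exact absurd h6 (RuLat.Main.hyp.herm_self_ne w)
  have hA : herm (vec i) (vec si) = gI ^ b * star (gI ^ b') * herm (vec ti) (vec w) := by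
    rw [← herm_rot, ← hb, ← hb', four_herm g.2]
    rfl
  have hC : herm (vec ti) (vec i) = gI ^ a' * star (gI ^ a) * herm (vec w) (vec si) := by
    rw [← herm_rot, ← ha, ← ha', four_herm f.2]
    rfl
  rw [hA, hC]
  have k1 : gI ^ a * star (gI ^ a) = 1 := by rw [star_pow]; exact gI_pow_mul_star a
  have k2 : gI ^ b' * star (gI ^ b') = 1 := by rw [star_pow]; exact gI_pow_mul_star b'
  calc gI ^ b * star (gI ^ b') * herm (vec ti) (vec w) * (gI ^ a' * star (gI ^ a) * herm (vec w) (vec si))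
      = (gI ^ b * gI ^ a') * (star (gI ^ b') * star (gI ^ a)) * (herm (vec ti) (vec w) * herm (vec w) (vec si)) := by
        ring
    _ = (gI ^ a * star (gI ^ a)) * (gI ^ b' * star (gI ^ b')) * (herm (vec ti) (vec w) * herm (vec w) (vec si)) := by
        rw [e4]; ring
    _ = _ := by rw [k1, k2, one_mul, one_mul]

/-! ### the check -/

noncomputable def rotEq (e a b c d : ℕ) : Bool :=
  hermEq (packL 0 a planes) (scaleN a) (packL 0 b planes) (scaleN b) (packL e c planes) (scaleN c) (packL 0 d planes)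
    (scaleN d)

theorem rotEq_sound {e a b c d : ℕ} (h : rotEq e a b c d = true) :
    herm (vec a) (vec b) = gI ^ e * herm (vec c) (vec d) := by
  have h1 := hermEq_sound h
  rw [decv_packL, decv_packL, decv_packL, decv_packL, pow_zero, one_smul, one_smul, one_smul, herm_smul_left] at h1
  exact h1

/-- `w2 ⁻¹ x w2` and `w1 ⁻¹ x w1` map `b` to `c` -/
noncomputable def chkB4 (x w1 w2 : List ℕ) (b c : ℕ) : Bool :=
  Nat.beq (evT w2 c) (evT x (evT w2 b)) && Nat.beq (evT w1 c) (evT x (evT w1 b)) && Nat.blt c 4060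

noncomputable def chkS (x w1 w2 : List ℕ) (j e1 e2 : ℕ) : Bool :=
  rotEq e1 (evT w2 j) (evT x (evT w2 j)) (evT w1 j) (evT x (evT w1 j)) &&
  rotEq e2 (evT w1 j) (evT w2 j) (evT x (evT w1 j)) (evT x (evT w2 j)) &&
  !(Nat.testBit (row (evT w2 j)) (evT x (evT w2 j))) && !(Nat.testBit (row (evT w1 j)) (evT w2 j)) &&
  Nat.blt j 4060 && Nat.beq (Nat.mod (Nat.add e1 e2) 4) 2

noncomputable def chkF (x w1 w2 : List ℕ) (j e1 e2 c1 c2 c3 c4 : ℕ) : Bool :=
  chkS x w1 w2 j e1 e2 && chkB4 x w1 w2 0 c1 && chkB4 x w1 w2 29 c2 && chkB4 x w1 w2 580 c3 &&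
    chkB4 x w1 w2 577 c4 && okW x && okW w1 && okW w2

/-- `h` commutes with an element whose lifts do not commute with the lifts of `h` -/
def Fused (h : H) : Prop := ∃ t : H, t * h = h * t ∧ ∀ f g : fourRu, q f = h → q g = t → f * g ≠ g * f

theorem chkB4_sound {x w1 w2 : List ℕ} {b c : ℕ} (hx : okW x = true) (h1 : okW w1 = true) (h2 : okW w2 = true)
    (h : chkB4 x w1 w2 b c = true) (hb : b < 4060) :
    ((((wprod ml w2 : H)⁻¹ * wprod ml x * wprod ml w2 : H)) : Equiv.Perm (Fin 4060)) ⟨b, hb⟩ =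
      ((((wprod ml w1 : H)⁻¹ * wprod ml x * wprod ml w1 : H)) : Equiv.Perm (Fin 4060)) ⟨b, hb⟩ := by
  rw [chkB4, Bool.and_eq_true, Bool.and_eq_true] at h
  obtain ⟨⟨e1, e2⟩, e3⟩ := h
  have hc : c < 4060 := by rwa [Nat.blt_eq] at e3
  have key : ∀ w : List ℕ, okW w = true → Nat.beq (evT w c) (evT x (evT w b)) = true →
      ((((wprod ml w : H)⁻¹ * wprod ml x * wprod ml w : H)) : Equiv.Perm (Fin 4060)) ⟨b, hb⟩ = ⟨c, hc⟩ := by
    intro w hw he
    change ((wprod ml w : H) : Equiv.Perm (Fin 4060))⁻¹ (((wprod ml x : H) : Equiv.Perm (Fin 4060))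
      (((wprod ml w : H) : Equiv.Perm (Fin 4060)) ⟨b, hb⟩)) = ⟨c, hc⟩
    rw [Equiv.Perm.inv_eq_iff_eq]
    apply Fin.ext
    rw [evT_eq hw]
    have h3 := evT_eq hx (((wprod ml w : H) : Equiv.Perm (Fin 4060)) ⟨b, hb⟩)
    rw [evT_eq hw] at h3
    rw [h3]
    exact (Nat.eq_of_beq_eq_true he).symm
  rw [key w2 h2 e1, key w1 h1 e2]

theorem fused_of {x w1 w2 : List ℕ} {j e1 e2 c1 c2 c3 c4 : ℕ} (h : chkF x w1 w2 j e1 e2 c1 c2 c3 c4 = true) :
    Fused (wprod ml x) := by
  rw [chkF, Bool.and_eq_true, Bool.and_eq_true, Bool.and_eq_true, Bool.and_eq_true, Bool.and_eq_true,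
    Bool.and_eq_true, Bool.and_eq_true] at h
  obtain ⟨⟨⟨⟨⟨⟨⟨hS, hb1⟩, hb2⟩, hb3⟩, hb4⟩, hx⟩, hw1⟩, hw2⟩ := h
  rw [chkS, Bool.and_eq_true, Bool.and_eq_true, Bool.and_eq_true, Bool.and_eq_true, Bool.and_eq_true] at hS
  obtain ⟨⟨⟨⟨⟨r1, r2⟩, n1⟩, n2⟩, hj⟩, he⟩ := hS
  have hj' : j < 4060 := by rwa [Nat.blt_eq] at hj
  set X := (wprod ml x : H) with hX
  set W1 := (wprod ml w1 : H) with hW1
  set W2 := (wprod ml w2 : H) with hW2
  have hconj : W2⁻¹ * X * W2 = W1⁻¹ * X * W1 := by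
    apply Subtype.ext
    exact eq_of_base (W2⁻¹ * X * W2 : H).2 (W1⁻¹ * X * W1 : H).2
      (chkB4_sound hx hw1 hw2 hb1 _) (chkB4_sound hx hw1 hw2 hb2 _) (chkB4_sound hx hw1 hw2 hb3 _)
      (chkB4_sound hx hw1 hw2 hb4 _)
  have hcomm : (W1 * W2⁻¹) * X = X * (W1 * W2⁻¹) := by
    calc (W1 * W2⁻¹) * X = W1 * (W2⁻¹ * X * W2) * W2⁻¹ := by group
      _ = W1 * (W1⁻¹ * X * W1) * W2⁻¹ := by rw [hconj]
      _ = _ := by group
  refine ⟨W1 * W2⁻¹, hcomm, fun f g hf hg hfg => ?_⟩
  -- the points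
  set J : Fin 4060 := ⟨j, hj'⟩ with hJ
  set i : Fin 4060 := (W2 : Equiv.Perm (Fin 4060)) J with hi
  set ti : Fin 4060 := (W1 : Equiv.Perm (Fin 4060)) J with hti
  set si : Fin 4060 := (X : Equiv.Perm (Fin 4060)) i with hsi
  set w : Fin 4060 := (X : Equiv.Perm (Fin 4060)) ti with hw
  have vi : (i : ℕ) = evT w2 j := evT_eq hw2 J
  have vti : (ti : ℕ) = evT w1 j := evT_eq hw1 J
  have vsi : (si : ℕ) = evT x (evT w2 j) := by rw [hsi, evT_eq hx, vi]
  have vw : (w : ℕ) = evT x (evT w1 j) := by rw [hw, evT_eq hx, vti]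
  have t1 : ((q g : H) : Equiv.Perm (Fin 4060)) i = ti := by
    rw [hg]
    change (W1 : Equiv.Perm (Fin 4060)) (((W2 : Equiv.Perm (Fin 4060)))⁻¹ ((W2 : Equiv.Perm (Fin 4060)) J)) = ti
    rw [Equiv.Perm.inv_def, Equiv.symm_apply_apply]
  have h1 := comm_test hfg i si ti w (by rw [hf]) t1 (by rw [hf])
  have h2 : herm (vec i) (vec si) = gI ^ e1 * herm (vec ti) (vec w) := by
    rw [vi, vsi, vti, vw]
    exact rotEq_sound r1
  have h3 : herm (vec ti) (vec i) = gI ^ e2 * herm (vec w) (vec si) := by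
    rw [vi, vsi, vti, vw]
    exact rotEq_sound r2
  have g4 : gI ^ 4 = 1 := gI_pow_four
  have h4 : gI ^ e1 * gI ^ e2 = -1 := by
    rw [← pow_add]
    have h5 : (e1 + e2) % 4 = 2 := Nat.eq_of_beq_eq_true he
    rw [← Nat.div_add_mod (e1 + e2) 4, h5, pow_add, pow_mul, g4, one_pow, one_mul, pow_two, gI_mul_self]
  have z1 : herm (vec i) (vec si) ≠ 0 := by
    rw [Ne, RuLat.Main.hyp.orth, vi, vsi]
    simpa using n1
  have z2 : herm (vec ti) (vec i) ≠ 0 := by
    rw [Ne, RuLat.Main.hyp.orth, vi, vti]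
    simpa using n2
  have h5 : herm (vec i) (vec si) * herm (vec ti) (vec i) =
      -(herm (vec ti) (vec w) * herm (vec w) (vec si)) := by
    rw [h2, h3]
    calc gI ^ e1 * herm (vec ti) (vec w) * (gI ^ e2 * herm (vec w) (vec si)) =
        (gI ^ e1 * gI ^ e2) * (herm (vec ti) (vec w) * herm (vec w) (vec si)) := by ring
      _ = _ := by rw [h4]; ring
  have h6 : herm (vec i) (vec si) * herm (vec ti) (vec i) = 0 := by
    rw [← h1] at h5
    have h7 : (2 : GaussianInt) * (herm (vec i) (vec si) * herm (vec ti) (vec i)) = 0 := by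
      linear_combination h5
    rcases mul_eq_zero.1 h7 with h8 | h8
    · exact absurd h8 (by decide)
    · exact h8
  rcases mul_eq_zero.1 h6 with h8 | h8
  · exact z1 h8
  · exact z2 h8

theorem ck1 : chkF [0] [4, 0] [4] 2 3 3 3592 2737 3830 3726 = true := by decide +kernel
theorem ck4 : chkF [7, 8, 5, 0, 3, 6] [1, 7, 4, 5, 0, 3] [0, 7, 4, 5, 3, 1] 7 3 3 3427 3225 3456 2785 = true := by decide +kernel
theorem ck5 : chkF [1, 0] [4, 0] [4] 12 0 2 1056 1037 1543 3808 = true := by decide +kernel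
theorem ck12 : chkF [5, 3] [8, 0, 5, 3, 4, 2, 0] [1, 7, 5, 7, 6, 4] 2 1 1 1567 2285 648 2361 = true := by decide +kernel
theorem ck15 : chkF [3, 6, 0, 2] [4, 0] [4] 2 2 0 1385 1257 1773 1293 = true := by decide +kernel
theorem ck20 : chkF [0, 3] [4, 0] [4] 2 0 2 2582 1121 1622 2466 = true := by decide +kernel
theorem ck26 : chkF [3, 5, 0] [5, 3, 6, 7, 5, 0, 4] [5, 7, 2, 6, 7, 5, 0] 2 1 1 2984 2133 3959 3059 = true := by decide +kernel

theorem Fused.of_pow {h h' : H} {m k : ℕ} (hf : Fused h) (h1 : h = h' ^ m) (h2 : h' = h ^ k) : Fused h' := by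
  obtain ⟨t, ht, hn⟩ := hf
  refine ⟨t, ?_, fun f g hf hg hfg => ?_⟩
  · rw [h2]
    exact (Commute.pow_right (show Commute t h from ht) k).eq
  · refine hn (f ^ m) g ?_ hg ?_
    · rw [map_pow, hf, h1]
    · exact (Commute.pow_left (show Commute f g from hfg) m).eq

theorem Fused.conj {h h' : H} (hf : Fused h) (hc : IsConj h h') : Fused h' := by
  obtain ⟨c, rfl⟩ := isConj_iff.1 hc
  obtain ⟨t, ht, hn⟩ := hf
  obtain ⟨C, hC⟩ := q_surj c
  refine ⟨c * t * c⁻¹, ?_, fun f g hf hg hfg => ?_⟩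
  · calc c * t * c⁻¹ * (c * h * c⁻¹) = c * (t * h) * c⁻¹ := by group
      _ = c * (h * t) * c⁻¹ := by rw [ht]
      _ = _ := by group
  · refine hn (C⁻¹ * f * C) (C⁻¹ * g * C) ?_ ?_ ?_
    · rw [map_mul, map_mul, map_inv, hf, hC]; group
    · rw [map_mul, map_mul, map_inv, hg, hC]; group
    · calc C⁻¹ * f * C * (C⁻¹ * g * C) = C⁻¹ * (f * g) * C := by group
        _ = C⁻¹ * (g * f) * C := by rw [hfg]
        _ = _ := by group

/-- the bad families -/
def bad (i : ℕ) : Bool := [1, 4, 5, 12, 15, 20, 26].contains i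

theorem fused_X {i : ℕ} (h : bad i = true) : Fused (X i) := by
  have h1 : i = 1 ∨ i = 4 ∨ i = 5 ∨ i = 12 ∨ i = 15 ∨ i = 20 ∨ i = 26 := by
    simpa [bad] using h
  rcases h1 with rfl | rfl | rfl | rfl | rfl | rfl | rfl
  · exact fused_of ck1
  · exact fused_of ck4
  · exact fused_of ck5
  · exact fused_of ck12
  · exact fused_of ck15
  · exact fused_of ck20
  · exact fused_of ck26

theorem invOk : ∀ j : Fin 36, ∃ m : Fin 30, ((rp j).k * m) % (fm (rp j).i).n = 1 % (fm (rp j).i).n := by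
  decide +kernel

theorem fused_R (j : Fin 36) (h : bad (rp j).i = true) : Fused (Ru.R j) := by
  obtain ⟨m, hm⟩ := invOk j
  refine (fused_X h).of_pow (m := m) (k := (rp j).k) ?_ rfl
  have h1 : X (rp j).i ^ (fm (rp j).i).n = 1 := by
    rw [← order_X (rp_lt j)]
    exact pow_orderOf_eq_one _
  rw [Ru.R, ← pow_mul, pow_eq_pow_mod _ h1, hm, ← pow_eq_pow_mod _ h1, pow_one]

/-- **the eleven classes** -/
theorem fused_fam (h : H) (hb : bad (fam h) = true) : Fused h := by
  obtain ⟨j, hj⟩ := cover h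
  rw [fam_eq hj] at hb
  exact (fused_R j hb).conj hj

end Cfsg.Agent.H300.RIM

private theorem dce_284fe0221179 : _root_.True := by
  try have : _root_.True := by simp only [_root_.Cfsg.Agent.H300.RIM.chkF.eq_1]
  try have : _root_.True := by simp only [_root_.Cfsg.Agent.H300.RIM.chkS.eq_1]
  try have : _root_.True := by simp only [_root_.Cfsg.Agent.H300.RIM.bad.eq_1]
  try have : _root_.True := by simp only [_root_.Cfsg.Agent.H300.RIM.chkB4.eq_1]
  exact _root_.True.intro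
end

-- part: H300/RIM/RuCov
section
set_option linter.all false
open scoped Cfsg.Agent.FastGrp

/-!
# The double cover of the Rudvalis group: the number of faithful characters is 25 (helper300, S4816)
-/

set_option autoImplicit false
set_option maxRecDepth 100000
set_option exponentiation.threshold 5000

namespace Cfsg.Agent.H300.RIM

open Cfsg Cfsg.Spor Cfsg.Agent.SporadicB Cfsg.Agent.SporadicB.RuOrder Cfsg.Agent.H300 Cfsg.Agent.H300.Ru
open Cfsg.Agent.H289.Eight.RuRep Cfsg.Agent.H289.Eight.RuDeg Cfsg.Agent.RuLat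
open Cfsg.Agent.H622.Over Cfsg.Agent.H382.RIM
open scoped ComplexConjugate commutatorElement

theorem ker_q : q.ker = Subgroup.center fourRu := by
  rw [RuLat.Main.hyp.ker_eq Prep.span_bl (onto RuLat.Main.hyp Prep.span_bl)]
  ext f
  rw [MonoidHom.mem_ker, MonoidHom.mem_ker, Subtype.ext_iff]
  rfl

theorem mult_H : HasSchurMultiplier H (Multiplicative (ZMod 2)) :=
  H487.HasSchurMultiplier.congr_left S2051.result RuLat.Main.equiv

instance finite_H : Finite H := Nat.finite_of_card_ne_zero (by rw [card_H]; norm_num)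

theorem perfect_H : commutator H = ⊤ := by
  have h := RuSimple.isSimpleGroup_H
  exact H51.Tools.perfect_of_simple h (by rw [card_H]; norm_num)

theorem q_jk : q ⁅H51.RuCover.j, H51.RuCover.k⁆ = 1 := by
  rw [← MonoidHom.mem_ker, ker_q]
  exact H51.RuCover.mem_center_of H51.RuCover.comm_apply

/-- **embedding of the double covers in `fourRu`** -/
theorem exists_phi {E : Type} [Group E] [Finite E] (π : E →* H) (hπ : Function.Surjective π)
    (hc : π.ker ≤ Subgroup.center E) (hp : commutator E = ⊤) (h2 : Nat.card π.ker = 2) :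
    ∃ φ : E →* fourRu, Function.Injective φ ∧ ∀ x, q (φ x) = π x := by
  have hpce := H51.Tools.pce_of_central q_surj (by rw [ker_q]) perfect_H
  obtain ⟨φ, hφ, hφ2⟩ := H95.StemCover.exists_cover perfect_H mult_H π (H95.StemCover.isStem hp hπ hc)
    (by rw [h2, Nat.card_congr (Multiplicative.toAdd (α := ZMod 2)), Nat.card_zmod])
    (q.comp (commutator fourRu).subtype) (H95.StemCover.isStem hpce.perf hpce.surj hpce.cen)
  refine ⟨(commutator fourRu).subtype.comp φ, ?_, hφ2⟩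
  have hinj : Function.Injective φ := by
    rw [injective_iff_map_eq_one]
    intro x hx
    have hx1 : π x = 1 := by rw [← hφ2, hx, map_one]
    obtain ⟨e, he⟩ := hφ ⟨⁅H51.RuCover.j, H51.RuCover.k⁆,
      Subgroup.commutator_mem_commutator (Subgroup.mem_top _) (Subgroup.mem_top _)⟩
    have he1 : π e = 1 := by
      rw [← hφ2, he]
      exact q_jk
    have hne : e ≠ 1 := by
      rintro rfl
      rw [map_one] at he
      have h3 : (1 : fourRu) = ⁅H51.RuCover.j, H51.RuCover.k⁆ := congrArg (Subtype.val) he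
      have h4 := H51.RuCover.orderOf_comm
      rw [← h3, orderOf_one] at h4
      exact absurd h4 (by norm_num)
    by_contra hx2
    have h5 : Nat.card π.ker = 2 := h2
    have h6 : (⟨x, hx1⟩ : π.ker) ≠ 1 := fun h => hx2 (congrArg Subtype.val h)
    have h7 : (⟨e, he1⟩ : π.ker) ≠ 1 := fun h => hne (congrArg Subtype.val h)
    have h8 : (⟨x, hx1⟩ : π.ker) = ⟨e, he1⟩ := by
      rw [Nat.card_eq_two_iff' (1 : π.ker)] at h5
      obtain ⟨y, -, hy⟩ := h5
      rw [hy _ h6, hy _ h7]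
    have h9 : x = e := congrArg Subtype.val h8
    rw [← h9, hx] at he
    have h3 : (1 : fourRu) = ⁅H51.RuCover.j, H51.RuCover.k⁆ := congrArg (Subtype.val) he
    have h4 := H51.RuCover.orderOf_comm
    rw [← h3, orderOf_one] at h4
    exact absurd h4 (by norm_num)
  exact (Subtype.val_injective).comp hinj

/-! ### good and bad classes -/

section
variable {E : Type} [Group E] [Finite E] {π : E →* H} {φ : E →* fourRu} {l : π.ker →* ℂˣ}

theorem chi_scalar (e : ℕ) (g : fourRu) : chi (iz ^ e * g) = Complex.I ^ e * chi g := by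
  induction e with
  | zero => rw [pow_zero, pow_zero, one_mul, one_mul]
  | succ e ih => rw [pow_succ', mul_assoc, chi_iz, ih, pow_succ']; ring

theorem chi_conj (f g : fourRu) : chi (f * g * f⁻¹) = chi g := Representation.char_conj rho g f

theorem iz_pow_four : iz ^ 4 = 1 := Subtype.ext iPerm_pow_four

/-- elements at which `χ28` does not vanish are good -/
theorem good_of_ne (hφ : Function.Injective φ) (hq : ∀ x, q (φ x) = π x) {g : E} (hg : chi (φ g) ≠ 0) :
    Good π.ker l g := by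
  intro x hx
  suffices h : x⁻¹ * g⁻¹ * x * g = 1 by
    have : (⟨x⁻¹ * g⁻¹ * x * g, hx⟩ : π.ker) = 1 := Subtype.ext h
    rw [this, map_one]
  set n := x⁻¹ * g⁻¹ * x * g with hn
  -- `x⁻¹ g⁻¹ x = n g⁻¹`
  have h1 : π n = 1 := hx
  have h2 : φ n ∈ Subgroup.center fourRu := by
    rw [← ker_q, MonoidHom.mem_ker, hq, h1]
  obtain ⟨e, he⟩ := center_eq h2
  have h3 : x⁻¹ * g * x = g * n⁻¹ := by rw [hn]; group
  have hcn : φ g * φ n = φ n * φ g := Subgroup.mem_center_iff.1 h2 (φ g)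
  have h5 : (φ x)⁻¹ * φ g * φ x = φ g * (φ n)⁻¹ := by
    rw [← map_inv, ← map_mul, ← map_mul, h3, map_mul, map_inv]
  have h4 : φ g = iz ^ e * ((φ x)⁻¹ * φ g * φ x) := by
    rw [← he, h5, ← mul_assoc, ← hcn, mul_inv_cancel_right]
  have h6 : chi (φ g) = Complex.I ^ e * chi (φ g) := by
    conv_lhs => rw [h4]
    rw [chi_scalar]
    congr 1
    have := chi_conj (φ x)⁻¹ (φ g)
    rwa [inv_inv] at this
  have h7 : Complex.I ^ e = 1 := by
    have : (Complex.I ^ e - 1) * chi (φ g) = 0 := by rw [sub_mul, ← h6, one_mul, sub_self]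
    rcases mul_eq_zero.1 this with h8 | h8
    · exact sub_eq_zero.1 h8
    · exact absurd h8 hg
  have h8 : 4 ∣ e := by
    rw [Nat.dvd_iff_mod_eq_zero]
    rw [Complex.I_pow_eq_pow_mod] at h7
    have h9 : e % 4 < 4 := Nat.mod_lt _ (by norm_num)
    generalize e % 4 = r at h7 h9
    interval_cases r
    · rfl
    · exfalso
      rw [pow_one] at h7
      have := congrArg Complex.re h7
      simp at this
    · exfalso
      rw [Complex.I_sq] at h7
      norm_num at h7
    · exfalso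
      rw [pow_succ, Complex.I_sq] at h7
      have := congrArg Complex.re h7
      simp at this
  apply hφ
  obtain ⟨m, rfl⟩ := h8
  rw [he, pow_mul, iz_pow_four, one_pow, map_one]

/-- elements of odd order are good -/
theorem good_of_odd (hc : π.ker ≤ Subgroup.center E) (h2 : Nat.card π.ker = 2) {g : E} {k : ℕ} (hg : g ^ k = 1)
    (hk : k.Coprime 2) : Good π.ker l g := by
  intro x hx
  have h3 : IsConj (g * (⟨x⁻¹ * g⁻¹ * x * g, hx⟩ : π.ker)⁻¹) g := by
    rw [isConj_iff]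
    refine ⟨x, ?_⟩
    rw [InvMemClass.coe_inv]
    group
  have h4 := eq_one_of_isConj hc hg (by rwa [h2]) h3
  rw [inv_eq_one] at h4
  rw [h4, map_one]

/-- fused elements are not good -/
theorem not_good (hπ : Function.Surjective π) (hq : ∀ x, q (φ x) = π x) (hl : Function.Injective l) {g : E}
    (hg : Fused (π g)) : ¬ Good π.ker l g := by
  intro h
  obtain ⟨t, ht, hn⟩ := hg
  obtain ⟨x, rfl⟩ := hπ t
  have hx : x⁻¹ * g⁻¹ * x * g ∈ π.ker := by
    rw [MonoidHom.mem_ker, map_mul, map_mul, map_mul, map_inv, map_inv]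
    calc (π x)⁻¹ * (π g)⁻¹ * π x * π g = (π x)⁻¹ * (π g)⁻¹ * (π x * π g) := by group
      _ = (π x)⁻¹ * (π g)⁻¹ * (π g * π x) := by rw [ht]
      _ = 1 := by group
  have h1 := h x hx
  have h2 : (⟨x⁻¹ * g⁻¹ * x * g, hx⟩ : π.ker) = 1 := hl (by rw [h1, map_one])
  have h3 : x⁻¹ * g⁻¹ * x * g = 1 := congrArg Subtype.val h2
  apply hn (φ g) (φ x) (hq g) (hq x)
  rw [← map_mul, ← map_mul]
  congr 1
  have h4 : g * x = g * x * (x⁻¹ * g⁻¹ * x * g) := by rw [h3, mul_one]
  rw [h4]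
  group

theorem good_congr (hc : π.ker ≤ Subgroup.center E) {g g' : E} (h : π g = π g') (hg : Good π.ker l g) :
    Good π.ker l g' := by
  refine good_conj hc ?_ hg
  congr 1
  rw [QuotientGroup.eq, MonoidHom.mem_ker, map_mul, map_inv, h, inv_mul_cancel]

theorem goodFam : ∀ i : Fin 28, bad i = false → 1 + va.getD i 0 ≠ 0 ∨ (i : ℕ) = 11 := by decide +kernel

theorem eleven_pow {h : H} (hf : fam h = 11) : h ^ 7 = 1 := by
  have h1 : orderOf h = (fm (fam h)).n := by
    obtain ⟨j, hj⟩ := cover h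
    rw [← order_conj hj, order_R, fam_eq hj]
  rw [hf] at h1
  have h2 : (fm 11).n = 7 := by decide +kernel
  rw [← h2, ← h1]
  exact pow_orderOf_eq_one h

theorem good_of_fam (hc : π.ker ≤ Subgroup.center E) (h2 : Nat.card π.ker = 2) (hφ : Function.Injective φ)
    (hq : ∀ x, q (φ x) = π x) {g : E} (hb : bad (fam (π g)) = false) : Good π.ker l g := by
  rcases goodFam ⟨fam (π g), fam_lt _⟩ hb with h | h
  · refine good_of_ne hφ hq (chi_ne ?_)
    rw [hq]
    exact h
  · have h7 := eleven_pow h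
    have h14 : g ^ 14 = 1 := by
      have h3 : g ^ 7 ∈ π.ker := by rw [MonoidHom.mem_ker, map_pow, h7]
      have h4 : (⟨g ^ 7, h3⟩ : π.ker) ^ 2 = 1 := by
        rw [← h2]
        exact pow_card_eq_one'
      have h5 := congrArg Subtype.val h4
      have h6 : (g ^ 7) ^ 2 = 1 := h5
      rwa [← pow_mul] at h6
    refine good_congr hc (g := g ^ 8) ?_ (good_of_odd hc h2 (k := 7) ?_ (by norm_num))
    · rw [map_pow, show 8 = 7 + 1 from rfl, pow_succ, h7, one_mul]
    · rw [← pow_mul, show 8 * 7 = 14 * 4 from rfl, pow_mul, h14, one_pow]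

theorem cardS : Fintype.card {j : Fin 36 // bad (rp j).i = false} = 25 := by decide +kernel

/-- **25 faithful characters** -/
theorem card_irr (hπ : Function.Surjective π) (hc : π.ker ≤ Subgroup.center E) (h2 : Nat.card π.ker = 2)
    (hφ : Function.Injective φ) (hq : ∀ x, q (φ x) = π x) (hl : Function.Injective l) :
    Nat.card {χ : IrrCharacter E // Lies π.ker l (χ : E → ℂ)} = 25 := by
  classical
  rw [card_over hc, card_good hc, ← cardS, ← Nat.card_eq_fintype_card]
  symm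
  let s : H → E := Function.surjInv hπ
  have hs : ∀ h, π (s h) = h := Function.surjInv_eq hπ
  have hlift : ∀ g : E, QuotientGroup.kerLift π (g : E ⧸ π.ker) = π g := fun g => rfl
  have hmk : ∀ g g' : E, π g = π g' → (g : E ⧸ π.ker) = (g' : E ⧸ π.ker) := by
    intro g g' h
    rw [QuotientGroup.eq, MonoidHom.mem_ker, map_mul, map_inv, h, inv_mul_cancel]
  refine Nat.card_eq_of_bijective (fun j : {j : Fin 36 // bad (rp j).i = false} =>
    (⟨ConjClasses.mk (s (Ru.R j) : E ⧸ π.ker), s (Ru.R j), rfl,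
      good_of_fam (l := l) hc h2 hφ hq (by rw [hs, fam_R]; exact j.2)⟩ :
      {C : ConjClasses (E ⧸ π.ker) // ∃ g : E, ConjClasses.mk (g : E ⧸ π.ker) = C ∧ Good π.ker l g})) ⟨?_, ?_⟩
  · intro i j hij
    have h1 : ConjClasses.mk (s (Ru.R i) : E ⧸ π.ker) = ConjClasses.mk (s (Ru.R j) : E ⧸ π.ker) :=
      congrArg Subtype.val hij
    rw [ConjClasses.mk_eq_mk_iff_isConj] at h1
    have h3 := (QuotientGroup.kerLift π).map_isConj h1
    rw [hlift, hlift, hs, hs] at h3
    exact Subtype.ext (nonconj _ _ h3)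
  · rintro ⟨C, g, rfl, hg⟩
    obtain ⟨j, hj⟩ := cover (π g)
    have hb : bad (rp j).i = false := by
      rw [← Bool.not_eq_true]
      intro h
      exact not_good (φ := φ) hπ hq hl ((fused_R j h).conj hj) hg
    refine ⟨⟨j, hb⟩, Subtype.ext ?_⟩
    change ConjClasses.mk (s (Ru.R j) : E ⧸ π.ker) = ConjClasses.mk (g : E ⧸ π.ker)
    rw [ConjClasses.mk_eq_mk_iff_isConj]
    obtain ⟨c, hcj⟩ := isConj_iff.1 hj
    rw [isConj_iff]
    refine ⟨((s c : E) : E ⧸ π.ker), ?_⟩
    rw [← QuotientGroup.mk_inv, ← QuotientGroup.mk_mul, ← QuotientGroup.mk_mul]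
    apply hmk
    rw [map_mul, map_mul, map_inv, hs, hs, hcj]

end

end Cfsg.Agent.H300.RIM
end

-- part: H300/RIM/Ru
section
prune_inst 0x4f57067605fe201800000058411003a32f40001900020080098a00440010f73220902a9404ca03d02002aaa0020050000004400c0400000000e00000000050120802896001100000c040081803086480c00000000000000000000000000041004000000000
set_option linter.all false
open scoped Cfsg.Agent.FastGrp

/-!
# S4816, the rows (Ru, 3) and (Ru, 5) (helper300)

* `nball_three` : the number 25 of the faithful characters of `2.Ru` is not divisible by 3;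
* `nball_five` : if all degrees are prime to 5, the values `a` at `5B` and `b` at `15A` satisfy `2 ∣ a`, `3 ∣ a - b` and
  `a ≠ 0`, hence `a ^ 2 - 2 * a * b + 28 * b ^ 2 ≥ 36`; the sum of these numbers is `300 + 28 * 15 = 720 < 36 * 25`.
-/

set_option autoImplicit false
set_option maxRecDepth 100000
set_option exponentiation.threshold 5000

namespace Cfsg.Agent.H300.RIM

open Cfsg Cfsg.Spor Cfsg.Agent.SporadicB Cfsg.Agent.SporadicB.RuOrder Cfsg.Agent.H300 Cfsg.Agent.H300.Ru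
open Cfsg.Agent.H289.Eight.RuDeg
open Cfsg.Agent.H622.Over Cfsg.Agent.H382.RIM Cfsg.Agent.H665.RIM Cfsg.Agent.Characters.Core
open scoped ComplexConjugate

section
variable {E : Type} [Group E] [Finite E] {π : E →* H}

theorem exists_odd_lift (hπ : Function.Surjective π) (hc : π.ker ≤ Subgroup.center E) (h2 : Nat.card π.ker = 2)
    {h : H} {n : ℕ} (hn : n % 2 = 1) (hh : h ^ n = 1) : ∃ g : E, π g = h ∧ g ^ n = 1 := by
  obtain ⟨g, rfl⟩ := hπ h
  have h3 : g ^ n ∈ π.ker := by rw [MonoidHom.mem_ker, map_pow, hh]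
  have h4 : (⟨g ^ n, h3⟩ : π.ker) ^ 2 = 1 := by
    rw [← h2]
    exact pow_card_eq_one'
  have h5 : (g ^ n) ^ 2 = 1 := congrArg Subtype.val h4
  refine ⟨g ^ (n + 1), ?_, ?_⟩
  · rw [map_pow, pow_succ, hh, one_mul]
  · obtain ⟨m, hm⟩ : ∃ m, n + 1 = 2 * m := ⟨(n + 1) / 2, by omega⟩
    rw [hm, ← pow_mul, mul_comm, ← mul_assoc, mul_comm n 2, mul_comm 2 n, pow_mul, pow_mul, h5, one_pow]

theorem conj_of_conj (hπ : Function.Surjective π) (hc : π.ker ≤ Subgroup.center E) (h2 : Nat.card π.ker = 2)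
    {g g' : E} {n : ℕ} (hn : n % 2 = 1) (hg : g ^ n = 1) (hg' : g' ^ n = 1) (h : IsConj (π g) (π g')) :
    IsConj g g' := by
  obtain ⟨c, hcc⟩ := isConj_iff.1 h
  obtain ⟨x, rfl⟩ := hπ c
  rw [isConj_iff]
  refine ⟨x, ?_⟩
  have h3 : g'⁻¹ * (x * g * x⁻¹) ∈ π.ker := by
    rw [MonoidHom.mem_ker, map_mul, map_mul, map_mul, map_inv, map_inv, hcc, inv_mul_cancel]
  set z := g'⁻¹ * (x * g * x⁻¹) with hz
  have h4 : x * g * x⁻¹ = g' * z := by rw [hz]; group
  have h5 : (g' * z) ^ n = 1 := by rw [← h4, conj_pow, hg, mul_one, mul_inv_cancel]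
  have h6 : Commute g' z := Subgroup.mem_center_iff.1 (hc h3) g'
  rw [h6.mul_pow, hg', one_mul] at h5
  have h7 : (⟨z, h3⟩ : π.ker) ^ 2 = 1 := by
    rw [← h2]
    exact pow_card_eq_one'
  have h8 : z ^ 2 = 1 := congrArg Subtype.val h7
  have h9 : z = 1 := by
    obtain ⟨m, hm⟩ : ∃ m, n = 2 * m + 1 := ⟨n / 2, by omega⟩
    rwa [hm, pow_succ, pow_mul, h8, one_pow, one_mul] at h5
  rw [h4, h9, mul_one]

theorem card_cent_le (hc : π.ker ≤ Subgroup.center E) (g : E) :
    Nat.card (Subgroup.centralizer ({g} : Set E)) ≤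
      Nat.card π.ker * Nat.card (Subgroup.centralizer ({π g} : Set H)) := by
  have := finite_H
  let f : Subgroup.centralizer ({g} : Set E) →* Subgroup.centralizer ({π g} : Set H) :=
    (π.comp (Subgroup.centralizer ({g} : Set E)).subtype).codRestrict _ (by
      intro x
      rw [Subgroup.mem_centralizer_singleton_iff]
      have h := Subgroup.mem_centralizer_singleton_iff.1 x.2
      change π x * π g = π g * π x
      rw [← map_mul, ← map_mul, h])
  rw [Subgroup.card_eq_card_quotient_mul_card_subgroup f.ker, mul_comm]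
  refine Nat.mul_le_mul ?_ ?_
  · refine Nat.card_le_card_of_injective (fun x : f.ker => (⟨((x : Subgroup.centralizer ({g} : Set E)) : E), ?_⟩ : π.ker)) ?_
    · have h := x.2
      rw [MonoidHom.mem_ker] at h
      exact congrArg Subtype.val h
    · intro x y hxy
      exact Subtype.ext (Subtype.ext (congrArg (fun z : π.ker => (z : E)) hxy))
  · rw [Nat.card_congr (QuotientGroup.quotientKerEquivRange f).toEquiv]
    exact Nat.card_le_card_of_injective _ Subtype.val_injective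

theorem cent_fam {h : H} {j : Fin 36} (hj : IsConj (Ru.R j) h) :
    Nat.card (Subgroup.centralizer ({h} : Set H)) = (fm (rp j).i).c := by
  refine Cls.card_cent (by rw [card_H]; exact dvd_card j) ?_
  rw [← Ru.main.2 j]
  exact Nat.card_congr (Equiv.subtypeEquivRight fun u => ⟨hj.trans, hj.symm.trans⟩)

theorem fxOk3 : ∀ j : Fin 36, fx (rp j).i ((rp j).k * 3) = fx (rp j).i 3 := by decide +kernel

theorem fixC_fam3 (h : H) : fixC (h ^ 3) = fx (fam h) 3 := by
  obtain ⟨j, hj⟩ := cover h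
  rw [fam_eq hj, ← fixC_conj (hj.pow 3), fixC_R, fxOk3]

theorem order_fam (h : H) : orderOf h = (fm (fam h)).n := by
  obtain ⟨j, hj⟩ := cover h
  rw [← order_conj hj, order_R, fam_eq hj]

theorem fam_pow_coprime {h : H} {k : ℕ} (hk : k.Coprime (orderOf h)) : fam (h ^ k) = fam h := by
  refine fam_of_key (fam_lt h) ?_ ?_ ?_
  · rw [Nat.Coprime.orderOf_pow hk.symm, order_fam]
  · rw [pow_one, fixC_pow h k _ (pow_orderOf_eq_one h), hk, pow_one, fixC_fam]
  · rw [← pow_mul, fixC_pow h (k * 3) _ (pow_orderOf_eq_one h), Nat.Coprime.gcd_mul_left_cancel 3 hk,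
      ← fixC_pow h 3 _ (pow_orderOf_eq_one h), fixC_fam3]

theorem uniq8 : ∀ j : Fin 36, (rp j).i = 8 → j = 8 := by decide +kernel
theorem uniq21 : ∀ j : Fin 36, (rp j).i = 21 → j = 23 := by decide +kernel

theorem conj8 {h h' : H} (h1 : fam h = 8) (h2 : fam h' = 8) : IsConj h h' := by
  obtain ⟨j, hj⟩ := cover h
  obtain ⟨j', hj'⟩ := cover h'
  rw [fam_eq hj] at h1
  rw [fam_eq hj'] at h2
  rw [uniq8 j h1] at hj
  rw [uniq8 j' h2] at hj'
  exact hj.symm.trans hj'

theorem conj21 {h h' : H} (h1 : fam h = 21) (h2 : fam h' = 21) : IsConj h h' := by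
  obtain ⟨j, hj⟩ := cover h
  obtain ⟨j', hj'⟩ := cover h'
  rw [fam_eq hj] at h1
  rw [fam_eq hj'] at h2
  rw [uniq21 j h1] at hj
  rw [uniq21 j' h2] at hj'
  exact hj.symm.trans hj'

theorem quad {a b : ℤ} (h2 : (2 : ℤ) ∣ a) (h3 : (3 : ℤ) ∣ b - a) (ha : a ≠ 0) : 36 ≤ a ^ 2 - 2 * a * b + 28 * b ^ 2 := by
  obtain ⟨u, hu⟩ : ∃ u : ℤ, a = 4 * b + 6 * u := by
    obtain ⟨c, rfl⟩ := h2
    obtain ⟨d, hd⟩ := h3
    refine ⟨(2 * c - 4 * b) / 6, ?_⟩
    omega
  have h : a ^ 2 - 2 * a * b + 28 * b ^ 2 = 36 * (u ^ 2 + u * b + b ^ 2) := by rw [hu]; ring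
  rw [h]
  have h0 : u ^ 2 + u * b + b ^ 2 ≠ 0 := by
    intro h1
    have h4 : (2 * u + b) ^ 2 + 3 * b ^ 2 = 0 := by linear_combination 4 * h1
    have h5 : b = 0 := by linarith only [h1, sq_nonneg (2 * u + b), sq_nonneg (b - 1), sq_nonneg (b + 1)]
    have h6 : u = 0 := by
      rw [h5] at h1
      have : u ^ 2 = 0 := by linarith
      exact pow_eq_zero_iff (two_ne_zero) |>.1 this
    apply ha
    rw [hu, h5, h6]
    norm_num
  have h1 : 0 ≤ u ^ 2 + u * b + b ^ 2 := by linarith only [sq_nonneg (2 * u + b), sq_nonneg b]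
  have h2' : 1 ≤ u ^ 2 + u * b + b ^ 2 := by omega
  linarith

end

section main
variable {E : Type} [Group E] [Finite E] {π : E →* H} {φ : E →* fourRu} {l : π.ker →* ℂˣ}

theorem facts : fam (Ru.R 23) = 21 ∧ fam (Ru.R 15) = 15 ∧ orderOf (Ru.R 23) = 15 ∧ orderOf (Ru.R 15) = 10 := by
  rw [fam_R, fam_R, order_R, order_R]
  decide +kernel

theorem famTwo : P2.getD 15 0 = 8 ∧ P3.getD 21 0 = 8 ∧ (fm 8).n = 5 ∧ (fm (rp 8).i).c = 300 ∧
    (fm (rp 23).i).c = 15 ∧ (rp 8).i = 8 ∧ bad 15 = true := by decide +kernel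

theorem lies_one {f : E → ℂ} (h : Lies π.ker l f) (z : π.ker) : f z = f 1 * l z := by
  have := h 1 z
  rwa [one_mul] at this

theorem vanish (hπ : Function.Surjective π) (hc : π.ker ≤ Subgroup.center E) (hq : ∀ x, q (φ x) = π x)
    (hl : Function.Injective l) {g : E} (hg : Fused (π g)) {χ : IrrCharacter E} (hχ : Lies π.ker l (χ : E → ℂ)) :
    (χ : E → ℂ) g = 0 := by
  have h := not_good (φ := φ) hπ hq hl hg
  unfold Good at h
  push Not at h
  obtain ⟨x, hx, hne⟩ := h
  exact eq_zero_of_comm (isIrr_isClassFunction χ.2) hχ hx hne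

theorem five (hπ : Function.Surjective π) (hc : π.ker ≤ Subgroup.center E) (h2 : Nat.card π.ker = 2)
    (hφ : Function.Injective φ) (hq : ∀ x, q (φ x) = π x) (hl : Function.Injective l)
    (hbad : ∀ χ : IrrCharacter E, Lies π.ker l (χ : E → ℂ) → ¬ 5 ∣ charDegree (χ : E → ℂ)) : False := by
  classical
  obtain ⟨f21, f15, o15, o10⟩ := facts
  obtain ⟨p2, p3, n8, c8, c23, i8, b15⟩ := famTwo
  have hfin := finite_irr (G := E)
  have := Fintype.ofFinite (IrrCharacter E)
  have := Fintype.ofFinite π.ker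
  -- the elements
  obtain ⟨g, hg, hg15⟩ := exists_odd_lift hπ hc h2 (h := Ru.R 23) (n := 15) (by norm_num)
    (by rw [← o15]; exact pow_orderOf_eq_one _)
  obtain ⟨y, hy⟩ := hπ (Ru.R 15)
  have og : orderOf g = 15 := by
    apply Nat.dvd_antisymm (orderOf_dvd_of_pow_eq_one hg15)
    rw [← o15, ← hg]
    exact orderOf_map_dvd π g
  have hx5 : (g ^ 3) ^ 5 = 1 := by rw [← pow_mul]; exact hg15
  have fx5 : fam (π (g ^ 3)) = 8 := by rw [map_pow, fam_pow3, hg, f21, p3]
  have ox5 : orderOf (g ^ 3) = 5 := by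
    rw [orderOf_pow' g (by norm_num), og]
    norm_num
  -- the values
  have hval : ∀ χ : IrrCharacter E, Lies π.ker l (χ : E → ℂ) → ∃ a b : ℤ, (χ : E → ℂ) (g ^ 3) = a ∧
      (χ : E → ℂ) g = b ∧ 36 ≤ a ^ 2 - 2 * a * b + 28 * b ^ 2 := by
    intro χ hχ
    have hch := isIrr_isCharacter χ.2
    obtain ⟨b, hb⟩ := J3Type.CharTools.int_of_conj hch g (by
      intro m hm
      refine conj_of_conj hπ hc h2 (n := 15) (by norm_num) hg15 (by rw [← pow_mul, mul_comm, pow_mul, hg15, one_pow]) ?_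
      rw [map_pow, hg]
      refine conj21 f21 ?_
      rw [fam_pow_coprime (by rw [o15]; rwa [og] at hm), f21])
    obtain ⟨a, ha⟩ := J3Type.CharTools.int_of_conj hch (g ^ 3) (by
      intro m hm
      refine conj_of_conj hπ hc h2 (n := 5) (by norm_num) hx5 (by rw [← pow_mul, mul_comm, pow_mul, hx5, one_pow]) ?_
      rw [map_pow π (g ^ 3)]
      refine conj8 fx5 ?_
      rw [fam_pow_coprime, fx5]
      have h5 : orderOf (π (g ^ 3)) = 5 := by rw [order_fam, fx5, n8]
      rw [h5]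
      rwa [ox5] at hm)
    have h3 : (3 : ℤ) ∣ b - a := J3Type.CharTools.int_congr hch g Nat.prime_three hb ha
    have ha0 : a ≠ 0 := by
      rintro rfl
      have := Fact.mk Nat.prime_five
      refine H424.CentBound.apply_ne_zero (p := 5) hch (Blocks.Basic.irr_one_eq_charDegree χ.2) (hbad χ hχ)
        (g := g ^ 3) (m := 1) (by rw [pow_one]; exact hx5) ?_
      rw [ha]
      norm_num
    have h2a : (2 : ℤ) ∣ a := by
      have hy0 : (χ : E → ℂ) y = 0 := vanish (φ := φ) hπ hc hq hl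
        (by rw [hy]; exact fused_fam _ (by rw [f15]; exact b15)) hχ
      have f8 : fam (π (y ^ 2)) = 8 := by rw [map_pow, fam_pow2, hy, f15, p2]
      have h10 : (y ^ 2) ^ 5 ∈ π.ker := by
        rw [MonoidHom.mem_ker, ← pow_mul, map_pow, hy]
        have : (2 * 5 : ℕ) = orderOf (Ru.R 15) := by rw [o10]
        rw [this]
        exact pow_orderOf_eq_one _
      set n : π.ker := ⟨(y ^ 2) ^ 5, h10⟩ with hn
      have hn2 : n ^ 2 = 1 := by rw [← h2]; exact pow_card_eq_one'
      have hn2' : ((y ^ 2) ^ 5) ^ 2 = 1 := congrArg Subtype.val hn2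
      have hu : ((y ^ 2) ^ 6) ^ 5 = 1 := by
        rw [← pow_mul, show 6 * 5 = 5 * 2 * 3 from rfl, pow_mul, pow_mul _ 5 2, hn2', one_pow]
      have hcj : IsConj ((y ^ 2) ^ 6) (g ^ 3) := by
        refine conj_of_conj hπ hc h2 (n := 5) (by norm_num) hu hx5 (conj8 ?_ fx5)
        have e : π ((y ^ 2) ^ 6) = π (y ^ 2) := by
          rw [pow_succ, map_mul, show π ((y ^ 2) ^ 5) = 1 from h10, one_mul]
        rw [e, f8]
      have e1 : (y ^ 2) ^ 6 = y ^ 2 * (n : E) := by
        rw [hn]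
        change (y ^ 2) ^ 6 = y ^ 2 * (y ^ 2) ^ 5
        rw [← pow_succ']
      have e2 : (χ : E → ℂ) ((y ^ 2) ^ 6) = a := by
        rw [← ha]
        obtain ⟨c, hcc⟩ := isConj_iff.1 hcj
        rw [← hcc]
        exact (isIrr_isClassFunction χ.2 _ _).symm
      rw [e1, hχ (y ^ 2) n] at e2
      have e3 : (l n : ℂ) = 1 ∨ (l n : ℂ) = -1 := by
        have e4 : l n ^ 2 = 1 := by rw [← map_pow, hn2, map_one]
        have e5 : ((l n : ℂˣ) : ℂ) ^ 2 = 1 := by
          rw [← Units.val_pow_eq_pow_val, e4, Units.val_one]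
        have e6 : (((l n : ℂˣ) : ℂ) - 1) * (((l n : ℂˣ) : ℂ) + 1) = 0 := by linear_combination e5
        rcases mul_eq_zero.1 e6 with e7 | e7
        · exact Or.inl (sub_eq_zero.1 e7)
        · exact Or.inr (eq_neg_of_add_eq_zero_left e7)
      obtain ⟨c, hc1, hc2⟩ : ∃ c : ℤ, (χ : E → ℂ) (y ^ 2) = c ∧ (c = a ∨ c = -a) := by
        rcases e3 with e3 | e3
        · rw [e3, mul_one] at e2
          exact ⟨a, e2, Or.inl rfl⟩
        · rw [e3, mul_neg, mul_one] at e2
          refine ⟨-a, ?_, Or.inr rfl⟩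
          push_cast
          rw [← e2, neg_neg]
      have h4 : (2 : ℤ) ∣ 0 - c := J3Type.CharTools.int_congr hch y Nat.prime_two (by rw [hy0]; norm_num) hc1
      rcases hc2 with rfl | rfl <;> omega
    exact ⟨a, b, ha, hb, quad h2a h3 ha0⟩
  choose! a b ha hb hab using hval
  -- the sums
  have hcard : (ov π.ker l).card = 25 := by
    rw [← card_ov]
    exact card_irr (φ := φ) hπ hc h2 hφ hq hl
  have hmem : ∀ χ ∈ ov π.ker l, Lies π.ker l (χ : E → ℂ) := fun χ hχ => mem_ov.1 hχ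
  have bound : ∀ (u : E) (k : ℕ) (v : IrrCharacter E → ℤ) (c : ℕ), u ^ k = 1 → k.Coprime 2 →
      (∀ χ : IrrCharacter E, Lies π.ker l (χ : E → ℂ) → (χ : E → ℂ) u = v χ) →
      Nat.card (Subgroup.centralizer ({π u} : Set H)) = c → ∑ χ ∈ ov π.ker l, v χ ^ 2 ≤ (c : ℤ) := by
    intro u k v c hu hk hv hcent
    have h3 := sum_normSq_over hc l u (fun n hn => eq_one_of_isConj hc hu (by rwa [h2]) hn)
    have h4 := card_cent_le hc u
    rw [h2, hcent] at h4
    have h5 : ∑ χ ∈ ov π.ker l, ‖(χ : E → ℂ) u‖ ^ 2 = ((∑ χ ∈ ov π.ker l, v χ ^ 2 : ℤ) : ℝ) := by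
      push_cast
      refine Finset.sum_congr rfl fun χ hχ => ?_
      rw [hv χ (hmem χ hχ), Complex.norm_intCast, sq_abs]
    rw [h5, h2] at h3
    have h6 : ((Nat.card (Subgroup.centralizer ({u} : Set E)) : ℕ) : ℝ) ≤ ((2 * c : ℕ) : ℝ) := by exact_mod_cast h4
    rw [← h3] at h6
    push_cast at h6
    have h7 : ((∑ χ ∈ ov π.ker l, v χ ^ 2 : ℤ) : ℝ) ≤ ((c : ℤ) : ℝ) := by
      push_cast
      linarith only [h6]
    exact_mod_cast h7
  have SA := bound (g ^ 3) 5 a 300 hx5 (by norm_num) ha (by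
    obtain ⟨j, hj⟩ := cover (π (g ^ 3))
    have h3 := fx5
    rw [fam_eq hj] at h3
    rw [cent_fam hj, uniq8 j h3, c8])
  have SB := bound g 15 b 15 hg15 (by norm_num) hb (by
    rw [hg, cent_fam (IsConj.refl _), c23])
  have SAB : ∑ χ ∈ ov π.ker l, a χ * b χ = 0 := by
    have h3 := sum_over hc l (g ^ 3) g
    have h4 : ∀ n : π.ker, ¬ IsConj (g ^ 3 * (n : E)) g := by
      intro n hn
      have h5 := π.map_isConj hn
      have h6 := order_conj h5
      rw [map_mul, show π (n : E) = 1 from n.2, mul_one, order_fam, fx5, n8, hg, o15] at h6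
      norm_num at h6
    rw [Finset.sum_eq_zero (s := (Finset.univ : Finset π.ker)) (fun n _ => by rw [if_neg (h4 n), mul_zero]),
      mul_zero] at h3
    have h7 : ((∑ χ ∈ ov π.ker l, a χ * b χ : ℤ) : ℂ) = 0 := by
      rw [← h3]
      push_cast
      refine Finset.sum_congr rfl fun χ hχ => ?_
      rw [ha χ (hmem χ hχ), hb χ (hmem χ hχ), map_intCast]
    exact_mod_cast h7
  have S1 : (25 : ℤ) * 36 ≤ ∑ χ ∈ ov π.ker l, (a χ ^ 2 - 2 * a χ * b χ + 28 * b χ ^ 2) := by
    have h3 := Finset.card_nsmul_le_sum (ov π.ker l) (fun χ => a χ ^ 2 - 2 * a χ * b χ + 28 * b χ ^ 2) 36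
      (fun χ hχ => hab χ (hmem χ hχ))
    rw [hcard] at h3
    simpa only [_root_.Int.reduceMul, _root_.ge_iff_le, _root_.Int.nsmul_eq_mul, _root_.Nat.cast_ofNat] using h3
  have S2 : ∑ χ ∈ ov π.ker l, (a χ ^ 2 - 2 * a χ * b χ + 28 * b χ ^ 2) =
      ∑ χ ∈ ov π.ker l, a χ ^ 2 - 2 * ∑ χ ∈ ov π.ker l, a χ * b χ + 28 * ∑ χ ∈ ov π.ker l, b χ ^ 2 := by
    rw [Finset.mul_sum, Finset.mul_sum, ← Finset.sum_sub_distrib, ← Finset.sum_add_distrib]
    exact Finset.sum_congr rfl fun χ _ => by ring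
  rw [S2, SAB] at S1
  push_cast at SA SB
  linarith only [SA, SB, S1]

end main

/-! ### the rows -/

theorem nball_of (p : ℕ) (hp : p.Prime) (key : ∀ (E : Type) [Group E] [Finite E] (π : E →* H), Function.Surjective π →
    π.ker ≤ Subgroup.center E → Nat.card π.ker = 2 → ∀ φ : E →* fourRu, Function.Injective φ → (∀ x, q (φ x) = π x) →
    ∀ l : π.ker →* ℂˣ, Function.Injective l →
    (∀ χ : IrrCharacter E, Lies π.ker l (χ : E → ℂ) → ¬ p ∣ charDegree (χ : E → ℂ)) → False) : NBall p H := by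
  intro m hm hpm E _ _ π hπ hc hper hcard l hl
  have h3 := H95.StemCover.card_ker_dvd mult_H hper π hπ hc
  rw [hcard, Nat.card_congr (Multiplicative.toAdd (α := ZMod 2)), Nat.card_zmod] at h3
  have h2 : Nat.card π.ker = 2 := by
    rw [hcard]
    have := Nat.le_of_dvd (by norm_num) h3
    omega
  obtain ⟨φ, hφ, hq⟩ := exists_phi π hπ hc hper h2
  by_contra hcon
  push Not at hcon
  refine key E π hπ hc h2 φ hφ hq l hl fun χ hχ => ?_
  exact hcon χ χ.2 (fun z => lies_one hχ z)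

theorem nball_three_H : NBall 3 H := by
  refine nball_of 3 Nat.prime_three fun E _ _ π hπ hc h2 φ hφ hq l hl hbad => ?_
  have h3 := three_dvd_card_over hc l ?_ (by rw [h2]; norm_num) hbad
  · rw [card_irr (φ := φ) hπ hc h2 hφ hq hl] at h3
    norm_num at h3
  · refine dvd_trans ?_ (Subgroup.card_dvd_of_surjective π hπ)
    rw [card_H]
    norm_num

theorem nball_five_H : NBall 5 H :=
  nball_of 5 Nat.prime_five fun E _ _ π hπ hc h2 φ hφ hq l hl hbad => five hπ hc h2 hφ hq hl hbad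

universe u

/-- **(Ru, 3)** -/
theorem nball_three {S : Type u} [Group S] [Finite S] (h : Spor.IsoRu S) : NBall 3 S := by
  obtain ⟨e⟩ := h
  exact H325.RIM.NBall.congr (e.trans RuLat.Main.equiv) nball_three_H

/-- **(Ru, 5)** -/
theorem nball_five {S : Type u} [Group S] [Finite S] (h : Spor.IsoRu S) : NBall 5 S := by
  obtain ⟨e⟩ := h
  exact H325.RIM.NBall.congr (e.trans RuLat.Main.equiv) nball_five_H

end Cfsg.Agent.H300.RIM
end

-- part: H300/RIM/RuB
section
set_option linter.all false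
open scoped Cfsg.Agent.FastGrp

/-!
# S4816, the rows (Ru, 7) and (Ru, 13) (helper300)

An element `x` of order `p` with `|C(x)| = 4 p` is the square of an element which is conjugate to its negative in the
double cover; so `χ(x)` is an even integer, and not zero if `p` does not divide `χ(1)`: there are at most `p` such
characters, but there are 25 faithful characters.
-/

set_option autoImplicit false
set_option maxRecDepth 100000
set_option exponentiation.threshold 5000

namespace Cfsg.Agent.H300.RIM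

open Cfsg Cfsg.Spor Cfsg.Agent.SporadicB Cfsg.Agent.SporadicB.RuOrder Cfsg.Agent.H300 Cfsg.Agent.H300.Ru
open Cfsg.Agent.H289.Eight.RuDeg
open Cfsg.Agent.H622.Over Cfsg.Agent.H382.RIM Cfsg.Agent.H665.RIM Cfsg.Agent.Characters.Core
open scoped ComplexConjugate

section main
variable {E : Type} [Group E] [Finite E] {π : E →* H} {φ : E →* fourRu} {l : π.ker →* ℂˣ}

theorem even_kill {p : ℕ} [Fact p.Prime] (hp2 : p % 2 = 1) {i0 : ℕ} {j0 y0 : Fin 36} {c : ℕ}
    (hi : ∀ j : Fin 36, (rp j).i = i0 → j = j0) (hj0 : (rp j0).i = i0) (hn : (fm i0).n = p) (hcc : (fm i0).c = c)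
    (hy2 : P2.getD (rp y0).i 0 = i0) (hyb : bad (rp y0).i = true) (hyn : (fm (rp y0).i).n = 2 * p) (hlt : c < 100)
    (hπ : Function.Surjective π) (hc : π.ker ≤ Subgroup.center E) (h2 : Nat.card π.ker = 2)
    (hφ : Function.Injective φ) (hq : ∀ x, q (φ x) = π x) (hl : Function.Injective l)
    (hbad : ∀ χ : IrrCharacter E, Lies π.ker l (χ : E → ℂ) → ¬ p ∣ charDegree (χ : E → ℂ)) : False := by
  classical
  have hpp : p.Prime := Fact.out
  have hfin := finite_irr (G := E)
  have := Fintype.ofFinite (IrrCharacter E)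
  have := Fintype.ofFinite π.ker
  have hcop2 : p.Coprime 2 := (Nat.coprime_primes hpp Nat.prime_two).2 (by rintro rfl; norm_num at hp2)
  have uq : ∀ {h h' : H}, fam h = i0 → fam h' = i0 → IsConj h h' := by
    intro h h' h1 h3
    obtain ⟨j, hj⟩ := cover h
    obtain ⟨j', hj'⟩ := cover h'
    rw [fam_eq hj] at h1
    rw [fam_eq hj'] at h3
    rw [hi j h1] at hj
    rw [hi j' h3] at hj'
    exact hj.symm.trans hj'
  have fR : fam (Ru.R j0) = i0 := by rw [fam_R, hj0]
  have oR : orderOf (Ru.R j0) = p := by rw [order_fam, fR, hn]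
  -- the elements
  obtain ⟨x, hx, hxp⟩ := exists_odd_lift hπ hc h2 (h := Ru.R j0) (n := p) hp2
    (by rw [← oR]; exact pow_orderOf_eq_one _)
  obtain ⟨y, hy⟩ := hπ (Ru.R y0)
  have oy : orderOf (Ru.R y0) = 2 * p := by rw [order_R, hyn]
  have ox : orderOf x = p := by
    apply Nat.dvd_antisymm (orderOf_dvd_of_pow_eq_one hxp)
    rw [← oR, ← hx]
    exact orderOf_map_dvd π x
  -- the values
  have hval : ∀ χ : IrrCharacter E, Lies π.ker l (χ : E → ℂ) → ∃ a : ℤ, (χ : E → ℂ) x = a ∧ 4 ≤ a ^ 2 := by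
    intro χ hχ
    have hch := isIrr_isCharacter χ.2
    obtain ⟨a, ha⟩ := J3Type.CharTools.int_of_conj hch x (by
      intro m hm
      refine conj_of_conj hπ hc h2 (n := p) hp2 hxp (by rw [← pow_mul, mul_comm, pow_mul, hxp, one_pow]) ?_
      rw [map_pow, hx]
      refine uq fR ?_
      rw [fam_pow_coprime (by rw [oR]; rwa [ox] at hm), fR])
    have ha0 : a ≠ 0 := by
      rintro rfl
      refine H424.CentBound.apply_ne_zero (p := p) hch (Blocks.Basic.irr_one_eq_charDegree χ.2) (hbad χ hχ)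
        (g := x) (m := 1) (by rw [pow_one]; exact hxp) ?_
      rw [ha]
      norm_num
    have h2a : (2 : ℤ) ∣ a := by
      have hy0 : (χ : E → ℂ) y = 0 := vanish (φ := φ) hπ hc hq hl
        (by rw [hy]; exact fused_R y0 hyb) hχ
      have f8 : fam (π (y ^ 2)) = i0 := by rw [map_pow, fam_pow2, hy, fam_R, hy2]
      have h10 : (y ^ 2) ^ p ∈ π.ker := by
        rw [MonoidHom.mem_ker, ← pow_mul, map_pow, hy, ← oy]
        exact pow_orderOf_eq_one _
      set n : π.ker := ⟨(y ^ 2) ^ p, h10⟩ with hn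
      have hn2 : n ^ 2 = 1 := by rw [← h2]; exact pow_card_eq_one'
      have hn2' : ((y ^ 2) ^ p) ^ 2 = 1 := congrArg Subtype.val hn2
      have hu : ((y ^ 2) ^ (p + 1)) ^ p = 1 := by
        obtain ⟨m, hm⟩ : ∃ m, p + 1 = 2 * m := ⟨(p + 1) / 2, by omega⟩
        rw [← pow_mul, hm, mul_comm, ← mul_assoc, pow_mul, pow_mul, hn2', one_pow]
      have hcj : IsConj ((y ^ 2) ^ (p + 1)) x := by
        refine conj_of_conj hπ hc h2 (n := p) hp2 hu hxp ?_
        rw [hx]
        refine uq ?_ fR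
        have e : π ((y ^ 2) ^ (p + 1)) = π (y ^ 2) := by
          rw [pow_succ, map_mul, show π ((y ^ 2) ^ p) = 1 from h10, one_mul]
        rw [e, f8]
      have e1 : (y ^ 2) ^ (p + 1) = y ^ 2 * (n : E) := by
        rw [hn]
        change (y ^ 2) ^ (p + 1) = y ^ 2 * (y ^ 2) ^ p
        rw [← pow_succ']
      have e2 : (χ : E → ℂ) ((y ^ 2) ^ (p + 1)) = a := by
        rw [← ha]
        obtain ⟨c, hcc⟩ := isConj_iff.1 hcj
        rw [← hcc]
        exact (isIrr_isClassFunction χ.2 _ _).symm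
      rw [e1, hχ (y ^ 2) n] at e2
      have e3 : (l n : ℂ) = 1 ∨ (l n : ℂ) = -1 := by
        have e4 : l n ^ 2 = 1 := by rw [← map_pow, hn2, map_one]
        have e5 : ((l n : ℂˣ) : ℂ) ^ 2 = 1 := by
          rw [← Units.val_pow_eq_pow_val, e4, Units.val_one]
        have e6 : (((l n : ℂˣ) : ℂ) - 1) * (((l n : ℂˣ) : ℂ) + 1) = 0 := by linear_combination e5
        rcases mul_eq_zero.1 e6 with e7 | e7
        · exact Or.inl (sub_eq_zero.1 e7)
        · exact Or.inr (eq_neg_of_add_eq_zero_left e7)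
      obtain ⟨c, hc1, hc2⟩ : ∃ c : ℤ, (χ : E → ℂ) (y ^ 2) = c ∧ (c = a ∨ c = -a) := by
        rcases e3 with e3 | e3
        · rw [e3, mul_one] at e2
          exact ⟨a, e2, Or.inl rfl⟩
        · rw [e3, mul_neg, mul_one] at e2
          refine ⟨-a, ?_, Or.inr rfl⟩
          push_cast
          rw [← e2, neg_neg]
      have h4 : (2 : ℤ) ∣ 0 - c := J3Type.CharTools.int_congr hch y Nat.prime_two (by rw [hy0]; norm_num) hc1
      rcases hc2 with rfl | rfl <;> omega
    refine ⟨a, ha, ?_⟩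
    obtain ⟨b, rfl⟩ := h2a
    have hb : b ≠ 0 := by rintro rfl; exact ha0 rfl
    have h5 : 0 < b ^ 2 := by positivity
    nlinarith
  choose! a ha hab using hval
  have hcard : (ov π.ker l).card = 25 := by
    rw [← card_ov]
    exact card_irr (φ := φ) hπ hc h2 hφ hq hl
  have hmem : ∀ χ ∈ ov π.ker l, Lies π.ker l (χ : E → ℂ) := fun χ hχ => mem_ov.1 hχ
  have h3 := sum_normSq_over hc l x (fun n hn => eq_one_of_isConj hc hxp (by rwa [h2]) hn)
  have h4 := card_cent_le hc x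
  rw [h2, hx, cent_fam (IsConj.refl _), hj0, hcc] at h4
  have h5 : ∑ χ ∈ ov π.ker l, ‖(χ : E → ℂ) x‖ ^ 2 = ((∑ χ ∈ ov π.ker l, a χ ^ 2 : ℤ) : ℝ) := by
    push_cast
    refine Finset.sum_congr rfl fun χ hχ => ?_
    rw [ha χ (hmem χ hχ), Complex.norm_intCast, sq_abs]
  rw [h5, h2] at h3
  have h6 : ((Nat.card (Subgroup.centralizer ({x} : Set E)) : ℕ) : ℝ) ≤ ((2 * c : ℕ) : ℝ) := by exact_mod_cast h4
  rw [← h3] at h6
  push_cast at h6
  have h7 : ((∑ χ ∈ ov π.ker l, a χ ^ 2 : ℤ) : ℝ) ≤ ((c : ℤ) : ℝ) := by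
    push_cast
    linarith
  have h8 : ∑ χ ∈ ov π.ker l, a χ ^ 2 ≤ (c : ℤ) := by exact_mod_cast h7
  have h9 := Finset.card_nsmul_le_sum (ov π.ker l) (fun χ => a χ ^ 2) 4 (fun χ hχ => hab χ (hmem χ hχ))
  rw [hcard] at h9
  have h10 : (25 : ℤ) * 4 ≤ ∑ χ ∈ ov π.ker l, a χ ^ 2 := by simpa using h9
  have h11 : (c : ℤ) < 100 := by exact_mod_cast hlt
  linarith

end main

theorem nball_seven_H : NBall 7 H := by
  have : Fact (Nat.Prime 7) := ⟨by norm_num⟩
  exact nball_of 7 (by norm_num) fun E _ _ π hπ hc h2 φ hφ hq l hl hbad =>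
    even_kill (i0 := 11) (j0 := 11) (y0 := 20) (c := 28) (by norm_num) (by decide +kernel) (by decide +kernel)
      (by decide +kernel) (by decide +kernel) (by decide +kernel) (by decide +kernel) (by decide +kernel) (by norm_num)
      hπ hc h2 hφ hq hl hbad

theorem nball_thirteen_H : NBall 13 H := by
  have : Fact (Nat.Prime 13) := ⟨by norm_num⟩
  exact nball_of 13 (by norm_num) fun E _ _ π hπ hc h2 φ hφ hq l hl hbad =>
    even_kill (i0 := 19) (j0 := 19) (y0 := 31) (c := 52) (by norm_num) (by decide +kernel) (by decide +kernel)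
      (by decide +kernel) (by decide +kernel) (by decide +kernel) (by decide +kernel) (by decide +kernel) (by norm_num)
      hπ hc h2 hφ hq hl hbad

universe u

/-- **(Ru, 7)** -/
theorem nball_seven {S : Type u} [Group S] [Finite S] (h : Spor.IsoRu S) : NBall 7 S := by
  obtain ⟨e⟩ := h
  exact H325.RIM.NBall.congr (e.trans RuLat.Main.equiv) nball_seven_H

/-- **(Ru, 13)** -/
theorem nball_thirteen {S : Type u} [Group S] [Finite S] (h : Spor.IsoRu S) : NBall 13 S := by
  obtain ⟨e⟩ := h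
  exact H325.RIM.NBall.congr (e.trans RuLat.Main.equiv) nball_thirteen_H

end Cfsg.Agent.H300.RIM
end

-- part: H300/RIM/RuC
section
set_option linter.all false
open scoped Cfsg.Agent.FastGrp

/-!
# S4816, the row (Ru, 29) (helper300)

`|C(x)| = 29`, `|N(⟨x⟩)| = 14 * 29`, and there are 17 classes of elements `g` of odd order or with `|C(g) : ⟨g⟩|` odd;
`14 ^ 2 + 28 < 14 * 17` (helper620's form of helper849's count).
-/

set_option autoImplicit false
set_option maxRecDepth 100000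
set_option exponentiation.threshold 5000

namespace Cfsg.Agent.H300.RIM

open Cfsg Cfsg.Spor Cfsg.Agent.SporadicB Cfsg.Agent.SporadicB.RuOrder Cfsg.Agent.H300 Cfsg.Agent.H300.Ru
open Cfsg.Agent.H665.RIM Cfsg.Agent.H620.RIM

theorem norm29 : Nat.card (Subgroup.normalizer ((Subgroup.zpowers (Ru.R 34) : Subgroup H) : Set H)) = 14 * 29 := by
  have := RuSimple.isSimpleGroup_H
  have : Fact (Nat.Prime 29) := ⟨by norm_num⟩
  have hfin := finite_H
  have ho : orderOf (Ru.R 34) = 29 := by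
    rw [order_R]
    decide +kernel
  obtain ⟨e, c, he, he1, hC, hN, hS⟩ := SmallSimple.PrimeOrderData.exists_data (G := H) (p := 29) (m := 5031936000)
    (by rw [card_H]) (by norm_num) (by norm_num) (Ru.R 34) ho
  have hc1 : c = 1 := by
    rw [card_centralizer] at hC
    have h2 : (fm (rp 34).i).c = 29 := by decide +kernel
    rw [h2] at hC
    omega
  subst hc1
  rw [hN]
  have hmod := card_sylow_modEq_one 29 H
  rw [one_mul] at hS
  have h3 : e ≤ 28 := Nat.le_of_dvd (by norm_num) he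
  have h4 : (Nat.card (Sylow 29 H) * e) % 29 = e % 29 := by
    rw [Nat.mul_mod, hmod, ← Nat.mul_mod, one_mul]
  rw [hS] at h4
  have h5 : e = 14 := by
    have h6 : (5031936000 : ℕ) % 29 = 14 := by norm_num
    rw [h6, Nat.mod_eq_of_lt (by omega)] at h4
    exact h4.symm
  rw [h5]

def L17 : List (Fin 36) := [0, 3, 8, 9, 11, 19, 23, 34, 35, 17, 24, 25, 26, 27, 28, 29, 30]

theorem okL17 : ∀ j ∈ L17, (fm (rp j).i).n % 2 = 1 ∨ ((fm (rp j).i).c / (fm (rp j).i).n) % 2 = 1 := by decide +kernel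

theorem nodupL17 : L17.Nodup := by decide

theorem nb29 : NB 29 2 H := by
  have hfin := finite_H
  obtain ⟨F, hF, hF'⟩ := exists_finset (MGood 2 : H → Prop) (L17.map Ru.R) (by
    rw [List.pairwise_map]
    exact nodupL17.imp fun h h1 => h (nonconj _ _ h1)) (by
    intro g hg
    obtain ⟨j, hj, rfl⟩ := List.mem_map.1 hg
    intro r hr h2
    have hr2 : r = 2 := (Nat.prime_dvd_prime_iff_eq hr Nat.prime_two).1 h2
    subst hr2
    rw [order_R, card_centralizer]
    rcases okL17 j hj with h | h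
    · left
      omega
    · right
      omega)
  refine nb_of_dz_self (p := 29) (m := 2) (by norm_num) (by norm_num) ?_ (y := Ru.R 34) ?_ (w := 14) ?_ norm29 F hF' ?_
  · rw [card_H]
    norm_num
  · rw [order_R]
    decide +kernel
  · rw [card_centralizer]
    decide +kernel
  · rw [hF, List.length_map]
    decide

theorem nball_29_H : NBall 29 H := by
  intro m hm hpm
  by_cases h2 : m = 2
  · subst h2
    exact nb29
  · intro E _ _ π hπ hc hper hcard l hl
    have h3 := H95.StemCover.card_ker_dvd mult_H hper π hπ hc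
    rw [hcard, Nat.card_congr (Multiplicative.toAdd (α := ZMod 2)), Nat.card_zmod] at h3
    have := Nat.le_of_dvd (by norm_num) h3
    omega

universe u

/-- **(Ru, 29)** -/
theorem nball_29 {S : Type u} [Group S] [Finite S] (h : Spor.IsoRu S) : NBall 29 S := by
  obtain ⟨e⟩ := h
  exact H325.RIM.NBall.congr (e.trans RuLat.Main.equiv) nball_29_H

end Cfsg.Agent.H300.RIM
end

-- part: H325/RIM/Fill/A
section
prune_inst 0x4d05071201400018000000500000022206000009000008800888002400201220000008840008001000022000000000040004400300000000004000000000400008800820000000000200001000000400000000000000000000000000000000000000000000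
set_option linter.all false
open scoped Cfsg.Agent.FastGrp

-- part: H46/RIM/PslOf
section
/-!
# S4816: `NBall p (PSL_n(q))` from characters of `SL_n(q)` or `GL_n(q)` (helper46)
-/

set_option autoImplicit false
set_option linter.unusedSectionVars false

namespace Cfsg.Agent.H46.RIM

open Cfsg Cfsg.Agent.Characters.Core Cfsg.Agent.H51.Mult Cfsg.Agent.H665.RIM Matrix

universe u v w

variable {F : Type u} [Field F] [Fintype F] {n : ℕ}

/-- the scalar matrices of `SL_n` -/
def scl (n : ℕ) (F : Type u) [Field F] : (powMonoidHom n : Fˣ →* Fˣ).ker →* _root_.Matrix.SpecialLinearGroup (Fin n) F where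
  toFun c := ⟨scalar (Fin n) ((c : Fˣ) : F), by
    have h1 : (c : Fˣ) ^ n = 1 := c.2
    have h2 := congrArg Units.val h1
    rw [Units.val_pow_eq_pow_val, Units.val_one] at h2
    rw [Matrix.scalar_apply, det_diagonal, Finset.prod_const, Finset.card_univ, Fintype.card_fin, h2]⟩
  map_one' := Subtype.ext (by simp only [_root_.OneMemClass.coe_one, _root_.Units.val_one, _root_.Matrix.scalar_apply, _root_.Matrix.diagonal_one, _root_.Matrix.SpecialLinearGroup.coe_one])
  map_mul' x y := Subtype.ext (by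
    change scalar (Fin n) ((x : Fˣ) * (y : Fˣ) : F) = scalar (Fin n) ((x : Fˣ) : F) * scalar (Fin n) ((y : Fˣ) : F)
    rw [map_mul])

theorem scl_mem (c : (powMonoidHom n : Fˣ →* Fˣ).ker) :
    scl n F c ∈ Subgroup.center (_root_.Matrix.SpecialLinearGroup (Fin n) F) := by
  rw [Matrix.SpecialLinearGroup.mem_center_iff]
  refine ⟨(c : Fˣ), ?_, rfl⟩
  have h1 : (c : Fˣ) ^ n = 1 := c.2
  have h2 := congrArg Units.val h1
  rw [Units.val_pow_eq_pow_val, Units.val_one] at h2
  rwa [Fintype.card_fin]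

theorem exists_scl (hn : n ≠ 0) {z : _root_.Matrix.SpecialLinearGroup (Fin n) F}
    (hz : z ∈ Subgroup.center (_root_.Matrix.SpecialLinearGroup (Fin n) F)) : ∃ c, scl n F c = z := by
  rw [Matrix.SpecialLinearGroup.mem_center_iff, Fintype.card_fin] at hz
  obtain ⟨r, hr, hz⟩ := hz
  refine ⟨⟨(IsUnit.of_pow_eq_one hr hn).unit, ?_⟩, ?_⟩
  · rw [MonoidHom.mem_ker]
    apply Units.ext
    rw [powMonoidHom_apply, Units.val_pow_eq_pow_val, IsUnit.unit_spec, hr, Units.val_one]
  · apply Subtype.ext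
    rw [← hz]
    rfl

/-- **from `SL_n`** -/
theorem nball_psl_of_sl {p : ℕ} (h : H60.MultA.Ok n (Nat.card F))
    (H : ∀ μ : Fˣ →* ℂˣ, (∃ c : Fˣ, c ^ n = 1 ∧ μ c ≠ 1) → ∃ χ : _root_.Matrix.SpecialLinearGroup (Fin n) F → ℂ,
      IsIrrCharacter _ χ ∧ p ∣ charDegree χ ∧ ∀ c, χ (scl n F c) = χ 1 * μ c) :
    NBall p (ProjectiveSpecialLinearGroup (Fin n) F) := by
  classical
  have hn := h.two
  have hσ : PCE (QuotientGroup.mk' (Subgroup.center (_root_.Matrix.SpecialLinearGroup (Fin n) F))) :=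
    ⟨QuotientGroup.mk'_surjective _, by rw [QuotientGroup.ker_mk'], H60.MultA.perfect_SL h⟩
  refine nball_of_trivial hσ (H60.MultA.hasTrivial_SL h) fun l hl _ => ?_
  have hmem : ∀ c, scl n F c ∈ (QuotientGroup.mk' (Subgroup.center (_root_.Matrix.SpecialLinearGroup (Fin n) F))).ker := fun c => by
    rw [QuotientGroup.ker_mk']
    exact scl_mem c
  let j : (powMonoidHom n : Fˣ →* Fˣ).ker →* (QuotientGroup.mk' (Subgroup.center (_root_.Matrix.SpecialLinearGroup (Fin n) F))).ker :=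
    (scl n F).codRestrict _ hmem
  have hj : Function.Surjective j := by
    rintro ⟨z, hz⟩
    rw [QuotientGroup.ker_mk'] at hz
    obtain ⟨c, hc⟩ := exists_scl (by omega) hz
    exact ⟨c, Subtype.ext hc⟩
  obtain ⟨μ, hμ⟩ := MonoidHom.domRestrict_surjective (M := ℂ) (powMonoidHom n : Fˣ →* Fˣ).ker (l.comp j)
  have hμ' : ∀ c : (powMonoidHom n : Fˣ →* Fˣ).ker, μ c = l (j c) := fun c => DFunLike.congr_fun hμ c
  obtain ⟨χ, hχ, hp, hc⟩ := H μ (by
    obtain ⟨z, hz⟩ := hl
    obtain ⟨c, rfl⟩ := hj z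
    exact ⟨c, c.2, by rw [hμ']; exact hz⟩)
  refine ⟨χ, hχ, fun z => ?_, hp⟩
  obtain ⟨c, rfl⟩ := hj z
  rw [← hμ' c, ← hc c]
  rfl

theorem det_scalar (c : Fˣ) :
    GeneralLinearGroup.det (GeneralLinearGroup.scalar (R := F) (Fin n) c) = c ^ n := by
  apply Units.ext
  rw [GeneralLinearGroup.val_det_apply, Units.val_pow_eq_pow_val]
  change (Matrix.scalar (Fin n) (c : F)).det = _
  rw [Matrix.scalar_apply, det_diagonal, Finset.prod_const, Finset.card_univ, Fintype.card_fin]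

theorem index_sl (hn : 1 ≤ n) :
    ((GeneralLinearGroup.det : GL (Fin n) F →* Fˣ).ker ⊔ (GeneralLinearGroup.scalar (R := F) (Fin n)).range).index =
      Nat.gcd n (Fintype.card F - 1) := by
  classical
  have h1 : (GeneralLinearGroup.det : GL (Fin n) F →* Fˣ).ker ⊔
      (GeneralLinearGroup.scalar (R := F) (Fin n)).range =
      (powMonoidHom n : Fˣ →* Fˣ).range.comap (GeneralLinearGroup.det : GL (Fin n) F →* Fˣ) := by
    apply le_antisymm
    · refine sup_le (fun g hg => ?_) ?_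
      · rw [Subgroup.mem_comap, MonoidHom.mem_ker.1 hg]
        exact one_mem _
      · rintro _ ⟨c, rfl⟩
        exact ⟨c, (det_scalar c).symm⟩
    · rintro g ⟨c, hc⟩
      rw [powMonoidHom_apply] at hc
      rw [← inv_mul_cancel_right g (GeneralLinearGroup.scalar (R := F) (Fin n) c)]
      refine Subgroup.mul_mem_sup ?_ ⟨c, rfl⟩
      rw [MonoidHom.mem_ker, map_mul, map_inv, det_scalar, hc, mul_inv_cancel]
  have : Nonempty (Fin n) := ⟨⟨0, hn⟩⟩
  rw [h1, Subgroup.index_comap_of_surjective _ GeneralLinearGroup.det_surjective, IsCyclic.index_powMonoidHom_range,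
    Nat.gcd_comm, Nat.card_units, Nat.card_eq_fintype_card]

theorem scalar_injective (hn : 1 ≤ n) : Function.Injective (GeneralLinearGroup.scalar (R := F) (Fin n)) := by
  intro c d h
  apply Units.ext
  have h1 := congrArg (fun g : GL (Fin n) F => (g : Matrix (Fin n) (Fin n) F) ⟨0, hn⟩ ⟨0, hn⟩) h
  change (Matrix.scalar (Fin n) (c : F)) ⟨0, hn⟩ ⟨0, hn⟩ = (Matrix.scalar (Fin n) (d : F)) ⟨0, hn⟩ ⟨0, hn⟩ at h1
  rwa [Matrix.scalar_apply, Matrix.scalar_apply, diagonal_apply_eq, diagonal_apply_eq] at h1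

/-- **from `GL_n`** -/
theorem nball_psl_of_gl {p : ℕ} (h : H60.MultA.Ok n (Nat.card F))
    (H : ∀ μ : Fˣ →* ℂˣ, ∃ (χ : GL (Fin n) F → ℂ) (d : ℕ), IsIrrCharacter _ χ ∧ χ 1 = d ∧
      p * Nat.gcd n (Fintype.card F - 1) ∣ d ∧
      ∀ (c : Fˣ) (g : GL (Fin n) F), χ (GeneralLinearGroup.scalar (Fin n) c * g) = μ c * χ g) :
    NBall p (ProjectiveSpecialLinearGroup (Fin n) F) := by
  classical
  have hn := h.two
  refine nball_psl_of_sl h fun μ _ => ?_
  obtain ⟨χ, d, hχ, hd, hpd, hc⟩ := H μ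
  let N : Subgroup (GL (Fin n) F) := (GeneralLinearGroup.det : GL (Fin n) F →* Fˣ).ker
  let Z : Subgroup (GL (Fin n) F) := (GeneralLinearGroup.scalar (R := F) (Fin n)).range
  let e : Fˣ ≃* Z := MonoidHom.ofInjective (scalar_injective (by omega))
  have he : ∀ c, ((e c : Z) : GL (Fin n) F) = GeneralLinearGroup.scalar (Fin n) c := fun c => rfl
  have hZ : ∀ z ∈ Z, ∀ g, z * g = g * z := by
    rintro _ ⟨c, rfl⟩ g
    exact GeneralLinearGroup.scalar_commute c g
  have hμ : ∀ (z : Z) (g : GL (Fin n) F), χ (z * g) = (μ.comp e.symm.toMonoidHom) z * χ g := by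
    intro z g
    obtain ⟨c, rfl⟩ := e.surjective z
    rw [he, hc]
    change μ c * χ g = μ (e.symm (e c)) * χ g
    rw [e.symm_apply_apply]
  obtain ⟨θ, a, t, hθ, ha, hat, ht, hz⟩ := exists_irr_restr N Z hZ hχ (μ.comp e.symm.toMonoidHom) hμ hd
  have ht' : t ∣ Nat.gcd n (Fintype.card F - 1) := by
    rw [← index_sl (F := F) (n := n) (by omega)]
    exact ht
  have hpa : p ∣ a := by
    obtain ⟨s, hs⟩ := ht'
    have h1 : p * (t * s) ∣ a * t := by rw [← hs, hat]; exact hpd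
    have ht0 : 0 < t := by
      rcases Nat.eq_zero_or_pos t with h0 | h0
      · exfalso
        rw [h0, zero_mul] at hs
        have : 0 < Nat.gcd n (Fintype.card F - 1) := Nat.gcd_pos_of_pos_left _ (by omega)
        omega
      · exact h0
    have h2 : t * (p * s) ∣ t * a := by
      rw [show t * (p * s) = p * (t * s) by ring, mul_comm t a]; exact h1
    exact (Dvd.intro s rfl).trans (Nat.dvd_of_mul_dvd_mul_left ht0 h2)
  have hmem : ∀ g : _root_.Matrix.SpecialLinearGroup (Fin n) F, SpecialLinearGroup.toGL g ∈ N := fun g => by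
    change GeneralLinearGroup.det (SpecialLinearGroup.toGL g) = 1
    exact SpecialLinearGroup.coeToGL_det g
  let f : _root_.Matrix.SpecialLinearGroup (Fin n) F →* N := (SpecialLinearGroup.toGL (n := Fin n) (R := F)).codRestrict N hmem
  have hf : Function.Surjective f := by
    rintro ⟨g, hg⟩
    have h1 : g ∈ Set.range (SpecialLinearGroup.toGL (n := Fin n) (R := F)) := by
      rw [SpecialLinearGroup.range_toGL]
      exact hg
    obtain ⟨x, rfl⟩ := h1
    exact ⟨x, rfl⟩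
  refine ⟨θ ∘ f, isIrr_comp f hf hθ, ?_, fun c => ?_⟩
  · have h1 : (θ ∘ f) 1 = (a : ℂ) := by rw [Function.comp_apply, map_one, ha]
    rw [Blocks.Basic.charDegree_of_eq h1]
    exact hpa
  · have h1 : GeneralLinearGroup.scalar (Fin n) (c : Fˣ) ∈ N := by
      change GeneralLinearGroup.det (GeneralLinearGroup.scalar (Fin n) (c : Fˣ)) = 1
      rw [det_scalar]
      exact c.2
    have h2 := hz _ h1 ⟨c, rfl⟩
    have h3 : f (scl n F c) = ⟨GeneralLinearGroup.scalar (Fin n) (c : Fˣ), h1⟩ := by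
      apply Subtype.ext
      apply Units.ext
      rfl
    rw [Function.comp_apply, Function.comp_apply, map_one, h3, h2]
    have h4 : (⟨GeneralLinearGroup.scalar (Fin n) (c : Fˣ), ⟨c, rfl⟩⟩ : Z) = e c := rfl
    rw [h4]
    change θ 1 * μ (e.symm (e c)) = θ 1 * μ c
    rw [e.symm_apply_apply]

end Cfsg.Agent.H46.RIM
end

-- part: H46/RIM/Psl
section
/-!
# S4816: `NBall p (PSL_n(q))`, `p` odd, not the characteristic (helper46, from helper886's characters of `GL_n(q)`)
-/

set_option autoImplicit false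
set_option linter.unusedSectionVars false

namespace Cfsg.Agent.H46.RIM

open Cfsg Cfsg.Agent.H665.RIM Cfsg.Agent.H886.RIM Matrix

universe u

variable {F : Type u} [Field F] [Fintype F]

/-- two characters of `Fˣ` with product `μ` -/
theorem exists_split (hq : 4 ≤ Fintype.card F) (μ : Fˣ →* ℂˣ) : ∃ α β : Fˣ →* ℂˣ, α ≠ β ∧ α * β = μ := by
  classical
  by_cases hμ : μ = 1
  · obtain ⟨θ, hθ⟩ := Cfsg.Agent.H139.Cusp.exists_theta F
    obtain ⟨c, hc⟩ := IsCyclic.exists_generator (α := Fˣ)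
    have hc' : orderOf c = Nat.card Fˣ := orderOf_eq_card_of_forall_mem_zpowers hc
    rw [Nat.card_units, Nat.card_eq_fintype_card] at hc'
    let β : Fˣ →* ℂˣ := Units.map (θ : F →* ℂ)
    refine ⟨β⁻¹, β, fun h => ?_, by rw [hμ]; exact inv_mul_cancel β⟩
    have h1 : β c * β c = 1 := by
      have h0 : (β c)⁻¹ = β c := DFunLike.congr_fun h c
      exact (congrArg (fun x => x * β c) h0.symm).trans (inv_mul_cancel (β c))
    have h2 : β (c ^ 2) = β 1 := by rw [pow_two, map_mul, h1, map_one]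
    have h3 : θ (c ^ 2 : Fˣ) = θ (1 : Fˣ) := congrArg Units.val h2
    have h4 : c ^ 2 = 1 := Units.ext (hθ h3)
    have h5 := Nat.le_of_dvd (by norm_num) (orderOf_dvd_of_pow_eq_one h4)
    omega
  · exact ⟨μ, 1, hμ, mul_one μ⟩

/-- the characters of `GL_2(q)` -/
theorem exists_gl_two (hq : 4 ≤ Fintype.card F) {p : ℕ} (hp : p.Prime) (hp2 : p ≠ 2)
    (hpi : p ∣ Fintype.card F ^ 2 - 1) (μ : Fˣ →* ℂˣ) :
    ∃ (χ : GL (Fin 2) F → ℂ) (d : ℕ), IsIrrCharacter _ χ ∧ χ 1 = d ∧
      p * Nat.gcd 2 (Fintype.card F - 1) ∣ d ∧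
      ∀ (c : Fˣ) (g : GL (Fin 2) F), χ (GeneralLinearGroup.scalar (Fin 2) c * g) = μ c * χ g := by
  have hcop : Nat.Coprime p (Nat.gcd 2 (Fintype.card F - 1)) := by
    have h1 : Nat.Coprime p 2 := (Nat.coprime_primes hp Nat.prime_two).2 hp2
    exact h1.coprime_dvd_right (Nat.gcd_dvd_left _ _)
  have hfac : Fintype.card F ^ 2 - 1 = (Fintype.card F - 1) * (Fintype.card F + 1) := by
    obtain ⟨m, hm⟩ : ∃ m, Fintype.card F = m + 1 := ⟨Fintype.card F - 1, by omega⟩
    rw [hm, Nat.add_sub_cancel]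
    have : (m + 1) ^ 2 = m * (m + 1 + 1) + 1 := by ring
    omega
  rw [hfac] at hpi
  rcases (hp.dvd_mul).1 hpi with h | h
  · obtain ⟨χ, h1, -, h3, h4⟩ := exists_cus (F := F) (n := 2) (by norm_num) μ
    refine ⟨χ, Fintype.card F - 1, h1, ?_, hcop.mul_dvd_of_dvd_of_dvd h (Nat.gcd_dvd_right _ _), h4⟩
    rw [h3]
    simp only [_root_.Nat.add_one_sub_one, _root_.Finset.range_one, _root_.Finset.prod_singleton, _root_.zero_add, _root_.pow_one]
  · obtain ⟨α, β, hne, hαβ⟩ := exists_split hq μ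
    obtain ⟨χ, h1, h3, h4⟩ := exists_two hne
    rw [hαβ] at h4
    refine ⟨χ, Fintype.card F + 1, h1, h3, hcop.mul_dvd_of_dvd_of_dvd h ?_, h4⟩
    have h5 : Fintype.card F + 1 = (Fintype.card F - 1) + 2 := by omega
    rw [h5]
    exact dvd_add (Nat.gcd_dvd_right _ _) (Nat.gcd_dvd_left _ _)

/-- **L-PSL** : `PSL_n(q)` at an odd prime `p ∤ q`. -/
theorem nb_psl {n : ℕ} {p : ℕ} (hp : p.Prime) (hp2 : p ≠ 2) (hpF : ¬ p ∣ Fintype.card F)
    (hd : p ∣ Nat.card (ProjectiveSpecialLinearGroup (Fin n) F)) (h : H60.MultA.Ok n (Nat.card F)) :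
    NBall p (ProjectiveSpecialLinearGroup (Fin n) F) := by
  obtain ⟨i, hi, hin, hpi⟩ := exists_exp h.two hp hpF hd
  refine nball_psl_of_gl h fun μ => ?_
  rcases Nat.lt_or_ge n 3 with hn | hn
  · have hn2 : n = 2 := by have := h.two; omega
    subst hn2
    refine exists_gl_two ?_ hp hp2 ?_ μ
    · rw [← Nat.card_eq_fintype_card]
      exact h.four rfl
    · interval_cases i
      · rw [pow_one] at hpi
        exact hpi.trans (by simpa only [_root_.one_pow] using Nat.sub_dvd_pow_sub_pow (Fintype.card F) 1 2)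
      · exact hpi
  · exact exists_gl hn hp hi hin hpi μ

open Cfsg.Agent.H325.RIM Cfsg.Agent.OrdDiv in
/-- the field `psl` of `H325.RIM.RowsNB` -/
theorem row_psl (p n q : ℕ) (hp : p.Prime) (hp2 : p ≠ 2) (hpq : ¬ p ∣ q)
    (hex : (n, q) ∉ ({(2, 4), (2, 9), (3, 2), (3, 4), (4, 2)} : Set (ℕ × ℕ))) : NBRow p (.psl n q) := by
  intro S _ _ hS hd
  obtain ⟨⟨F, _, _, hF, ⟨e⟩⟩, ⟨h2, h4, -⟩, -, -⟩ := hS
  subst hF
  rw [Nat.card_congr e.toEquiv] at hd
  refine NBall.congr e (nb_psl hp hp2 hpq hd ⟨h2, ?_, ?_⟩)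
  · rwa [Nat.card_eq_fintype_card]
  · rwa [Nat.card_eq_fintype_card]

end Cfsg.Agent.H46.RIM
end

-- part: H365/RIM/Sp
section
/-!
# S4816, RIM-L-PSP: `NBall p (PSp n F)`, `F` of odd characteristic `≠ p` (helper365)

* `nb_of_cover` : `NBall p S` from the characters of a perfect group `P` with trivial Schur multiplier over `S`;
* `exists_cus_neg` : cuspidal characters of `GL_k(K)`, not self-dual, with `-1` acting as `-1`;
* `sp_char_neg` : characters of `Sp_{2m}(K)` with `-1` acting as `-1`;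
* `nb_psp` : the row.
-/

set_option autoImplicit false

open scoped ComplexConjugate
open Cfsg

namespace Cfsg.Agent.H365.RIM

open Cfsg.Agent.H665.RIM Cfsg.Agent.Characters Module Cfsg.Agent.H53.HC Cfsg.Agent.H477.HC Cfsg.Agent.H139.Cusp

universe u v w

/-- **`NBall` from the universal cover**: `P` perfect with trivial Schur multiplier, a central extension of `S`; it is
enough to find, for the nontrivial linear characters `lam` of the kernel with image of order prime to `p`, an irreducible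
character over `lam` of degree divisible by `p`. -/
theorem nb_of_cover {P : Type v} [Group P] [Finite P] {S : Type u} [Group S] {p : ℕ} (hP : commutator P = ⊤)
    (hM : Cfsg.HasCyclicSchurMultiplier P 1) (π0 : P →* S) (hs : Function.Surjective π0)
    (h : ∀ lam : π0.ker →* ℂˣ, lam ≠ 1 → ¬ p ∣ Nat.card lam.range →
      ∃ χ : P → ℂ, IsIrrCharacter P χ ∧ (∀ z : π0.ker, χ z = χ 1 * lam z) ∧ p ∣ charDegree χ) : NBall p S := by
  intro m hm hpm E _ _ π hπ hker hperf hcard l hl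
  obtain ⟨η, hη⟩ := H487.exists_lift_of_trivial (P := P) ⟨hP⟩ hM π0 hπ hker
  have hηs : Function.Surjective η :=
    H60.CoverMult.surjective_of_comp hP hs (σ := π) ⟨hπ, hker, by rw [hperf]; exact le_top⟩ hη
  have hη' : ∀ x, π (η x) = π0 x := fun x => DFunLike.congr_fun hη x
  let r : π0.ker →* π.ker := (η.comp π0.ker.subtype).codRestrict π.ker (fun x => by
    rw [MonoidHom.mem_ker]
    show π (η x) = 1
    rw [hη']
    exact x.2)
  have hrs : Function.Surjective r := by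
    intro z
    obtain ⟨x, hx⟩ := hηs z
    have hx0 : x ∈ π0.ker := by
      rw [MonoidHom.mem_ker, ← hη', hx]
      exact z.2
    exact ⟨⟨x, hx0⟩, Subtype.ext hx⟩
  have hrange : (l.comp r).range = l.range := by
    rw [MonoidHom.range_comp, MonoidHom.range_eq_top.2 hrs, ← MonoidHom.range_eq_map]
  have hcl : Nat.card l.range = m := by
    rw [← hcard]
    exact (Nat.card_congr (MonoidHom.ofInjective hl).toEquiv).symm
  obtain ⟨χ, hχ, hχz, hχp⟩ := h (l.comp r) (by
    intro h1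
    have h2 : (l.comp r).range = ⊥ := by
      rw [h1]
      exact MonoidHom.range_one
    rw [hrange] at h2
    rw [h2, Subgroup.card_bot] at hcl
    omega) (by rw [hrange, hcl]; exact hpm)
  obtain ⟨η', hη1, hη2⟩ := exists_quot η.ker hχ (fun k hk => by
    have hk0 : k ∈ π0.ker := by
      rw [MonoidHom.mem_ker, ← hη', MonoidHom.mem_ker.1 hk, map_one]
    have h1 : χ k = χ 1 * ((l.comp r) ⟨k, hk0⟩ : ℂˣ) := hχz ⟨k, hk0⟩
    have h2 : r ⟨k, hk0⟩ = 1 := Subtype.ext (MonoidHom.mem_ker.1 hk)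
    rw [h1, MonoidHom.comp_apply, h2, map_one, Units.val_one, mul_one])
  let e : P ⧸ η.ker ≃* E := QuotientGroup.quotientKerEquivOfSurjective η hηs
  have he : ∀ x : P, e.symm (η x) = (x : P ⧸ η.ker) := by
    intro x
    rw [MulEquiv.symm_apply_eq]
    rfl
  have hval : ∀ x : P, (η' ∘ e.symm.toMonoidHom) (η x) = χ x := by
    intro x
    show η' (e.symm (η x)) = χ x
    rw [he, hη2]
  have hval1 : (η' ∘ e.symm.toMonoidHom) 1 = χ 1 := by
    have := hval 1
    rwa [map_one] at this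
  refine ⟨η' ∘ e.symm.toMonoidHom, Core.isIrr_comp e.symm.toMonoidHom e.symm.surjective hη1, ?_, ?_⟩
  · intro z
    obtain ⟨x, hx⟩ := hrs z
    have h1 : (z : E) = η x := by rw [← hx]; rfl
    rw [h1, hval, hval1, hχz x, MonoidHom.comp_apply, hx]
  · have h1 : charDegree (η' ∘ e.symm.toMonoidHom) = charDegree χ := by
      unfold charDegree
      rw [hval1]
    rw [h1]
    exact hχp

/-- cuspidal characters which are not self-dual, faithful on `-1` -/
theorem exists_cus_neg {K : Type u} [Field K] [Finite K] {q : ℕ} (hq : Nat.card K = q) (h2K : (2 : K) ≠ 0) (k : ℕ)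
    (hk : 0 < k) (h5 : 3 < q ^ k) : ∃ c : GL (Fin k) K → ℂ, Cus K k (RingHom.id K) (fun z => z = 1) c ∧
      c (Matrix.GeneralLinearGroup.scalar (Fin k) (-1)) = - c 1 := by
  classical
  have h2 : 2 < q := by
    have h3 : 1 < q := by rw [← hq]; exact Finite.one_lt_card
    rcases Nat.lt_or_ge 2 q with h | h
    · exact h
    · exfalso
      have h4 : q = 2 := by omega
      apply h2K
      let _ := Fintype.ofFinite K
      have h6 := FiniteField.cast_card_eq_zero K
      rw [← Nat.card_eq_fintype_card, hq, h4] at h6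
      exact_mod_cast h6
  have hreg : ∀ i, 0 < i → i < k → ¬ (Nat.card K ^ k - 1) ∣ 1 * (Nat.card K ^ i - 1) := by
    intro i hi hik h
    rw [hq, one_mul] at h
    have h1 : q ^ i < q ^ k := Nat.pow_lt_pow_right (by omega) hik
    have h3 : 1 < q ^ i := Nat.one_lt_pow hi.ne' (by omega)
    exact absurd (Nat.le_of_dvd (by omega) h) (by omega)
  have hdual : ∀ i, i < k → ¬ (Nat.card K ^ k - 1) ∣ 1 * Nat.card K ^ i + 1 := by
    intro i hik h
    rw [hq, one_mul] at h
    have h1 := Nat.le_of_dvd (by omega) h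
    rcases Nat.eq_zero_or_pos i with rfl | hi
    · rw [pow_zero] at h1 h
      omega
    · have h6 : q ^ i ≤ q ^ (k - 1) := Nat.pow_le_pow_right (by omega) (by omega)
      have h7 : q ^ k = q ^ (k - 1) * q := by rw [← pow_succ]; congr 1; omega
      have h8 : q ≤ q ^ (k - 1) := by
        calc q = q ^ 1 := (pow_one q).symm
          _ ≤ _ := Nat.pow_le_pow_right (by omega) (by omega)
      have h10 : q ^ (k - 1) * 3 ≤ q ^ (k - 1) * q := Nat.mul_le_mul_left _ h2
      omega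
  obtain ⟨L, _, _, _, hL⟩ := exists_L K k hk
  obtain ⟨θ, hθ⟩ := exists_theta L
  have hcardL : Nat.card Lˣ = Nat.card K ^ k - 1 := by
    rw [Nat.card_units, Module.natCard_eq_pow_finrank (K := K), hL]
  have hR : Regular K k (powTheta θ 1 one_ne_zero) := (regular_powTheta_iff hθ one_ne_zero hL).2 hreg
  refine ⟨psi L (powTheta θ 1 one_ne_zero), ⟨psi_isIrr _ hL hR, psi_isCusp L _, ?_, ?_, ?_⟩, ?_⟩
  · intro h
    have h1 : ∀ g : ((Fin k → K) →ₗ[K] (Fin k → K))ˣ,
        cusp L (powTheta θ 1 one_ne_zero) (g : (Fin k → K) →ₗ[K] (Fin k → K)) =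
        cusp L (conjTheta (powTheta θ 1 one_ne_zero)) (g : (Fin k → K) →ₗ[K] (Fin k → K)) := by
      intro g
      let A : GL (Fin k) K := Matrix.GeneralLinearGroup.toLin.symm g
      have h2 := congrFun h A
      have h3 : ((Matrix.GeneralLinearGroup.map (RingHom.id K)).comp (invT k)) A = invT k A := by
        ext i j
        rfl
      rw [Function.comp_apply, h3, psi_invT _ hL] at h2
      have h4 : psi L (powTheta θ 1 one_ne_zero) A =
          cusp L (powTheta θ 1 one_ne_zero) (g : (Fin k → K) →ₗ[K] (Fin k → K)) := by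
        have h5 : Matrix.GeneralLinearGroup.toLin A = g := MulEquiv.apply_symm_apply _ g
        rw [← h5]
        rfl
      rw [h4, cusp_star] at h2
      exact h2.symm
    obtain ⟨i, hi, h2⟩ := (cusp_eq_iff (V := Fin k → K) (powTheta θ 1 one_ne_zero)
      (conjTheta (powTheta θ 1 one_ne_zero)) (by rw [Module.finrank_fin_fun, hL]) (by rw [hL]; exact hR)).1 h1
    rw [hL] at hi
    have h3 := (conj_powTheta_eq_iff hθ one_ne_zero one_ne_zero (pow_ne_zero i (Nat.card_pos (α := K)).ne')).1 h2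
    rw [hcardL] at h3
    exact hdual i hi h3
  · rintro z rfl
    rw [map_one]
  · rw [psi_one L _ hk, degP_eq_Ico]
  · have h1 := psi_scalar (powTheta θ 1 one_ne_zero) hL (-1) 1
    rw [mul_one] at h1
    rw [h1, powTheta_apply, pow_one, Units.val_neg, Units.val_one, map_neg, map_one]
    have h3 : θ (-1) * θ (-1) = 1 := by rw [← map_mul, neg_one_mul, neg_neg, map_one]
    have h4 : θ (-1) ≠ 1 := by
      intro h
      rw [← map_one θ] at h
      have h6 := hθ h
      apply h2K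
      apply (algebraMap K L).injective
      rw [map_zero, map_ofNat]
      linear_combination (-1 : L) * h6
    rw [(mul_self_eq_one_iff.1 h3).resolve_left h4, neg_one_mul]

/-- the value at `-1` -/
theorem hc_neg {K : Type u} [Field K] {V : Type v} [AddCommGroup V] [Module K V] (F : CForm K V) {k : ℕ}
    [Fintype (F.Om k)] [FiniteDimensional K V] {c : GL (Fin k) K → ℂ} (hcl : IsClassFunction _ c)
    {z : F.iso} {a : Kˣ} (hz : ∀ v, (z : V ≃ₗ[K] V) v = (a : K) • v)
    (hca : c (Matrix.GeneralLinearGroup.scalar (Fin k) a) = - c 1) :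
    F.hc c (fun _ _ => 1) z = - F.hc c (fun _ _ => 1) 1 := by
  classical
  unfold CForm.hc
  rw [← Finset.sum_neg_distrib]
  refine Finset.sum_congr rfl fun W _ => ?_
  rw [mul_one, mul_one]
  have h : W.1.map (F.iso.subtype z : V →ₗ[K] V) = W.1 := map_eq_of_le F.iso.subtype fun w hw => by
    change (z : V ≃ₗ[K] V) w ∈ W.1
    rw [hz]; exact W.1.smul_mem _ hw
  have h' : W.1.map (F.iso.subtype 1 : V →ₗ[K] V) = W.1 := Submodule.map_id _
  rw [flagTerm_of F.iso.subtype c h, flagTerm_of F.iso.subtype c h', cl_eq hcl (finBasisOfFinrankEq K W.1 W.2.2)]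
  have e2 : res (F.iso.subtype 1) W.1 h' = 1 := by
    ext w
    rfl
  rw [e2, cl_one hcl (finBasisOfFinrankEq K W.1 W.2.2), ← hca]
  congr 1
  ext i j
  rw [coe_glE, LinearMap.toMatrix_apply]
  have e2 : (res (F.iso.subtype z) W.1 h : W.1 →ₗ[K] W.1) (finBasisOfFinrankEq K W.1 W.2.2 j) =
      (a : K) • (finBasisOfFinrankEq K W.1 W.2.2 j) := Subtype.ext (hz _)
  rw [e2, map_smul, Finsupp.smul_apply, Basis.repr_self, smul_eq_mul, Matrix.GeneralLinearGroup.coe_scalar,
    Matrix.scalar_apply, Matrix.diagonal_apply, Finsupp.single_apply]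
  by_cases hij : i = j
  · simp [hij]
  · rw [if_neg hij, if_neg (Ne.symm hij), mul_zero]

/-- characters of `Sp` with `-1` acting as `-1` -/
theorem sp_char_neg {K : Type u} [Field K] [Finite K] {k n : ℕ} {c : GL (Fin k) K → ℂ}
    (hc : Cus K k (RingHom.id K) (fun z => z = 1) c)
    (hcn : c (Matrix.GeneralLinearGroup.scalar (Fin k) (-1)) = - c 1) :
    ∃ χ : Matrix.symplecticGroup (Fin (k + n)) K → ℂ, IsIrrCharacter _ χ ∧
      χ 1 = (dg (CForm.spF K (k + n)) k : ℂ) ∧
      ∀ z : Matrix.symplecticGroup (Fin (k + n)) K, z.1 = -1 → χ z = - χ 1 := by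
  classical
  obtain ⟨p, hp⟩ := CharP.exists K
  have hpr : p.Prime := (CharP.char_is_prime_or_zero K p).resolve_right (CharP.char_ne_zero_of_finite K p)
  have : Fact p.Prime := ⟨hpr⟩
  obtain ⟨⟨W₀, hW₀⟩, -⟩ := CForm.spF_frame (K := K) (p := p) k n
  have := finite_Om (CForm.spF K (k + n)) k
  have := finite_iso (CForm.spF K (k + n))
  let _ := Fintype.ofFinite ((CForm.spF K (k + n)).Om k)
  let _ := Fintype.ofFinite (CForm.spF K (k + n)).iso
  have hcl := Core.isIrr_isClassFunction hc.irr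
  set χ : (CForm.spF K (k + n)).iso → ℂ := (CForm.spF K (k + n)).hc c (fun _ _ => 1) with hχd
  have hχ : IsIrrCharacter _ χ := (CForm.spF K (k + n)).isIrr_hc_one hc.irr hc.cusp hc.dual hW₀
  have hχ1 : χ 1 = (dg (CForm.spF K (k + n)) k : ℂ) := by
    rw [hχd, (CForm.spF K (k + n)).hc_one hcl (fun _ _ => 1) (d := 1) (fun _ _ => rfl), hc.deg, mul_one]
    unfold dg
    rw [Nat.cast_mul]
  have hfin : Finite (Matrix.symplecticGroup (Fin (k + n)) K) := inferInstance
  refine ⟨χ ∘ (isoSp (k + n) K).toMonoidHom,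
    Core.isIrr_comp (isoSp (k + n) K).toMonoidHom (isoSp (k + n) K).surjective hχ, ?_, ?_⟩
  · show χ (isoSp (k + n) K 1) = _
    rw [map_one, hχ1]
  · intro z hz
    show χ (isoSp (k + n) K z) = - χ (isoSp (k + n) K 1)
    rw [map_one]
    refine hc_neg (CForm.spF K (k + n)) hcl (a := -1) (fun v => ?_) hcn
    rw [isoSp_apply, hz, Matrix.neg_mulVec, Matrix.one_mulVec, Units.val_neg, Units.val_one, neg_one_smul]

/-- **Row RIM-L-PSP**: `PSp_2m(K)`, `K` of odd characteristic different from `r`. -/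
theorem exists_neg_dvd {K : Type u} [Field K] [Finite K] (h2K : (2 : K) ≠ 0) {m : ℕ} (hm : 2 ≤ m)
    {r : ℕ} (hr : r.Prime) (hrK : (r : K) ≠ 0) (hd : r ∣ Nat.card (PSp m K)) :
    ∃ χ : Matrix.symplecticGroup (Fin m) K → ℂ, IsIrrCharacter _ χ ∧
      (∀ z : Matrix.symplecticGroup (Fin m) K, z.1 = -1 → χ z = - χ 1) ∧ r ∣ charDegree χ := by
  classical
  obtain ⟨p, hpc⟩ := CharP.exists K
  have hp : p.Prime := (CharP.char_is_prime_or_zero K p).resolve_right (CharP.char_ne_zero_of_finite K p)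
  have : Fact p.Prime := ⟨hp⟩
  have hrp : r ≠ p := by
    rintro rfl
    exact hrK (CharP.cast_eq_zero K r)
  obtain ⟨s, hs⟩ := card_pow K p
  have hq3 : 3 ≤ Nat.card K := by
    have h3 : 1 < Nat.card K := Finite.one_lt_card
    by_contra h
    have h4 : Nat.card K = 2 := by omega
    apply h2K
    let _ := Fintype.ofFinite K
    have h6 := FiniteField.cast_card_eq_zero K
    rw [← Nat.card_eq_fintype_card, h4] at h6
    exact_mod_cast h6
  have hrq : ¬ r ∣ Nat.card K := by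
    rw [hs]; intro h; exact hrp ((Nat.prime_dvd_prime_iff_eq hr hp).1 (hr.dvd_of_dvd_pow h))
  have hpow : ∀ k, 2 ≤ k → 3 < Nat.card K ^ k := by
    intro k hk
    calc 3 < 3 ^ 2 := by norm_num
      _ ≤ Nat.card K ^ 2 := Nat.pow_le_pow_left hq3 2
      _ ≤ _ := Nat.pow_le_pow_right (by omega) hk
  have hdeg : ∀ {n : ℕ} {χ : Matrix.symplecticGroup (Fin n) K → ℂ} {d : ℕ}, χ 1 = (d : ℂ) → charDegree χ = d := by
    intro n χ d h
    unfold charDegree
    rw [h, Complex.natCast_re, Nat.floor_natCast]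
  -- `r` divides some factor
  have hd1 : r ∣ Nat.card (Matrix.symplecticGroup (Fin m) K) := hd.trans (Subgroup.card_quotient_dvd_card _)
  rw [Nat.card_congr (isoSp m K).toEquiv, card_spF] at hd1
  have hd2 : r ∣ ∏ i ∈ Finset.range m, (Nat.card K ^ (2 * (i + 1)) - 1) :=
    (hr.dvd_mul.1 hd1).resolve_left fun h => hrq (hr.dvd_of_dvd_pow h)
  by_cases hA : r ∣ (Nat.card K ^ m + 1) * ∏ i ∈ Finset.range (m - 1), (Nat.card K ^ (2 * (i + 1)) - 1)
  · obtain ⟨c, hc, hcn⟩ := exists_cus_neg (K := K) rfl h2K m (by omega) (hpow m hm)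
    obtain ⟨χ, hχ, hχ1, hχn⟩ := sp_char_neg (k := m) (n := 0) hc hcn
    obtain ⟨e, he⟩ := psp_dvd_top K (p := p) (m := m) (by omega)
    refine ⟨χ, hχ, hχn, ?_⟩
    rw [hdeg hχ1]
    have := prime_pow_dvd (t := 1) hr hp hrp (by rw [pow_one]; exact hA.trans he)
    rwa [pow_one] at this
  · have hA1 : ¬ r ∣ Nat.card K ^ m + 1 := fun h => hA (Dvd.dvd.mul_right h _)
    have hA2 : ∀ i, i < m - 1 → ¬ r ∣ Nat.card K ^ (2 * (i + 1)) - 1 := fun i hi h =>
      hA (Dvd.dvd.mul_left (h.trans (Finset.dvd_prod_of_mem (fun i => Nat.card K ^ (2 * (i + 1)) - 1)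
        (Finset.mem_range.2 hi))) _)
    have hB : r ∣ Nat.card K ^ (2 * m) - 1 := by
      obtain ⟨i, hi, hi'⟩ := (Prime.dvd_finsetProd_iff hr.prime _).1 hd2
      rw [Finset.mem_range] at hi
      rcases Nat.lt_or_ge i (m - 1) with h | h
      · exact absurd hi' (hA2 i h)
      · have : i + 1 = m := by omega
        rwa [this] at hi'
    have hB' : r ∣ Nat.card K ^ m - 1 := by
      have h4 : Nat.card K ^ (2 * m) - 1 = (Nat.card K ^ m + 1) * (Nat.card K ^ m - 1) := by
        rw [← Nat.sq_sub_sq, one_pow, ← pow_mul, mul_comm]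
      rw [h4] at hB
      exact (hr.dvd_mul.1 hB).resolve_left hA1
    have hm3 : 3 ≤ m := by
      by_contra h
      have hm2 : m = 2 := by omega
      have := hA2 0 (by omega)
      rw [hm2] at hB'
      exact this hB'
    obtain ⟨c, hc, hcn⟩ := exists_cus_neg (K := K) rfl h2K (m - 1) (by omega) (hpow (m - 1) (by omega))
    obtain ⟨χ, hχ, hχ1, hχn⟩ := sp_char_neg (k := m - 1) (n := 1) hc hcn
    obtain ⟨e, he⟩ := psp_dvd K (p := p) (k := m - 1) (n := 1) (by omega)
    have hm1 : m - 1 + 1 = m := by omega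
    have h6 : r ∣ p ^ e * (dg (CForm.spF K (m - 1 + 1)) (m - 1) * (Nat.card K ^ (m - 1) - 1)) := by
      refine Dvd.dvd.trans ?_ he
      refine Dvd.dvd.trans ?_ (Finset.dvd_prod_of_mem _ (Finset.mem_Ico.2 ⟨(by omega : 1 ≤ m - 1), by omega⟩))
      rw [hm1]
      exact hB
    have h7 : r ∣ dg (CForm.spF K (m - 1 + 1)) (m - 1) * (Nat.card K ^ (m - 1) - 1) := by
      have := prime_pow_dvd (t := 1) hr hp hrp (by rw [pow_one]; exact h6)
      rwa [pow_one] at this
    have h8 : ¬ r ∣ Nat.card K ^ (m - 1) - 1 := by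
      intro h
      apply hA2 (m - 2) (by omega)
      refine h.trans ?_
      have h9 : m - 2 + 1 = m - 1 := by omega
      rw [h9, mul_comm, pow_mul]
      simpa only [_root_.one_pow] using Nat.sub_dvd_pow_sub_pow (Nat.card K ^ (m - 1)) 1 2
    have h9 := (hr.dvd_mul.1 h7).resolve_right h8
    have h10 : ∃ χ : Matrix.symplecticGroup (Fin (m - 1 + 1)) K → ℂ, IsIrrCharacter _ χ ∧
        (∀ z : Matrix.symplecticGroup (Fin (m - 1 + 1)) K, z.1 = -1 → χ z = - χ 1) ∧ r ∣ charDegree χ :=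
      ⟨χ, hχ, hχn, by rw [hdeg hχ1]; exact h9⟩
    rwa [hm1] at h10

/-- **Row RIM-L-PSP** of S4816. -/
theorem nb_psp {S : Type u} [Group S] {F : Type w} [Field F] [Finite F] (h2F : (2 : F) ≠ 0) {n : ℕ} (hn : 2 ≤ n)
    (e : S ≃* PSp n F) {p : ℕ} (hp : p.Prime) (hpF : (p : F) ≠ 0) (hd : p ∣ Nat.card S) : NBall p S := by
  classical
  let _ := Fintype.ofFinite F
  have hq3 : 3 ≤ Fintype.card F := by
    have h3 : 1 < Fintype.card F := Fintype.one_lt_card
    by_contra h
    have h4 : Fintype.card F = 2 := by omega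
    apply h2F
    have h6 := FiniteField.cast_card_eq_zero F
    rw [h4] at h6
    exact_mod_cast h6
  have hperf := H62.SpMult.perfect_Sp (F := F) (m := n) hn (fun _ => hq3)
  have hM := H62.SpMult.hasTrivial_Sp (F := F) (m := n) hn (fun _ => hq3) (by omega)
  let π0 : Matrix.symplecticGroup (Fin n) F →* S :=
    e.symm.toMonoidHom.comp (QuotientGroup.mk' (Subgroup.center (Matrix.symplecticGroup (Fin n) F)))
  have hs : Function.Surjective π0 := e.symm.surjective.comp (QuotientGroup.mk'_surjective _)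
  have hker : ∀ x ∈ π0.ker, x ∈ Subgroup.center (Matrix.symplecticGroup (Fin n) F) := by
    intro x hx
    rw [MonoidHom.mem_ker] at hx
    have h1 : e.symm (QuotientGroup.mk' (Subgroup.center (Matrix.symplecticGroup (Fin n) F)) x) = 1 := hx
    rw [map_eq_one_iff _ e.symm.injective] at h1
    exact (QuotientGroup.eq_one_iff x).1 h1
  refine nb_of_cover hperf hM π0 hs ?_
  intro lam hlam _
  obtain ⟨χ, hχ, hχn, hχp⟩ := exists_neg_dvd h2F hn hp hpF (by
    rwa [Nat.card_congr e.toEquiv] at hd)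
  refine ⟨χ, hχ, ?_, hχp⟩
  -- the element `-1`
  have hcase : ∀ z : π0.ker, z = 1 ∨ ((z : Matrix.symplecticGroup (Fin n) F) : Matrix (Fin n ⊕ Fin n) (Fin n ⊕ Fin n) F) = -1 := by
    intro z
    rcases Cfsg.Agent.ClassicalGeometry.SympInvolutions.center_eq (hker z z.2) with h | h
    · left
      exact Subtype.ext (Subtype.ext h)
    · right
      exact h
  intro z
  rcases hcase z with h | h
  · rw [h, map_one, Units.val_one, mul_one]
    rfl
  · have hz2 : z * z = 1 := by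
      apply Subtype.ext
      apply Subtype.ext
      show ((z : Matrix.symplecticGroup (Fin n) F) : Matrix (Fin n ⊕ Fin n) (Fin n ⊕ Fin n) F) *
        ((z : Matrix.symplecticGroup (Fin n) F) : Matrix (Fin n ⊕ Fin n) (Fin n ⊕ Fin n) F) = 1
      rw [h, neg_mul_neg, one_mul]
    have h1 : lam z ≠ 1 := by
      intro h1
      apply hlam
      ext y
      rcases hcase y with h3 | h3
      · rw [h3, map_one, map_one]
      · have : y = z := Subtype.ext (Subtype.ext (h3.trans h.symm))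
        rw [this, h1]
        rfl
    have h3 : ((lam z : ℂˣ) : ℂ) = -1 := by
      have h4 : ((lam z : ℂˣ) : ℂ) * (lam z : ℂˣ) = 1 := by
        rw [← Units.val_mul, ← map_mul, hz2, map_one, Units.val_one]
      exact (mul_self_eq_one_iff.1 h4).resolve_left (fun h5 => h1 (Units.ext h5))
    rw [hχn z h, h3, mul_neg_one]

end Cfsg.Agent.H365.RIM
end

-- part: H916/RIM/U43
section
/-!
# S4816, row `U₄(3)`: `NBall 5` and `NBall 7` (helper916; good elements of helper309)

Six good classes (orders `1, 5, 7, 7, 4, 8`); `|C(5)| = 5`; `|C(7)| = 7`, `|N(7)| = 21`.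
-/

set_option autoImplicit false
set_option linter.style.haveILetI false
set_option linter.unusedSectionVars false

namespace Cfsg.Agent.H916.RIM.U43

open Subgroup Matrix Cfsg Cfsg.Agent.H80.Fpf Cfsg.Agent.H309.U43 Cfsg.Agent.H665.RIM
open Cfsg.Agent.LieClassical.HermSiegel Cfsg.Agent.LieClassical.SUBasic Cfsg.Agent.ClassicalGeometry.PSUAutBasic

open scoped commutatorElement

universe u

variable {F : Type} [Field F] [Fintype F]

/-- an element of order 5 with centralizer of order 5 -/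
theorem exists_r (hF : Fintype.card F = 3 ^ 2) : ∃ r : PSU 4 F 3, orderOf r = 5 ∧
    Nat.card (centralizer ({r} : Set (PSU 4 F 3))) = 5 := by
  haveI : Finite (PSU 4 F 3) := Quotient.finite _
  haveI : Fact (Nat.Prime 5) := ⟨Nat.prime_five⟩
  obtain ⟨R, hR5, hRc⟩ := Cfsg.Agent.H251.Small.selfcent5_u43 hF
  obtain ⟨r, hr⟩ := exists_prime_orderOf_dvd_card' (G := R) 5 (by rw [hR5])
  have hr' : orderOf (r : PSU 4 F 3) = 5 := by rw [orderOf_coe]; exact hr
  refine ⟨r, hr', ?_⟩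
  have h1 : centralizer ({(r : PSU 4 F 3)} : Set (PSU 4 F 3)) = R := by
    refine Eq.trans ?_ hRc
    have h2 : zpowers (r : PSU 4 F 3) = R := by
      apply Subgroup.eq_of_le_of_card_ge
      · rw [zpowers_le]; exact r.2
      · rw [Nat.card_zpowers, hr', hR5]
    ext x
    rw [mem_centralizer_singleton_iff, mem_centralizer_iff]
    constructor
    · intro hx g hg
      have hg' : g ∈ zpowers (r : PSU 4 F 3) := by rw [h2]; exact hg
      obtain ⟨k, rfl⟩ := hg'
      exact ((show Commute (r : PSU 4 F 3) x from hx.symm).zpow_left k).eq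
    · intro hx
      exact (hx _ r.2).symm
  rw [h1, hR5]

/-- an element of order 7 with its centralizer and normalizer -/
theorem exists_s (hF : Fintype.card F = 3 ^ 2) : ∃ s : PSU 4 F 3, orderOf s = 7 ∧
    Nat.card (centralizer ({s} : Set (PSU 4 F 3))) = 7 ∧
    Nat.card (normalizer ((zpowers s : Subgroup (PSU 4 F 3)) : Set (PSU 4 F 3))) = 3 * 7 := by
  haveI : Finite (PSU 4 F 3) := Quotient.finite _
  haveI : Fact (Nat.Prime 7) := ⟨by norm_num⟩
  have h9 : Fintype.card F = 9 := by rw [hF]; norm_num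
  have hcard : Nat.card (PSU 4 F 3) = 3265920 := Cfsg.Agent.H844.USeven.card_psu (by rw [hF]; norm_num)
  obtain ⟨s, hs⟩ := exists_prime_orderOf_dvd_card' (G := PSU 4 F 3) 7 (by rw [hcard]; norm_num)
  have h2 : Nat.card (zpowers s) = 7 := by rw [Nat.card_zpowers, hs]
  refine ⟨s, hs, ?_, ?_⟩
  · have h4 := Cfsg.Agent.H844.USeven.centralizer_eq h9 (zpowers s) h2
    have h5 : centralizer ({s} : Set (PSU 4 F 3)) = zpowers s := by
      refine Eq.trans ?_ h4
      ext y
      rw [mem_centralizer_singleton_iff, mem_centralizer_iff]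
      constructor
      · rintro hy _ ⟨j, rfl⟩
        exact ((show Commute s y from hy.symm).zpow_left j).eq
      · intro hy
        exact (hy _ (mem_zpowers _)).symm
    rw [h5, h2]
  · rw [Cfsg.Agent.H844.USeven.card_normalizer h9 (zpowers s) h2]

/-- **Six good classes.** -/
theorem list_zero (hF : Fintype.card F = 3 ^ 2) {L : Type} [Group L] [Finite L] {π : L →* PSU 4 F 3}
    (hπ : IsCover π) : GoodList π 6 := by
  classical
  haveI : IsSimpleGroup (PSU 4 F 3) := Cfsg.Agent.S0283.result hF 4 (by norm_num) (by norm_num)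
  haveI : Finite (PSU 4 F 3) := Quotient.finite _
  obtain ⟨r, hr', -⟩ := exists_r hF
  obtain ⟨s, hs, -⟩ := exists_s hF
  obtain ⟨g4, ht4, ho4⟩ := exists_four hF
  obtain ⟨g8, ht8, ho8⟩ := exists_eight hF
  -- lifts
  have hker : ∀ z : L, π z = 1 → z ^ 36 = 1 := by
    intro z hz
    obtain ⟨c, hc⟩ := multDvd hF L π hπ
    have h1 : (⟨z, hz⟩ : π.ker) ^ Nat.card π.ker = 1 := pow_card_eq_one'
    have h2 := congrArg Subtype.val h1
    rw [hc, pow_mul]
    change z ^ Nat.card π.ker = 1 at h2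
    rw [h2, one_pow]
  have liftodd : ∀ (g : PSU 4 F 3) (n : ℕ), g ^ n = 1 → 36 % n = 1 → ∃ x : L, π x = g ∧ x ^ n = 1 := by
    intro g n hg hn
    obtain ⟨x0, hx0⟩ := hπ.surj g
    refine ⟨x0 ^ 36, ?_, ?_⟩
    · rw [map_pow, hx0, pow_eq_pow_mod 36 hg, hn, pow_one]
    · rw [← pow_mul, mul_comm, pow_mul]
      exact hker _ (by rw [map_pow, hx0, hg])
  have lifttwo : ∀ (g : PSU 4 F 3), g ^ 8 = 1 → ∃ x : L, π x = g ∧ x ^ 2 ^ 5 = 1 := by
    intro g hg
    obtain ⟨x0, hx0⟩ := hπ.surj g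
    refine ⟨x0 ^ 9, ?_, ?_⟩
    · rw [map_pow, hx0, show 9 = 8 + 1 from rfl, pow_succ, hg, one_mul]
    · rw [← pow_mul, show 9 * 2 ^ 5 = 8 * 36 from rfl, pow_mul]
      exact hker _ (by rw [map_pow, hx0, hg])
  have hr5 : (r : PSU 4 F 3) ^ 5 = 1 := by rw [← hr', pow_orderOf_eq_one]
  have hs7 : s ^ 7 = 1 := by rw [← hs, pow_orderOf_eq_one]
  obtain ⟨x5, hx5, hx5'⟩ := liftodd r 5 hr5 rfl
  obtain ⟨x7, hx7, hx7'⟩ := liftodd s 7 hs7 rfl
  obtain ⟨x4, hx4, hx4'⟩ := lifttwo (pr 4 F 3 g4) (orderOf_dvd_iff_pow_eq_one.1 (by rw [ho4]; norm_num))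
  obtain ⟨x8, hx8, hx8'⟩ := lifttwo (pr 4 F 3 g8) (orderOf_dvd_iff_pow_eq_one.1 (by rw [ho8]))
  let hh : Fin 6 → L := ![1, x5, x7, x7⁻¹, x4, x8]
  have hord : ∀ i, orderOf (π (hh i)) = (![1, 5, 7, 7, 4, 8] : Fin 6 → ℕ) i := by
    intro i
    fin_cases i
    · change orderOf (π 1) = 1
      rw [map_one, orderOf_one]
    · change orderOf (π x5) = 5
      rw [hx5, hr']
    · change orderOf (π x7) = 7
      rw [hx7, hs]
    · change orderOf (π x7⁻¹) = 7
      rw [map_inv, orderOf_inv, hx7, hs]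
    · change orderOf (π x4) = 4
      rw [hx4, ho4]
    · change orderOf (π x8) = 8
      rw [hx8, ho8]
  refine ⟨hh, ?_, ?_⟩
  · intro i y hy
    fin_cases i
    · change ⁅(1 : L), y⁆ = 1
      exact commutatorElement_one_left y
    · exact good_odd hF hπ (n := 5) (by norm_num) hx5' y hy
    · exact good_odd hF hπ (n := 7) (by norm_num) hx7' y hy
    · exact good_odd hF hπ (n := 7) (by norm_num) (g := x7⁻¹) (by rw [inv_pow, hx7', inv_one]) y hy
    · exact good_two hF hπ hx4' hx4.symm ht4 y hy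
    · exact good_two hF hπ hx8' hx8.symm ht8 y hy
  · intro i j hij
    have h1 : orderOf (π (hh i)) = orderOf (π (hh j)) := by
      obtain ⟨c, hc⟩ := isConj_iff.1 hij
      rw [← hc]
      exact (orderOf_injective (MulAut.conj c).toMonoidHom (MulAut.conj c).injective _).symm
    rw [hord, hord] at h1
    have h2 : ¬ (i = 2 ∧ j = 3) := by
      rintro ⟨rfl, rfl⟩
      apply not_conj_inv hF hs
      change IsConj (π x7) (π x7⁻¹) at hij
      rwa [map_inv, hx7] at hij
    have h3 : ¬ (i = 3 ∧ j = 2) := by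
      rintro ⟨rfl, rfl⟩
      apply not_conj_inv hF hs
      change IsConj (π x7⁻¹) (π x7) at hij
      rw [map_inv, hx7] at hij
      exact hij.symm
    revert h1 h2 h3
    clear hij
    revert i j
    decide

/-- the same in every universe -/
theorem list_univ (hF : Fintype.card F = 3 ^ 2) {S : Type u} [Group S] (e : S ≃* PSU 4 F 3)
    {E : Type u} [Group E] [Finite E] {π : E →* S} (hs : Function.Surjective π) (hc : π.ker ≤ center E)
    (hp : commutator E = ⊤) : GoodList π 6 := by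
  obtain ⟨L, _, _, ⟨f⟩⟩ := Finite.exists_type_univ_nonempty_mulEquiv.{u, 0} E
  have hfin : Finite L := Finite.of_equiv _ f.toEquiv
  let π' : L →* PSU 4 F 3 := (e.toMonoidHom.comp π).comp f.symm.toMonoidHom
  have hk : ∀ x : L, x ∈ π'.ker ↔ f.symm x ∈ π.ker := by
    intro x
    rw [MonoidHom.mem_ker, MonoidHom.mem_ker]
    change e (π (f.symm x)) = 1 ↔ _
    rw [MulEquiv.map_eq_one_iff]
  have hπ' : IsCover π' := by
    refine ⟨?_, ?_, ?_⟩
    · intro y
      obtain ⟨x, hx⟩ := hs (e.symm y)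
      refine ⟨f x, ?_⟩
      change e (π (f.symm (f x))) = y
      rw [f.symm_apply_apply, hx, e.apply_symm_apply]
    · intro x hx
      rw [mem_center_iff]
      intro y
      apply f.symm.injective
      rw [map_mul, map_mul]
      exact mem_center_iff.1 (hc ((hk x).1 hx)) _
    · have h1 : (commutator E).map f.toMonoidHom = commutator L := by
        rw [commutator_def, commutator_def, Subgroup.map_commutator, ← MonoidHom.range_eq_map,
          MonoidHom.range_eq_top.2 f.surjective]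
      rw [← h1, hp, ← MonoidHom.range_eq_map]
      exact MonoidHom.range_eq_top.2 f.surjective
  obtain ⟨g, hg, hnc⟩ := list_zero hF hπ'
  refine ⟨fun i => f.symm (g i), ?_, ?_⟩
  · intro i y hy
    have h1 : f.symm ⁅g i, f y⁆ = ⁅f.symm (g i), y⁆ := by
      rw [map_commutatorElement, f.symm_apply_apply]
    rw [← h1, hg i (f y) ((hk _).2 (by rw [h1]; exact hy)), map_one]
  · intro i j hij
    apply hnc
    obtain ⟨c, hc⟩ := isConj_iff.1 hij
    refine isConj_iff.2 ⟨e c, ?_⟩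
    change e c * e (π (f.symm (g i))) * (e c)⁻¹ = e (π (f.symm (g j)))
    rw [← hc, map_mul, map_mul, map_inv]

/-- **Row `U₄(3)`, `p = 5`.** -/
theorem row_five (hF : Fintype.card F = 3 ^ 2) {S : Type u} [Group S] (e : S ≃* PSU 4 F 3) : NBall 5 S := by
  intro m _ hm
  obtain ⟨r, hr, hrc⟩ := exists_r hF
  refine nb_col (n := 6) (k := 1) (y := e.symm r) Nat.prime_five hm ?_ ?_ ?_
  · rw [pow_one, ← hr]
    exact orderOf_injective e.symm.toMonoidHom e.symm.injective r
  · intro E _ _ π h1 h2 h3 _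
    exact list_univ hF e h1 h2 h3
  · rw [H620.RIM.card_centralizer_congr e.symm r, hrc]
    norm_num

/-- **Row `U₄(3)`, `p = 7`.** -/
theorem row_seven (hF : Fintype.card F = 3 ^ 2) {S : Type u} [Group S] (e : S ≃* PSU 4 F 3) : NBall 7 S := by
  intro m _ hm
  obtain ⟨s, hs, hsc, hsn⟩ := exists_s hF
  have hcard : Nat.card (PSU 4 F 3) = 3265920 := Cfsg.Agent.H844.USeven.card_psu (by rw [hF]; norm_num)
  refine nb_dz (n := 6) (w := 3) (y := e.symm s) (by norm_num) hm ?_ ?_ ?_ ?_ ?_ (by norm_num)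
  · rw [Nat.card_congr e.toEquiv, hcard]
    norm_num
  · rw [← hs]
    exact orderOf_injective e.symm.toMonoidHom e.symm.injective s
  · rw [H620.RIM.card_centralizer_congr e.symm s, hsc]
  · rw [H620.RIM.card_normalizer_congr e.symm s, hsn]
  · intro E _ _ π h1 h2 h3 _
    exact list_univ hF e h1 h2 h3

end Cfsg.Agent.H916.RIM.U43
end

-- part: H243/RIM/SzEight
section
/-!
# S4816, RIM-X-SZ8: `Sz(8)` (helper243)

* `nball` : `NBall p S`, `p = 5, 7, 13`, `S ≅ Sz(8)`.
-/

set_option autoImplicit false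
set_option linter.unusedSectionVars false

namespace Cfsg.Agent.H243.RIM.Sz8

open Subgroup Cfsg.Agent.H665.RIM Cfsg.Agent.H243.RIM Cfsg.Agent.H622.Over
open Cfsg.Agent.H849.RIM (exists_dz_quot)

universe u v

/-- the order and the spectrum -/
structure SzNum (Q : Type*) [Group Q] : Prop where
  card : Nat.card Q = 29120
  spec : ∀ g : Q, g ^ 4 = 1 ∨ g ^ 5 = 1 ∨ g ^ 7 = 1 ∨ g ^ 13 = 1

theorem SzNum.congr {Q Q' : Type*} [Group Q] [Group Q'] (e : Q ≃* Q') (h : SzNum Q) : SzNum Q' where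
  card := by rw [← Nat.card_congr e.toEquiv, h.card]
  spec g := by
    have key : ∀ n, e.symm g ^ n = 1 → g ^ n = 1 := fun n hn => by
      have := congrArg e hn
      rwa [map_pow, e.apply_symm_apply, map_one] at this
    rcases h.spec (e.symm g) with h1 | h1 | h1 | h1
    · exact Or.inl (key _ h1)
    · exact Or.inr (Or.inl (key _ h1))
    · exact Or.inr (Or.inr (Or.inl (key _ h1)))
    · exact Or.inr (Or.inr (Or.inr (key _ h1)))

theorem szNum {F : Type*} [Field F] [Fintype F] (hF : Fintype.card F = 8) : SzNum (Cfsg.Sz F 1) := by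
  have hF3 : Fintype.card F = 2 ^ (2 * 1 + 1) := by rw [hF]; norm_num
  refine ⟨?_, ?_⟩
  · rw [Cfsg.Agent.S0324.result le_rfl hF3]
    norm_num
  · intro g
    by_cases h1 : g = 1
    · exact Or.inl (by rw [h1, one_pow])
    obtain ⟨W, ⟨hW, hgW⟩, -⟩ := Cfsg.Agent.S2238.result le_rfl hF3 g h1
    rcases hW with ⟨P, rfl⟩ | ⟨-, hW⟩
    · left
      have h2 := (Cfsg.Agent.S0330.result le_rfl hF3 P).2.1
      have h3 := Monoid.pow_exponent_eq_one (G := (P : Subgroup (Cfsg.Sz F 1))) ⟨g, hgW⟩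
      rw [h2] at h3
      exact congrArg Subtype.val h3
    · have h3 : (⟨g, hgW⟩ : W) ^ Nat.card W = 1 := pow_card_eq_one'
      have h4 : g ^ Nat.card W = 1 := congrArg Subtype.val h3
      rcases hW with hW | hW | hW
      · rw [hW] at h4
        exact Or.inr (Or.inr (Or.inl h4))
      · rw [hW] at h4
        exact Or.inr (Or.inr (Or.inr h4))
      · rw [hW] at h4
        exact Or.inr (Or.inl h4)

theorem szNum' {F : Type*} [Field F] [Fintype F] (hF : Fintype.card F = 8) : SzNum ↥(Cfsg.Lie.Sz F 4) := by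
  obtain ⟨e⟩ := Cfsg.Agent.OddCyclic.ClaimC.SzIso.iso (F := F) (m := 1) le_rfl (by rw [hF]; norm_num)
  exact (szNum hF).congr e

section num

variable {Q : Type*} [Group Q] [Finite Q] (h : SzNum Q)
include h

theorem no_order {p : ℕ} [hp : Fact p.Prime] (hp2 : p ≠ 2) (g : Q) (q : ℕ) (hq : q.Prime) (hqp : q ≠ p) :
    orderOf g ≠ p * q := by
  intro ho
  have hpp : p.Prime := hp.out
  have key : ∀ r : ℕ, r.Prime → g ^ r = 1 → False := by
    intro r hr hg
    have h1 := orderOf_dvd_of_pow_eq_one hg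
    rw [ho] at h1
    have h2 : p = r := (Nat.prime_dvd_prime_iff_eq hpp hr).1 ((dvd_mul_right p q).trans h1)
    have h3 : q = r := (Nat.prime_dvd_prime_iff_eq hq hr).1 ((dvd_mul_left q p).trans h1)
    exact hqp (h3.trans h2.symm)
  rcases h.spec g with h1 | h1 | h1 | h1
  · have h2 := orderOf_dvd_of_pow_eq_one h1
    rw [ho] at h2
    have h3 : p ∣ 2 ^ 2 := (dvd_mul_right p q).trans h2
    exact hp2 ((Nat.prime_dvd_prime_iff_eq hpp Nat.prime_two).1 (hpp.dvd_of_dvd_pow h3))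
  · exact key 5 (by norm_num) h1
  · exact key 7 (by norm_num) h1
  · exact key 13 (by norm_num) h1

/-- the data of the element of order `p` -/
theorem exists_elt {p : ℕ} [hp : Fact p.Prime] (hp2 : p ≠ 2) (h1 : p ∣ 29120) (h2 : ¬ p ^ 2 ∣ 29120) :
    ∃ y : Q, orderOf y = p ∧ Nat.card (centralizer ({y} : Set Q)) = p * 1 ∧
      ∃ w m : ℕ, w ∣ p - 1 ∧ Nat.card (normalizer ((zpowers y : Subgroup Q) : Set Q)) = w * (p * 1) ∧
      29120 = m * (w * (p * 1)) ∧ m % p = 1 := by
  obtain ⟨y, hy⟩ := exists_prime_orderOf_dvd_card' (G := Q) p (by rw [h.card]; exact h1)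
  have h3 : Nat.card (centralizer ({y} : Set Q)) = p * 1 := by
    rw [mul_one]
    exact card_centralizer hy (by rw [h.card]; exact h2) fun g q hq hqp => no_order h hp2 g q hq hqp
  exact ⟨y, hy, h3, exists_w h.card h2 hy h3⟩

theorem elt5 : ∃ y : Q, orderOf y = 5 ∧ Nat.card (centralizer ({y} : Set Q)) = 5 * 1 ∧
    Nat.card (normalizer ((zpowers y : Subgroup Q) : Set Q)) = 4 * (5 * 1) := by
  have : Fact (Nat.Prime 5) := ⟨by norm_num⟩
  obtain ⟨y, h1, h2, w, m, h3, h4, h5, h6⟩ := exists_elt h (p := 5) (by norm_num) (by norm_num) (by norm_num)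
  refine ⟨y, h1, h2, ?_⟩
  have h7 : w = 4 := by
    have h8 : w ≤ 4 := Nat.le_of_dvd (by norm_num) h3
    interval_cases w <;> (clear * - h3 h6 h5; omega)
  rw [h4, h7]

theorem elt7 : ∃ y : Q, orderOf y = 7 ∧ Nat.card (centralizer ({y} : Set Q)) = 7 * 1 ∧
    Nat.card (normalizer ((zpowers y : Subgroup Q) : Set Q)) = 2 * (7 * 1) := by
  have : Fact (Nat.Prime 7) := ⟨by norm_num⟩
  obtain ⟨y, h1, h2, w, m, h3, h4, h5, h6⟩ := exists_elt h (p := 7) (by norm_num) (by norm_num) (by norm_num)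
  refine ⟨y, h1, h2, ?_⟩
  have h7 : w = 2 := by
    have h8 : w ≤ 6 := Nat.le_of_dvd (by norm_num) h3
    interval_cases w <;> (clear * - h3 h6 h5; omega)
  rw [h4, h7]

theorem elt13 : ∃ y : Q, orderOf y = 13 ∧ Nat.card (centralizer ({y} : Set Q)) = 13 * 1 ∧
    Nat.card (normalizer ((zpowers y : Subgroup Q) : Set Q)) = 4 * (13 * 1) := by
  have : Fact (Nat.Prime 13) := ⟨by norm_num⟩
  obtain ⟨y, h1, h2, w, m, h3, h4, h5, h6⟩ := exists_elt h (p := 13) (by norm_num) (by norm_num) (by norm_num)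
  refine ⟨y, h1, h2, ?_⟩
  have h7 : w = 4 := by
    have h8 : w ≤ 12 := Nat.le_of_dvd (by norm_num) h3
    interval_cases w <;> (clear * - h3 h6 h5; omega)
  rw [h4, h7]

/-- eight classes of elements of odd order -/
theorem exists_classes [DecidableEq (ConjClasses Q)] : ∃ F : Finset (ConjClasses Q), F.card = 8 ∧
    ∀ C ∈ F, ∃ g : Q, ConjClasses.mk g = C ∧ (orderOf g).Coprime 2 := by
  have : Fact (Nat.Prime 5) := ⟨by norm_num⟩
  have : Fact (Nat.Prime 7) := ⟨by norm_num⟩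
  have : Fact (Nat.Prime 13) := ⟨by norm_num⟩
  obtain ⟨a, a1, a2, a3⟩ := elt5 h
  obtain ⟨b, b1, b2, b3⟩ := elt7 h
  obtain ⟨c, c1, c2, c3⟩ := elt13 h
  obtain ⟨A1, A2⟩ := card_image_pow a1 (w := 4) (by rw [a3, a2]) {1} (by decide) (by decide)
  obtain ⟨B1, B2⟩ := card_image_pow b1 (w := 2) (by rw [b3, b2]) {1, 2, 3} (by decide) (by decide)
  obtain ⟨C1, C2⟩ := card_image_pow c1 (w := 4) (by rw [c3, c2]) {1, 2, 4} (by decide) (by decide)
  let Fn : ℕ → Finset (ConjClasses Q) := fun n =>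
    if n = 1 then {ConjClasses.mk 1} else if n = 5 then Finset.image (fun i => ConjClasses.mk (a ^ i)) {1}
    else if n = 7 then Finset.image (fun i => ConjClasses.mk (b ^ i)) {1, 2, 3}
    else Finset.image (fun i => ConjClasses.mk (c ^ i)) {1, 2, 4}
  have hFn : ∀ n ∈ ({1, 5, 7, 13} : Finset ℕ), ∀ C ∈ Fn n, ∃ g : Q, ConjClasses.mk g = C ∧ orderOf g = n := by
    intro n hn
    simp only [Finset.mem_insert, Finset.mem_singleton] at hn
    rcases hn with rfl | rfl | rfl | rfl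
    · intro C hC
      have hC' : C ∈ ({ConjClasses.mk 1} : Finset (ConjClasses Q)) := hC
      exact ⟨1, (Finset.mem_singleton.1 hC').symm, orderOf_one⟩
    · exact A2
    · exact B2
    · exact C2
  refine ⟨({1, 5, 7, 13} : Finset ℕ).biUnion Fn, ?_, ?_⟩
  · rw [card_biUnion _ _ hFn]
    have e1 : (Fn 1).card = 1 := Finset.card_singleton _
    have e2 : (Fn 5).card = 1 := A1
    have e3 : (Fn 7).card = 3 := B1
    have e4 : (Fn 13).card = 3 := C1
    rw [Finset.sum_insert (by decide), Finset.sum_insert (by decide), Finset.sum_insert (by decide),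
      Finset.sum_singleton, e1, e2, e3, e4]
    rfl
  · intro C hC
    obtain ⟨n, hn, hC'⟩ := Finset.mem_biUnion.1 hC
    obtain ⟨g, hg, ho⟩ := hFn n hn C hC'
    refine ⟨g, hg, ?_⟩
    rw [ho]
    simp only [Finset.mem_insert, Finset.mem_singleton] at hn
    rcases hn with rfl | rfl | rfl | rfl <;> decide

end num

/-- a central extension with kernel of order two -/
theorem exists_dvd {E : Type u} [Group E] [Finite E] {Z : Subgroup E} [Z.Normal] (hZ : Z ≤ center E)
    (hZ2 : Nat.card Z = 2) (h : SzNum (E ⧸ Z)) (c : Z →* ℂˣ) {p : ℕ} (hp : p = 5 ∨ p = 7 ∨ p = 13) :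
    ∃ χ : IrrCharacter E, Lies Z c (χ : E → ℂ) ∧ p ∣ charDegree (χ : E → ℂ) := by
  classical
  obtain ⟨F, hF, hF'⟩ := exists_classes h
  rw [← hZ2] at hF'
  rcases hp with rfl | rfl | rfl
  · have : Fact (Nat.Prime 5) := ⟨by norm_num⟩
    obtain ⟨y, h1, h2, h3⟩ := elt5 h
    exact exists_dz_quot hZ (by rw [hZ2]; norm_num) (by rw [h.card]; norm_num) h1 h2 h3 c F hF' (by rw [hF]; norm_num)
  · have : Fact (Nat.Prime 7) := ⟨by norm_num⟩
    obtain ⟨y, h1, h2, h3⟩ := elt7 h
    exact exists_dz_quot hZ (by rw [hZ2]; norm_num) (by rw [h.card]; norm_num) h1 h2 h3 c F hF' (by rw [hF]; norm_num)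
  · have : Fact (Nat.Prime 13) := ⟨by norm_num⟩
    obtain ⟨y, h1, h2, h3⟩ := elt13 h
    exact exists_dz_quot hZ (by rw [hZ2]; norm_num) (by rw [h.card]; norm_num) h1 h2 h3 c F hF' (by rw [hF]; norm_num)

/-- **Row `Sz(8)`.** -/
theorem nball {S : Type u} [Group S] [Finite S] {F : Type v} [Field F] [Fintype F] (hF : Fintype.card F = 8)
    (e : S ≃* ↥(Cfsg.Lie.Sz F 4)) {p : ℕ} (hp : p = 5 ∨ p = 7 ∨ p = 13) : NBall p S := by
  intro m hm _ E _ _ π hπ hπc hE hk l hl
  -- the kernel has order two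
  have hm2 : m = 2 := by
    have hπ' : Function.Surjective (e.toMonoidHom.comp π) := e.surjective.comp hπ
    have hker : (e.toMonoidHom.comp π).ker = π.ker := by
      ext x
      rw [MonoidHom.mem_ker, MonoidHom.mem_ker]
      show e (π x) = 1 ↔ π x = 1
      rw [map_eq_one_iff e e.injective]
    obtain ⟨f, hf⟩ := Cfsg.Agent.H95.StemCover.exists_surj_ker (Cfsg.Agent.S2112.result hF) hE (e.toMonoidHom.comp π) hπ'
      (by rw [hker]; exact hπc)
    have hsq : ∀ z : π.ker, z * z = 1 := by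
      intro z
      obtain ⟨a, ha⟩ := hf ⟨z, by rw [hker]; exact z.2⟩
      have h1 : f (a * a) = 1 := by
        have h2 : ∀ a : Multiplicative (ZMod 2 × ZMod 2), a * a = 1 := by decide
        rw [h2, map_one]
      rw [map_mul, ha] at h1
      have h2 := congrArg Subtype.val h1
      exact Subtype.ext h2
    have hl2 : ∀ z : π.ker, (l z : ℂ) = 1 ∨ (l z : ℂ) = -1 := by
      intro z
      have h1 : (l z : ℂ) * (l z : ℂ) = 1 := by
        rw [← Units.val_mul, ← map_mul, hsq, map_one, Units.val_one]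
      exact mul_self_eq_one_iff.1 h1
    classical
    let g : π.ker → Bool := fun z => decide ((l z : ℂ) = 1)
    have hg : Function.Injective g := by
      intro a b hab
      apply hl
      apply Units.ext
      have h1 : ((l a : ℂ) = 1) ↔ ((l b : ℂ) = 1) := by
        have := hab
        simp only [g, decide_eq_decide] at this
        exact this
      rcases hl2 a with h2 | h2
      · rw [h2, h1.1 h2]
      · rcases hl2 b with h3 | h3
        · rw [h3, h1.2 h3]
        · rw [h2, h3]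
    have h1 := Nat.card_le_card_of_injective g hg
    rw [hk, Nat.card_eq_fintype_card, Fintype.card_bool] at h1
    omega
  subst hm2
  have h1 : SzNum (E ⧸ π.ker) :=
    (szNum' hF).congr ((QuotientGroup.quotientKerEquivOfSurjective π hπ).trans e).symm
  obtain ⟨χ, h2, h3⟩ := exists_dvd hπc hk h1 l hp
  refine ⟨χ, χ.2, fun z => ?_, h3⟩
  have h4 := h2 1 z
  rwa [one_mul] at h4

end Cfsg.Agent.H243.RIM.Sz8
end

-- part: H795/RIM/G23
section
/-!
# S4816: `G₂(3)`, the primes 7 and 13 (helper795)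

Nine classes of elements of order prime to 3; `|C(7A)| = 7 < 9`; `|C(13A)| = 13`, `|N(13A)| = 6 · 13` and
`6 ^ 2 + 12 < 6 * 9`.
-/

set_option autoImplicit false
set_option maxRecDepth 100000
set_option Elab.async false

namespace Cfsg.Agent.H795.RIM.G23

open Cfsg Subgroup
open Cfsg.Agent.H347.HX Cfsg.Agent.H347.HX.G23
open Cfsg.Agent.H620.RIM Cfsg.Agent.H665.RIM

universe u v

/-- the nine classes -/
noncomputable def L9 : List (A × Cl) := [
  (ev s (wr []), c0),
  (ev s (wr [4, 1]), c1),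
  (ev s (wr [1, 0]), c7),
  (ev s (wr [4, 0]), c8),
  (ev s (wr [1, 5, 1]), c13),
  (ev s (wr [4, 5, 1]), c14),
  (ev s (wr [5, 3, 4]), c15),
  (ev s (wr [5, 1]), c21),
  (ev s (wr [5, 4]), c22)]

theorem L9_Rp : ∀ p ∈ L9, Rp p.2.X p.1 := by
  intro p hp
  simp only [L9, List.mem_cons, List.not_mem_nil, or_false] at hp
  rcases hp with rfl | rfl | rfl | rfl | rfl | rfl | rfl | rfl | rfl
  exacts [Rp.of_tb rp_s t0, Rp.of_tb rp_s t1, Rp.of_tb rp_s t7, Rp.of_tb rp_s t8, Rp.of_tb rp_s t13,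
    Rp.of_tb rp_s t14, Rp.of_tb rp_s t15, Rp.of_tb rp_s t21, Rp.of_tb rp_s t22]

theorem L9_key : (L9.map fun p => ts.map (cnc 364 co p.2.X)).Nodup := by
  show [ts.map (cnc 364 co c0.X), ts.map (cnc 364 co c1.X), ts.map (cnc 364 co c7.X), ts.map (cnc 364 co c8.X),
    ts.map (cnc 364 co c13.X), ts.map (cnc 364 co c14.X), ts.map (cnc 364 co c15.X), ts.map (cnc 364 co c21.X),
    ts.map (cnc 364 co c22.X)].Nodup
  rw [k0, k1, k7, k8, k13, k14, k15, k21, k22]
  decide

/-- Different keys: not conjugate. -/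
theorem pairwise_of_key {n : ℕ} {co : ℕ → ℕ → ℕ} (T : List Ct) (L : List (↥(Aut n co) × Cl))
    (hX : ∀ p ∈ L, Rp p.2.X p.1) (hd : (L.map fun p => T.map (cnc n co p.2.X)).Nodup) :
    (L.map Prod.fst).Pairwise fun a b => ¬ IsConj a b := by
  rw [List.pairwise_map]
  rw [List.Nodup, List.pairwise_map] at hd
  refine hd.imp_of_mem ?_
  intro p q hp hq hne hc
  apply hne
  apply List.map_congr_left
  intro t _
  rw [← cn_eq (hX p hp) t, ← cn_eq (hX q hq) t]
  exact cn_isConj t hc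

theorem L9_pw : (L9.map Prod.fst).Pairwise fun a b => ¬ IsConj a b := pairwise_of_key ts L9 L9_Rp L9_key

/-- the exponent check -/
def xp (X : ℕ → ℕ) (k : ℕ) : Bool := alb 364 fun q => Nat.beq (it X k q) q

theorem x0 : xp c0.X 1 = true := by decide +kernel
theorem x1 : xp c1.X 2 = true := by decide +kernel
theorem x7 : xp c7.X 4 = true := by decide +kernel
theorem x8 : xp c8.X 4 = true := by decide +kernel
theorem x13 : xp c13.X 7 = true := by decide +kernel
theorem x14 : xp c14.X 8 = true := by decide +kernel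
theorem x15 : xp c15.X 8 = true := by decide +kernel
theorem x21 : xp c21.X 13 = true := by decide +kernel
theorem x22 : xp c22.X 13 = true := by decide +kernel

theorem coprime_of {X : ℕ → ℕ} {x : A} (hX : Rp X x) {k : ℕ} (h : xp X k = true) (hk : k.Coprime 3) :
    (orderOf x).Coprime 3 :=
  Nat.Coprime.of_dvd_left (orderOf_dvd_of_pow_eq_one (pow_eq_one_of hX h)) hk

theorem L9_cop : ∀ g ∈ L9.map Prod.fst, (orderOf g).Coprime 3 := by
  intro g hg
  obtain ⟨p, hp, rfl⟩ := List.mem_map.1 hg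
  have hR := L9_Rp p hp
  simp only [L9, List.mem_cons, List.not_mem_nil, or_false] at hp
  rcases hp with rfl | rfl | rfl | rfl | rfl | rfl | rfl | rfl | rfl
  exacts [coprime_of hR x0 (by decide), coprime_of hR x1 (by decide), coprime_of hR x7 (by decide),
    coprime_of hR x8 (by decide), coprime_of hR x13 (by decide), coprime_of hR x14 (by decide),
    coprime_of hR x15 (by decide), coprime_of hR x21 (by decide), coprime_of hR x22 (by decide)]

theorem L9_good : ∀ g ∈ L9.map Prod.fst, MGood 3 g := fun g hg => mGood_of_coprime (L9_cop g hg)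

theorem L9_len : (L9.map Prod.fst).length = 9 := by simp [L9]

/-- the element of order 7 -/
noncomputable def y7 : A := ev s (wr [1, 5, 1])

/-- the element of order 13 -/
noncomputable def y13 : A := ev s (wr [5, 1])

theorem ne_one {X : ℕ → ℕ} {x : A} (hX : Rp X x) (p : Fin 364) (h : Nat.beq (X p) p = false) : x ≠ 1 := by
  rintro rfl
  have h1 := hX p
  rw [← h1] at h
  have h2 : Nat.beq (p : ℕ) p = false := h
  rw [Nat.beq_refl] at h2
  cases h2

theorem o7 : orderOf y7 = 7 := by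
  have : Fact (Nat.Prime 7) := ⟨by norm_num⟩
  exact orderOf_eq_prime (pow_eq_one_of (Rp.of_tb rp_s t13) x13) (ne_one (Rp.of_tb rp_s t13) 0 (by decide +kernel))

theorem o13 : orderOf y13 = 13 := by
  have : Fact (Nat.Prime 13) := ⟨by norm_num⟩
  exact orderOf_eq_prime (pow_eq_one_of (Rp.of_tb rp_s t21) x21) (ne_one (Rp.of_tb rp_s t21) 0 (by decide +kernel))

theorem cy7 : Nat.card (centralizer ({y7} : Set A)) ≤ 7 := (card_le (Rp.of_tb rp_s t13) hbase r13).trans (by decide +kernel)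

theorem cy13 : Nat.card (centralizer ({y13} : Set A)) = 13 := by
  refine le_antisymm ((card_le (Rp.of_tb rp_s t21) hbase r21).trans (by decide +kernel)) ?_
  refine Nat.le_of_dvd Nat.card_pos ?_
  have h1 : y13 ∈ centralizer ({y13} : Set A) := mem_centralizer_singleton_iff.2 rfl
  have h2 := _root_.orderOf_dvd_natCard (⟨y13, h1⟩ : centralizer ({y13} : Set A))
  rwa [← orderOf_submonoid, o13] at h2

theorem nb_seven {S : Type u} [Group S] (e : A ≃* S) : NB 7 3 S :=
  nb_cent_model (by norm_num) (by norm_num) e (y := y7) (n := 1) (by rw [o7]; rfl) (L9.map Prod.fst) L9_pw L9_good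
    (lt_of_le_of_lt cy7 (by rw [L9_len]; norm_num))

theorem nb_thirteen {S : Type u} [Group S] (e : A ≃* S) : NB 13 3 S := by
  have : Fact (Nat.Prime 13) := ⟨by norm_num⟩
  refine nb_dz_self (by norm_num) e ?_ o13 (w := 6) cy13 ?_ (L9.map Prod.fst) L9_pw L9_good ?_
  · rw [card_A]; exact not_sq (by norm_num) (by norm_num)
  · rw [card_A]; decide
  · rw [L9_len]; norm_num

end Cfsg.Agent.H795.RIM.G23
end

-- part: H795/RIM/G23Row
section
/-!
# S4816: the rows `G₂(3)`, `p = 7, 13` (helper795)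
-/

set_option autoImplicit false

namespace Cfsg.Agent.H795.RIM.G23

open Cfsg
open Cfsg.Agent.H347.HX.G23
open Cfsg.Agent.H665.RIM

universe u v

theorem exists_equiv {F : Type v} [Field F] [Fintype F] (hF : Fintype.card F = 3) :
    Nonempty (A ≃* ↥(Lie.chevG2.group F)) := by
  classical
  have σ : ZMod 3 ≃+* F := FiniteField.ringEquivOfCardEq (by rw [ZMod.card, hF])
  obtain ⟨e⟩ := iso.2.2
  exact ⟨e.trans (ChevalleyStructure.FieldIso.groupEquiv Lie.chevG2 σ)⟩

/-- **The row `G₂(3)`, `p = 7`** -/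
theorem row_seven {S : Type u} [Group S] {F : Type v} [Field F] [Fintype F] (hF : Fintype.card F = 3)
    (h : Nonempty (S ≃* ↥(Lie.chevG2.group F))) : NBall 7 S := by
  obtain ⟨f⟩ := h
  obtain ⟨e⟩ := exists_equiv hF
  exact nball_of_prime Nat.prime_three f (S2101.result hF) (nb_seven (e.trans f.symm))

/-- **The row `G₂(3)`, `p = 13`** -/
theorem row_thirteen {S : Type u} [Group S] {F : Type v} [Field F] [Fintype F] (hF : Fintype.card F = 3)
    (h : Nonempty (S ≃* ↥(Lie.chevG2.group F))) : NBall 13 S := by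
  obtain ⟨f⟩ := h
  obtain ⟨e⟩ := exists_equiv hF
  exact nball_of_prime Nat.prime_three f (S2101.result hF) (nb_thirteen (e.trans f.symm))

/-- **The row `G₂(3)`**, all primes `p ≥ 5` dividing the order -/
theorem row {S : Type u} [Group S] {F : Type v} [Field F] [Fintype F] (hF : Fintype.card F = 3)
    (h : Nonempty (S ≃* ↥(Lie.chevG2.group F))) {p : ℕ} (hp : p = 7 ∨ p = 13) : NBall p S := by
  rcases hp with rfl | rfl
  · exact row_seven hF h
  · exact row_thirteen hF h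

end Cfsg.Agent.H795.RIM.G23
end

-- part: H344/RIM/McL
section
/-!
# S4816, the rows of the McLaughlin group (helper344, task 6219)

* `nball_five`, `nball_seven`, `nball_eleven` : over a faithful linear character of the kernel of `3.McL` there are irreducible
  characters of degree divisible by 5, by 7, by 11.
-/

set_option autoImplicit false
set_option linter.unusedSectionVars false

open Subgroup Cfsg
open scoped ComplexConjugate

namespace Cfsg.Agent.H344.RIM

open Cfsg.Agent.H86.TI Cfsg.Agent.H407.TI Cfsg.Agent.Characters.Core Cfsg.Agent.H665.RIM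

universe u v

/-- orthogonal nonzero columns: the number of rows -/
theorem le_card_of_cols {ι : Type*} {n : ℕ} (X : Finset ι) (c : Fin n → ι → ℂ) (N : Fin n → ℕ) (hN : ∀ i, N i ≠ 0)
    (ho : ∀ i j, ∑ x ∈ X, c i x * conj (c j x) = if i = j then (N i : ℂ) else 0) : n ≤ X.card := by
  have h1 : ∀ ψ ∈ X, ∑ i, Complex.normSq (c i ψ) / N i ≤ 1 := fun ψ hψ => bessel X c N hN ho hψ
  have h2 : ∑ ψ ∈ X, ∑ i, Complex.normSq (c i ψ) / N i = n := by
    rw [Finset.sum_comm]
    have h3 : ∀ i : Fin n, ∑ ψ ∈ X, Complex.normSq (c i ψ) / N i = 1 := by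
      intro i
      have h4 := ho i i
      rw [if_pos rfl] at h4
      have h5 : ∑ ψ ∈ X, Complex.normSq (c i ψ) = N i := by
        have h6 : ((∑ ψ ∈ X, Complex.normSq (c i ψ) : ℝ) : ℂ) = ((N i : ℝ) : ℂ) := by
          rw [Complex.ofReal_sum, Complex.ofReal_natCast, ← h4]
          exact Finset.sum_congr rfl fun ψ _ => (Complex.mul_conj _).symm
        exact_mod_cast h6
      rw [← Finset.sum_div, h5, div_self]
      exact_mod_cast hN i
    rw [Finset.sum_congr rfl fun i _ => h3 i]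
    simp only [_root_.Finset.sum_const, _root_.Finset.card_univ, _root_.Fintype.card_fin, _root_.nsmul_eq_mul, _root_.mul_one]
  have h3 := Finset.sum_le_card_nsmul X _ 1 h1
  rw [h2, nsmul_eq_mul, mul_one] at h3
  exact_mod_cast h3

section

variable {E : Type u} [Group E] {Z : Subgroup E} {G : Type v} [Group G] {π : E →* G} {L : Loc G}

/-- the extra elements -/
theorem exists_extra [Finite E] (h : _root_.Cfsg.Agent.H86.TI.Ext Z π) (e : LocE π L) (h8 : ∃ o : G, orderOf o = 8) :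
    ∃ f : Fin 3 → E, (∀ i, Good π (f i)) ∧ ∀ i, orderOf (π (f i)) = (![4, 12, 8] : Fin 3 → ℕ) i := by
  obtain ⟨o, ho⟩ := h8
  obtain ⟨O, πO, O8⟩ := h.exists_lift o (n := 8) (by norm_num) (by rw [← ho, pow_orderOf_eq_one])
  have Q4 : e.Q ^ 4 = 1 := by
    have : e.Q ^ 4 = e.Q * e.Q * (e.Q * e.Q) := by simp only [pow_succ, pow_zero, one_mul, mul_assoc]
    rw [this, e.QQ, e.T2]
  have gQ : Good π e.Q := h.good_of_pow (n := 4) (by norm_num) Q4
  have gO : Good π O := h.good_of_pow (n := 8) (by norm_num) O8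
  have hx : Commute (π e.Q) (π e.X) := by
    have := congrArg π e.QX
    rwa [map_mul, map_mul] at this
  have q4 : π e.Q ^ 4 = 1 := by rw [← map_pow, Q4, map_one]
  have x3 : π e.X ^ 3 = 1 := by rw [← map_pow, e.X3, map_one]
  have oQ : orderOf (π e.Q) = 4 := by
    have h1 : orderOf (π e.Q) ∣ 2 ^ 2 := orderOf_dvd_of_pow_eq_one (by norm_num; exact q4)
    obtain ⟨k, hk, hk'⟩ := (Nat.dvd_prime_pow Nat.prime_two).1 h1
    have h2 : ¬ orderOf (π e.Q) ∣ 2 := by
      intro h3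
      have h4 : π e.Q ^ 2 = 1 := orderOf_dvd_iff_pow_eq_one.1 h3
      rw [← map_pow, pow_two, e.QQ, e.πT] at h4
      have h5 := L.ot
      rw [h4, orderOf_one] at h5
      norm_num at h5
    interval_cases k
    · rw [hk'] at h2; norm_num at h2
    · rw [hk'] at h2; norm_num at h2
    · rw [hk']; norm_num
  have oX : orderOf (π e.X) = 3 := by rw [e.πX, L.ox]
  have gQX : Good π (e.Q * e.X) := by
    refine h.good_mul gQ e.gX (m := 9) (n := 4) ?_ ?_
    · rw [hx.mul_pow, pow_red q4 9, pow_red x3 9]; simp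
    · rw [hx.mul_pow, pow_red q4 4, pow_red x3 4]; simp
  refine ⟨![e.Q, e.Q * e.X, O], ?_, ?_⟩
  · intro i
    fin_cases i
    · exact gQ
    · exact gQX
    · exact gO
  · intro i
    fin_cases i
    · exact oQ
    · show orderOf (π (e.Q * e.X)) = 12
      rw [map_mul, hx.orderOf_mul_eq_mul_orderOf_of_coprime (by rw [oQ, oX]; norm_num), oQ, oX]
    · show orderOf (π O) = 8
      rw [πO, ho]

theorem ord_ne : ∀ (i : Fin 17) (j : Fin 3), ordf i ≠ (![4, 12, 8] : Fin 3 → ℕ) j := by decide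

theorem ord_inj : ∀ i j : Fin 3, (![4, 12, 8] : Fin 3 → ℕ) i = (![4, 12, 8] : Fin 3 → ℕ) j → i = j := by decide

/-- **at least 20 characters over `lam`** -/
theorem twenty_le [Finite E] [Fintype (IrrCharacter E)] (h : _root_.Cfsg.Agent.H86.TI.Ext Z π) (e : LocE π L) (h8 : ∃ o : G, orderOf o = 8)
    (lam : Z →* ℂˣ) [DecidablePred fun χ : IrrCharacter E => Over Z lam (χ : E → ℂ)] :
    20 ≤ (Finset.univ.filter fun χ : IrrCharacter E => Over Z lam (χ : E → ℂ)).card := by
  classical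
  obtain ⟨f, hf, hfo⟩ := exists_extra h e h8
  have hfin : Finite G := Nat.finite_of_card_ne_zero (by rw [L.cardG]; norm_num)
  let g : Fin (17 + 3) → E := Fin.append e.fam f
  have gl : ∀ i, g (Fin.castAdd 3 i) = e.fam i := fun i => Fin.append_left e.fam f i
  have gr : ∀ i, g (Fin.natAdd 17 i) = f i := fun i => Fin.append_right e.fam f i
  have hg : ∀ i, Good π (g i) := by
    intro i
    refine Fin.addCases (fun i => ?_) (fun i => ?_) i
    · rw [gl]; exact e.good h i
    · rw [gr]; exact hf i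
  have key : ∀ (i : Fin 17) (j : Fin 3), ¬ IsConj (π (e.fam i)) (π (f j)) := by
    intro i j hc
    have h1 := orderOf_isConj hc
    rw [e.map_fam, ordG, hfo] at h1
    exact ord_ne i j h1
  have hne : ∀ i j, i ≠ j → ¬ IsConj (π (g i)) (π (g j)) := by
    intro i j
    refine Fin.addCases (fun i => ?_) (fun i => ?_) i
    · refine Fin.addCases (fun j => ?_) (fun j => ?_) j
      · intro hij
        rw [gl, gl, e.map_fam, e.map_fam]
        exact nconjG L i j fun h => hij (by rw [h])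
      · intro _
        rw [gl, gr]
        exact key i j
    · refine Fin.addCases (fun j => ?_) (fun j => ?_) j
      · intro _
        rw [gl, gr]
        exact fun h => key j i h.symm
      · intro hij
        rw [gr, gr]
        intro hc
        have h1 := orderOf_isConj hc
        rw [hfo, hfo] at h1
        apply hij
        rw [ord_inj i j h1]
  refine le_card_of_cols (n := 17 + 3) _ (fun i χ => (χ : E → ℂ) (g i))
    (fun i => Nat.card (centralizer ({π (g i)} : Set G))) (fun i => Nat.card_pos.ne') ?_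
  intro i j
  split_ifs with hij
  · subst hij
    exact h.col_self lam (hg i) rfl
  · exact h.col_ne lam (hne i j hij)

/-- a column of characters of absolute value at least one -/
theorem card_le_of_col [Finite E] [Fintype (IrrCharacter E)] (h : _root_.Cfsg.Agent.H86.TI.Ext Z π)
    (lam : Z →* ℂˣ) [DecidablePred fun χ : IrrCharacter E => Over Z lam (χ : E → ℂ)] {g : E} (hg : Good π g) {n : ℕ}
    (hn : Nat.card (centralizer ({π g} : Set G)) = n)
    (h1 : ∀ χ : IrrCharacter E, Over Z lam (χ : E → ℂ) → 1 ≤ Complex.normSq ((χ : E → ℂ) g)) :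
    (Finset.univ.filter fun χ : IrrCharacter E => Over Z lam (χ : E → ℂ)).card ≤ n := by
  have h2 := h.col_self lam hg hn
  have h3 : ∑ χ ∈ Finset.univ.filter (fun χ : IrrCharacter E => Over Z lam (χ : E → ℂ)),
      Complex.normSq ((χ : E → ℂ) g) = n := by
    have h6 : ((∑ χ ∈ Finset.univ.filter (fun χ : IrrCharacter E => Over Z lam (χ : E → ℂ)),
        Complex.normSq ((χ : E → ℂ) g) : ℝ) : ℂ) = ((n : ℝ) : ℂ) := by
      rw [Complex.ofReal_sum, Complex.ofReal_natCast, ← h2]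
      exact Finset.sum_congr rfl fun ψ _ => (Complex.mul_conj _).symm
    exact_mod_cast h6
  have h4 := Finset.card_nsmul_le_sum (Finset.univ.filter fun χ : IrrCharacter E => Over Z lam (χ : E → ℂ))
    (fun χ => Complex.normSq ((χ : E → ℂ) g)) 1 (fun χ hχ => h1 χ (Finset.mem_filter.1 hχ).2)
  rw [h3, nsmul_eq_mul, mul_one] at h4
  exact_mod_cast h4

theorem one_le_of_int {x : ℂ} {n : ℤ} (h : Complex.normSq x = (n : ℝ)) (hn : n ≠ 0) : 1 ≤ Complex.normSq x := by
  have h1 : 0 ≤ n := by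
    have := Complex.normSq_nonneg x
    rw [h] at this
    exact_mod_cast this
  rw [h]
  exact_mod_cast (show (1 : ℤ) ≤ n by omega)

/-- **the three primes** -/
theorem exists_dvd [Finite E] (h : _root_.Cfsg.Agent.H86.TI.Ext Z π) (L : Loc G) (h8 : ∃ o : G, orderOf o = 8) (hperf : commutator E = ⊤)
    {lam : Z →* ℂˣ} (hl : lam ≠ 1) {p : ℕ} (hp : p = 5 ∨ p = 7 ∨ p = 11) :
    ∃ χ : E → ℂ, IsIrrCharacter E χ ∧ Over Z lam χ ∧ p ∣ charDegree χ := by
  classical
  obtain ⟨e⟩ := exists_locE h L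
  have := finite_irr (G := E)
  have := Fintype.ofFinite (IrrCharacter E)
  have h20 := twenty_le h e h8 lam
  by_contra hno
  push Not at hno
  have hdeg : ∀ χ : IrrCharacter E, (χ : E → ℂ) 1 = ((charDegree (χ : E → ℂ) : ℤ) : ℂ) := by
    intro χ
    rw [H669.Basic.charDegree_eq χ.2]; push_cast; rfl
  rcases hp with rfl | rfl | rfl
  · have h1 := card_over h L hperf hl
    have h2 : Nat.card {χ : IrrCharacter E // Over Z lam (χ : E → ℂ) ∧ ¬ 125 ∣ charDegree (χ : E → ℂ)} =
        (Finset.univ.filter fun χ : IrrCharacter E => Over Z lam (χ : E → ℂ)).card := by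
      rw [Nat.card_eq_fintype_card, Fintype.card_subtype]
      congr 1
      ext χ
      simp only [Finset.mem_filter, Finset.mem_univ, true_and]
      exact ⟨fun h => h.1, fun h => ⟨h, fun h3 => hno χ χ.2 h (Dvd.dvd.trans (by norm_num) h3)⟩⟩
    omega
  · have h1 := card_le_of_col h lam (g := e.Y) (h.good_of_pow (n := 7) (by norm_num) e.Y7)
      (n := 14) (by rw [e.πY]; exact L.cy) (by
        intro χ hχ
        obtain ⟨a, b, h9, k14⟩ := Cfsg.Agent.H243.TI.seven eps_sq (isIrr_isCharacter χ.2) (t := 1) (y := e.Y) (m := e.M)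
          (one_mul 1) e.Y7 (by rw [one_mul, mul_one]) e.MY (by rw [one_mul, mul_one]) (hdeg χ)
        rw [one_mul] at h9
        rw [h9]
        refine one_le_of_int (nsq_eps a b) ?_
        intro h0
        have hb : b = 0 := by nlinarith only [h0, sq_nonneg (2 * a - b)]
        have ha : a = 0 := by nlinarith only [h0, hb]
        rw [ha, hb] at k14
        apply hno χ χ.2 hχ
        have h3 : ((7 : ℕ) : ℤ) ∣ (charDegree (χ : E → ℂ) : ℤ) := by
          simpa using k14
        exact_mod_cast h3)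
    omega
  · have h1 := card_le_of_col h lam (g := e.V) (h.good_of_pow (n := 11) (by norm_num) e.V11)
      (n := 11) (by rw [e.πV]; exact L.cv) (by
        intro χ hχ
        obtain ⟨a, b, h9, k14⟩ := Cfsg.Agent.H243.TI.eleven del_sq (isIrr_isCharacter χ.2) e.V11 e.VV (hdeg χ)
        rw [h9]
        refine one_le_of_int (nsq_del a b) ?_
        intro h0
        have hb : b = 0 := by nlinarith only [h0, sq_nonneg (2 * a - b)]
        have ha : a = 0 := by nlinarith only [h0, hb]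
        rw [ha, hb] at k14
        apply hno χ χ.2 hχ
        have h3 : ((11 : ℕ) : ℤ) ∣ (charDegree (χ : E → ℂ) : ℤ) := by
          simpa using k14
        exact_mod_cast h3)
    omega

end

section model

open Cfsg.Agent.McLType.X275 Cfsg.Agent.McLType.Gens Cfsg.Agent.McLType.Model

theorem exists_eight : ∃ o : G1, orderOf o = 8 := by
  obtain ⟨e⟩ := Cfsg.Agent.H235.Ore.McL.exists_iso isoMcL_G1
  refine ⟨e (Cfsg.Agent.H235.Ore.McL.wk Cfsg.Agent.H235.Ore.McL.x8A), ?_⟩
  rw [e.orderOf_eq, ← Subgroup.orderOf_coe]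
  exact Cfsg.Agent.H235.Ore.McL.o8A

/-- **`McL`, `p = 5, 7, 11`** -/
theorem nball {S : Type u} [Group S] (h : Spor.IsoMcL S) {p : ℕ} (hp : p = 5 ∨ p = 7 ∨ p = 11) : NBall p S := by
  intro m hm _ E _ _ π hs hc hperf hk l hl
  obtain ⟨f⟩ := h
  obtain ⟨f'⟩ := isoMcL_G1
  let g : S ≃* G1 := f.trans f'.symm
  have hdvd : Nat.card π.ker ∣ 3 := by
    have h1 : H51.Mult.PCE (f.toMonoidHom.comp π) := ⟨f.surjective.comp hs, by
      intro x hx
      have h2 : f (π x) = 1 := hx
      rw [f.map_eq_one_iff] at h2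
      exact hc h2, hperf⟩
    have h2 := (H68.Bounds.ker_of_hasCyclic S2047.result h1).2
    have h3 : (f.toMonoidHom.comp π).ker = π.ker := by
      ext x
      exact f.map_eq_one_iff
    rwa [h3] at h2
  have h3 : Nat.card π.ker = 3 := by
    rcases (Nat.dvd_prime Nat.prime_three).1 hdvd with h1 | h1
    · omega
    · exact h1
  have hE : _root_.Cfsg.Agent.H86.TI.Ext π.ker (g.toMonoidHom.comp π) := by
    refine ⟨g.surjective.comp hs, ?_, hc, h3⟩
    ext x
    exact g.map_eq_one_iff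
  obtain ⟨L⟩ := exists_loc
  have hl1 : l ≠ 1 := by
    intro h1
    have : Subsingleton π.ker := ⟨fun a b => hl (by rw [h1]; rfl)⟩
    have := Nat.card_of_subsingleton (1 : π.ker)
    omega
  obtain ⟨χ, h4, h5, h6⟩ := exists_dvd hE L exists_eight hperf hl1 hp
  refine ⟨χ, h4, fun z => ?_, h6⟩
  have := h5 z 1
  rw [mul_one] at this
  rw [this, mul_comm]

theorem nball_five {S : Type u} [Group S] (h : Spor.IsoMcL S) : NBall 5 S := nball h (Or.inl rfl)

theorem nball_seven {S : Type u} [Group S] (h : Spor.IsoMcL S) : NBall 7 S := nball h (Or.inr (Or.inl rfl))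

theorem nball_eleven {S : Type u} [Group S] (h : Spor.IsoMcL S) : NBall 11 S := nball h (Or.inr (Or.inr rfl))

end model

end Cfsg.Agent.H344.RIM
end

-- part: H325/RIM/Fill/A
section
/-!
# S4816: fields of `RowsNB` and `RowsKill`, first batch (helper325)
-/

set_option autoImplicit false
set_option linter.unusedSectionVars false

namespace Cfsg.Agent.H325.RIM

open Cfsg Cfsg.Agent.H665.RIM Cfsg.Agent.OrdDiv Cfsg.Agent.H436

universe u

theorem f_psl : ∀ p n q : ℕ, p.Prime → p ≠ 2 → ¬ p ∣ q →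
    (n, q) ∉ ({(2, 4), (2, 9), (3, 2), (3, 4), (4, 2)} : Set (ℕ × ℕ)) → NBRow p (.psl n q) :=
  fun p n q hp h2 hq hex => Cfsg.Agent.H46.RIM.row_psl p n q hp h2 hq hex

theorem f_psp : ∀ p m q : ℕ, p.Prime → p ≠ 2 → ¬ p ∣ q → Odd q → NBRow p (.psp m q) := by
  intro p m q hp h2 hq ho S _ _ hS hd
  obtain ⟨F, _, _, hF, ⟨e⟩⟩ := hS.real
  subst hF
  refine H365.RIM.nb_psp (F := F) ?_ hS.cond.1 e hp ?_ hd
  · intro h
    obtain ⟨r, hr⟩ := CharP.exists F
    have hrp : r.Prime := (CharP.char_is_prime_or_zero F r).resolve_right (CharP.char_ne_zero_of_finite F r)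
    have : Fact r.Prime := ⟨hrp⟩
    have h1 : r ∣ 2 := (CharP.cast_eq_zero_iff F r 2).1 (by exact_mod_cast h)
    have h3 : r = 2 := (Nat.prime_dvd_prime_iff_eq hrp Nat.prime_two).1 h1
    obtain ⟨n, hn0, hn⟩ := FiniteField.card F r
    rw [hn, h3] at ho
    exact (Nat.not_odd_iff_even.2 ((Nat.even_pow.2 ⟨even_two, n.2.ne'⟩))) ho
  · intro h
    obtain ⟨r, hr⟩ := CharP.exists F
    have hrp : r.Prime := (CharP.char_is_prime_or_zero F r).resolve_right (CharP.char_ne_zero_of_finite F r)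
    have : Fact r.Prime := ⟨hrp⟩
    have h1 : r ∣ p := (CharP.cast_eq_zero_iff F r p).1 h
    have h3 : r = p := (Nat.prime_dvd_prime_iff_eq hrp hp).1 h1
    obtain ⟨n, hn0, hn⟩ := FiniteField.card F r
    rw [hn, h3] at hq
    exact hq (dvd_pow_self p n.2.ne')

theorem f_alt : ∀ p n : ℕ, p.Prime → p ≠ 2 → 8 ≤ n → ¬ (n = 8 ∧ p = 5) → NBRow p (.alt n) := by
  intro p n hp h2 h8 hex S _ _ hS hd
  obtain ⟨e⟩ := hS.real
  refine H600.RIM.nball_alt h8 e hp h2 ?_ hex
  have h1 : p ∣ n.factorial := by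
    have h3 := hS.eq
    change 2 * Nat.card S = n.factorial at h3
    rw [← h3]
    exact Dvd.dvd.mul_left hd 2
  exact hp.dvd_factorial.1 h1

theorem f_mcl : NBRow 5 .mcl := fun _ _ _ hS _ => H344.RIM.nball_five hS.real

theorem k_mcl : ∀ p : ℕ, p = 7 ∨ p = 11 → KillRow.{u} p .mcl := by
  rintro p (rfl | rfl) S _ _ hS
  · exact Or.inl (H344.RIM.nball_seven hS.real)
  · exact Or.inl (H344.RIM.nball_eleven hS.real)

theorem k_u43 : ∀ p : ℕ, p = 5 ∨ p = 7 → KillRow.{u} p (.psu 4 3) := by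
  rintro p (rfl | rfl) S _ _ hS
  · obtain ⟨F, _, _, hF, ⟨e⟩⟩ := hS.real
    exact Or.inl (H916.RIM.U43.row_five hF e)
  · obtain ⟨F, _, _, hF, ⟨e⟩⟩ := hS.real
    exact Or.inl (H916.RIM.U43.row_seven hF e)

theorem k_sz8 : ∀ p : ℕ, p = 5 ∨ p = 7 ∨ p = 13 → KillRow.{u} p (.sz 8) := by
  intro p h S _ _ hS
  obtain ⟨F, _, _, m, hm, hF, hq, ⟨e⟩⟩ := hS.real
  have h1 : m = 1 := by
    have h3 : 2 ^ (2 * m + 1) = 2 ^ 3 := by rw [← hq]; norm_num
    have := Nat.pow_right_injective (le_refl 2) h3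
    omega
  subst h1
  exact Or.inl (H243.RIM.Sz8.nball hF e h)

theorem k_g23 : ∀ p : ℕ, p = 7 ∨ p = 13 → KillRow.{u} p (.g2 3) := by
  intro p h S _ _ hS
  obtain ⟨F, _, _, hF, e⟩ := hS.real
  exact Or.inl (H795.RIM.G23.row hF e h)

theorem k_psl2 : ∀ p q : ℕ, p.Prime → p ≠ 2 → p ∣ q → KillRow.{u} p (.psl 2 q) := by
  intro p q hp h2 hq S _ _ hS
  obtain ⟨F, _, _, hF, ⟨e⟩⟩ := hS.real
  obtain ⟨r, hr⟩ := CharP.exists F
  have hrp : r.Prime := (CharP.char_is_prime_or_zero F r).resolve_right (CharP.char_ne_zero_of_finite F r)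
  have : Fact r.Prime := ⟨hrp⟩
  obtain ⟨n, -, hn⟩ := FiniteField.card F r
  have h1 : p = r := (Nat.prime_dvd_prime_iff_eq hp hrp).1 (hp.dvd_of_dvd_pow (by rw [← hn, hF]; exact hq))
  subst h1
  exact Or.inr (H395.RIM.EKPsl.ek_psl2 (F := F) p h2 (by rw [hF]; exact hS.cond.2.1 rfl) e)

end Cfsg.Agent.H325.RIM
end

private theorem dce_1634ef74e86f : _root_.True := by
  try have : _root_.True := by simp only [_root_.Cfsg.Agent.H795.RIM.G23.L9.eq_1]
  exact _root_.True.intro
end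

-- part: H325/RIM/Fill/D
section
prune_inst 0xf47053200ca2018000000504000022206000009000008800c8a002440301a20209008040008020081002000000000000004400200000000004000400000500008880040020000008040081000000410000000000000000000000000000000000004010000
set_option linter.all false
open scoped Cfsg.Agent.FastGrp

-- part: H929/RIM/Psu
section
/-!
# S4816, RIM-L-PSU: `NBall p (PSU_n(q))` from characters of `GU_n(q)` (helper929)

* `index_su` : `|GU : SU Z| ∣ gcd(n, q + 1)`;
* `su_char` : restriction to `SU_n(q)` with the central character;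
* `nball_psu_of_gu` : the universal cover of `PSU_n(q)` is `SU_n(q)`;
* `gu_char_mu` : the Harish-Chandra characters of `GU_n(q)` with a prescribed central character.
-/

set_option autoImplicit false
set_option linter.unusedSectionVars false

open scoped ComplexConjugate

namespace Cfsg.Agent.H929.RIM

open Cfsg Cfsg.Agent.Characters Cfsg.Agent.Characters.Core Cfsg.Agent.H51.Mult Cfsg.Agent.H665.RIM
open Cfsg.Agent.ClassicalGeometry.GUBasic Cfsg.Agent.H113.PSU.Descent
open Cfsg.Agent.LieClassical.SUBasic (suScalar suScalar_mem_center mem_center_SU_iff)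
open Cfsg.Agent.H477.HC Cfsg.Agent.H53.HC Module

universe u v

variable {F : Type u} [Field F] {q n : ℕ}

theorem root_pow {k : ℕ} (a : rootsOfUnity k F) : ((a : Fˣ) : F) ^ k = 1 := by
  rw [← Units.val_pow_eq_pow_val, (mem_rootsOfUnity _ _).1 a.2, Units.val_one]

/-- the scalars of norm one in `GU` -/
def scG (n : ℕ) (F : Type u) [Field F] (q : ℕ) : rootsOfUnity (q + 1) F →* GU n F q where
  toFun a := guDiag q (fun _ => ((a : Fˣ) : F)) (fun _ => root_pow a)
  map_one' := gu_ext (by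
    rw [coe_guDiag]
    change Matrix.diagonal (fun _ => (1 : F)) = 1
    exact Matrix.diagonal_one)
  map_mul' a b := gu_ext (by
    change Matrix.diagonal _ = Matrix.diagonal _ * Matrix.diagonal _
    rw [Matrix.diagonal_mul_diagonal]
    rfl)

theorem coe_scG (a : rootsOfUnity (q + 1) F) :
    (((scG n F q a : GU n F q) : GL (Fin n) F) : Matrix (Fin n) (Fin n) F) = Matrix.diagonal fun _ => ((a : Fˣ) : F) := rfl

theorem scG_injective (hn : 1 ≤ n) : Function.Injective (scG n F q) := by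
  intro a b h
  apply Subtype.ext
  apply Units.ext
  have h1 := congrArg (fun g : GU n F q => ((g : GL (Fin n) F) : Matrix (Fin n) (Fin n) F) ⟨0, hn⟩ ⟨0, hn⟩) h
  simp only [coe_scG, Matrix.diagonal_apply_eq] at h1
  exact h1

theorem scG_comm (a : rootsOfUnity (q + 1) F) (g : GU n F q) : scG n F q a * g = g * scG n F q a :=
  (Subgroup.mem_center_iff.1 (guDiag_const_mem_center q ((a : Fˣ) : F) (root_pow a)) g).symm

/-- the scalars of `SU` -/
def Zs (n : ℕ) (F : Type u) [Field F] (q : ℕ) : Subgroup Fˣ := rootsOfUnity (q + 1) F ⊓ rootsOfUnity n F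

theorem zs_n (a : Zs n F q) : ((a : Fˣ) : F) ^ n = 1 := root_pow (k := n) ⟨(a : Fˣ), a.2.2⟩

theorem zs_q (a : Zs n F q) : ((a : Fˣ) : F) ^ (q + 1) = 1 := root_pow (k := q + 1) ⟨(a : Fˣ), a.2.1⟩

/-- the scalars of `SU` -/
def scS (n : ℕ) (F : Type u) [Field F] (q : ℕ) : Zs n F q →* SU n F q where
  toFun a := suScalar q ((a : Fˣ) : F) (zs_n a) (zs_q a)
  map_one' := by
    apply Subtype.ext
    apply Subtype.ext
    change Matrix.diagonal (fun _ => (1 : F)) = 1
    exact Matrix.diagonal_one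
  map_mul' a b := by
    apply Subtype.ext
    apply Subtype.ext
    change Matrix.diagonal _ = Matrix.diagonal _ * Matrix.diagonal _
    rw [Matrix.diagonal_mul_diagonal]
    rfl

variable [Fintype F]

/-- `|GU : SU Z| ∣ gcd(n, q + 1)` -/
theorem index_su (hF : Fintype.card F = q ^ 2) (hn : 1 ≤ n) :
    (NN n F q ⊔ (scG n F q).range).index ∣ Nat.gcd n (q + 1) := by
  have h1 : ((powMonoidHom n : rootsOfUnity (q + 1) F →* rootsOfUnity (q + 1) F).range).comap (detHom n hF) ≤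
      NN n F q ⊔ (scG n F q).range := by
    rintro g ⟨c, hc⟩
    rw [powMonoidHom_apply] at hc
    rw [← inv_mul_cancel_right g (scG n F q c)]
    refine Subgroup.mul_mem_sup ?_ ⟨c, rfl⟩
    have h2 : detHom n hF (g * (scG n F q c)⁻¹) = 1 := by
      rw [map_mul, map_inv, mul_inv_eq_one, ← hc]
      apply Subtype.ext
      apply Units.ext
      rw [coe_detHom, coe_scG, Matrix.det_diagonal, Finset.prod_const, Finset.card_univ, Fintype.card_fin]
      rfl
    exact congrArg Subtype.val h2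
  refine (Subgroup.index_dvd_of_le h1).trans ?_
  rw [Subgroup.index_comap_of_surjective _ (detHom_surjective hn hF), IsCyclic.index_powMonoidHom_range,
    card_rootsOfUnity_eq hF, Nat.gcd_comm]

/-- **restriction to `SU_n(q)`** -/
theorem su_char (hF : Fintype.card F = q ^ 2) (hn : 1 ≤ n) {χ : GU n F q → ℂ} (hχ : IsIrrCharacter _ χ) {d : ℕ}
    (hd : χ 1 = d) (μ : Fˣ →* ℂˣ) (hμ : ∀ a : rootsOfUnity (q + 1) F, χ (scG n F q a) = χ 1 * (μ a : ℂˣ)) :
    ∃ (θ : SU n F q → ℂ) (e t : ℕ), IsIrrCharacter _ θ ∧ θ 1 = e ∧ e * t = d ∧ t ∣ Nat.gcd n (q + 1) ∧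
      ∀ a : Zs n F q, θ (scS n F q a) = θ 1 * (μ a : ℂˣ) := by
  classical
  let Z : Subgroup (GU n F q) := (scG n F q).range
  let e : rootsOfUnity (q + 1) F ≃* Z := MonoidHom.ofInjective (scG_injective hn)
  have he : ∀ c, ((e c : Z) : GU n F q) = scG n F q c := fun c => rfl
  have hZ : ∀ z ∈ Z, ∀ g, z * g = g * z := by
    rintro _ ⟨c, rfl⟩ g
    exact scG_comm c g
  let μZ : Z →* ℂˣ := (μ.comp (rootsOfUnity (q + 1) F).subtype).comp e.symm.toMonoidHom
  have hμ' : ∀ (z : Z) (g : GU n F q), χ (z * g) = μZ z * χ g := by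
    intro z g
    obtain ⟨c, rfl⟩ := e.surjective z
    have h1 : μZ (e c) = μ c := by
      change μ ((e.symm (e c) : rootsOfUnity (q + 1) F) : Fˣ) = μ c
      rw [e.symm_apply_apply]
    rw [h1, he, scG_comm]
    obtain ⟨l, hl⟩ := central_mul hχ (z := scG n F q c) (by
      rw [Subgroup.mem_center_iff]
      intro g
      exact (scG_comm c g).symm)
    have h2 := hl 1
    rw [one_mul, hμ, mul_comm] at h2
    rw [hl, mul_right_cancel₀ (isIrr_apply_one_ne_zero hχ) h2]
  obtain ⟨θ, a, t, hθ, ha, hat, ht, hz⟩ := H46.RIM.exists_irr_restr (NN n F q) Z hZ hχ μZ hμ' hd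
  refine ⟨θ ∘ (eSU n F q).toMonoidHom, a, t, isIrr_comp (eSU n F q).toMonoidHom (eSU n F q).surjective hθ, ?_, hat,
    ht.trans (index_su hF hn), fun c => ?_⟩
  · change θ (eSU n F q 1) = _
    rw [map_one, ha]
  · change θ (eSU n F q (scS n F q c)) = θ (eSU n F q 1) * _
    rw [map_one]
    let c' : rootsOfUnity (q + 1) F := ⟨c, c.2.1⟩
    have h1 : ((eSU n F q (scS n F q c) : NN n F q) : GU n F q) = scG n F q c' := gu_ext rfl
    have h2 : scG n F q c' ∈ NN n F q := by
      rw [← h1]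
      exact Subtype.property _
    have h3 := hz _ h2 ⟨c', rfl⟩
    have h4 : eSU n F q (scS n F q c) = ⟨scG n F q c', h2⟩ := Subtype.ext h1
    rw [h4, h3]
    have h5 : (⟨scG n F q c', ⟨c', rfl⟩⟩ : Z) = e c' := rfl
    rw [h5]
    change θ 1 * ((μ ((e.symm (e c') : rootsOfUnity (q + 1) F) : Fˣ) : ℂˣ) : ℂ) = _
    rw [e.symm_apply_apply]

/-- **`NBall` for `PSU_n(q)` from characters of `GU_n(q)`** -/
theorem nball_psu_of_gu {p : ℕ} (hF : Fintype.card F = q ^ 2) (hn : 3 ≤ n) (h3 : ¬ (n = 3 ∧ q = 2))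
    (hexc : (n, q) ∉ ({(4, 2), (4, 3), (6, 2)} : Set (ℕ × ℕ)))
    (H : ∀ m : ℕ, 1 < m → m ∣ Nat.gcd n (q + 1) → ¬ p ∣ m → ∀ μ : Fˣ →* ℂˣ,
      ∃ (χ : GU n F q → ℂ) (d : ℕ), IsIrrCharacter _ χ ∧ χ 1 = d ∧
        (∀ c t : ℕ, t ∣ Nat.gcd n (q + 1) → c * t = d → p ∣ c) ∧
        ∀ a : rootsOfUnity (q + 1) F, χ (scG n F q a) = χ 1 * (μ a : ℂˣ)) :
    NBall p (PSU n F q) := by
  classical
  have hperf := LieClassical.HermPerfect.commutator_SU_eq_top hF hn h3
  have hσ : PCE (QuotientGroup.mk' (Subgroup.center (SU n F q))) :=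
    ⟨QuotientGroup.mk'_surjective _, by rw [QuotientGroup.ker_mk'], hperf⟩
  have hA := Cfsg.Agent.S2089.result (F := F) n q hF hn h3 hexc
  have hck : Nat.card (QuotientGroup.mk' (Subgroup.center (SU n F q))).ker = Nat.gcd n (q + 1) := by
    rw [QuotientGroup.ker_mk', Cfsg.Agent.S0279.result hF n hn]
  refine H46.RIM.nball_of_card hA hσ (by
    rw [hck]
    exact (Nat.card_zmod _).symm) fun l hl hpl => ?_
  have hmem : ∀ c, scS n F q c ∈ (QuotientGroup.mk' (Subgroup.center (SU n F q))).ker := fun c => by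
    rw [QuotientGroup.ker_mk']
    exact suScalar_mem_center q _ (zs_n c) (zs_q c)
  let j : Zs n F q →* (QuotientGroup.mk' (Subgroup.center (SU n F q))).ker := (scS n F q).codRestrict _ hmem
  have hj : Function.Surjective j := by
    rintro ⟨z, hz⟩
    rw [QuotientGroup.ker_mk'] at hz
    obtain ⟨c, hcn, hcq, rfl⟩ := (mem_center_SU_iff hF hn z).1 hz
    have hc0 : c ≠ 0 := by
      rintro rfl
      rw [zero_pow (Nat.succ_ne_zero q)] at hcq
      exact zero_ne_one hcq
    refine ⟨⟨Units.mk0 c hc0, ?_, ?_⟩, ?_⟩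
    · change Units.mk0 c hc0 ∈ rootsOfUnity (q + 1) F
      rw [mem_rootsOfUnity]
      apply Units.ext
      rw [Units.val_pow_eq_pow_val, Units.val_mk0, hcq, Units.val_one]
    · change Units.mk0 c hc0 ∈ rootsOfUnity n F
      rw [mem_rootsOfUnity]
      apply Units.ext
      rw [Units.val_pow_eq_pow_val, Units.val_mk0, hcn, Units.val_one]
    · apply Subtype.ext
      apply Subtype.ext
      apply Subtype.ext
      rfl
  obtain ⟨μ, hμ⟩ := MonoidHom.domRestrict_surjective (M := ℂ) (Zs n F q) (l.comp j)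
  have hμ' : ∀ c : Zs n F q, μ c = l (j c) := fun c => DFunLike.congr_fun hμ c
  obtain ⟨χ, d, hχ, hd, hpd, hc⟩ := H (Nat.card l.range) (by
    obtain ⟨z, hz⟩ := hl
    have h1 : l.range ≠ ⊥ := by
      intro h
      apply hz
      have h2 : l z ∈ l.range := ⟨z, rfl⟩
      rw [h] at h2
      exact h2
    have h2 : Nat.card l.range ≠ 1 := fun h => h1 (Subgroup.eq_bot_of_card_eq _ h)
    have h3 : 0 < Nat.card l.range := Nat.card_pos
    omega) (by
    rw [← hck]
    exact Subgroup.card_range_dvd l) hpl μ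
  obtain ⟨θ, e, t, hθ, he, het, ht, hz⟩ := su_char hF (by omega) hχ hd μ hc
  refine ⟨θ, hθ, fun z => ?_, ?_⟩
  · obtain ⟨c, rfl⟩ := hj z
    rw [← hμ' c, ← hz c]
    rfl
  · rw [Blocks.Basic.charDegree_of_eq he]
    exact hpd e t ht het

/-- the value at a scalar -/
theorem hc_scal {K : Type u} [Field K] {V : Type v} [AddCommGroup V] [Module K V] (F : CForm K V) {k : ℕ}
    [Fintype (F.Om k)] [FiniteDimensional K V] {c : GL (Fin k) K → ℂ} (hcl : IsClassFunction _ c)
    {z : F.iso} {a : Kˣ} (hz : ∀ v, (z : V ≃ₗ[K] V) v = (a : K) • v) {s : ℂ}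
    (hca : c (Matrix.GeneralLinearGroup.scalar (Fin k) a) = c 1 * s) :
    F.hc c (fun _ _ => 1) z = F.hc c (fun _ _ => 1) 1 * s := by
  classical
  unfold CForm.hc
  rw [Finset.sum_mul]
  refine Finset.sum_congr rfl fun W _ => ?_
  rw [mul_one, mul_one]
  have h : W.1.map (F.iso.subtype z : V →ₗ[K] V) = W.1 := map_eq_of_le F.iso.subtype fun w hw => by
    change (z : V ≃ₗ[K] V) w ∈ W.1
    rw [hz]; exact W.1.smul_mem _ hw
  have h' : W.1.map (F.iso.subtype 1 : V →ₗ[K] V) = W.1 := Submodule.map_id _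
  rw [flagTerm_of F.iso.subtype c h, flagTerm_of F.iso.subtype c h', cl_eq hcl (finBasisOfFinrankEq K W.1 W.2.2)]
  have e2 : res (F.iso.subtype 1) W.1 h' = 1 := by
    ext w
    rfl
  rw [e2, cl_one hcl (finBasisOfFinrankEq K W.1 W.2.2), ← hca]
  congr 1
  ext i j
  rw [coe_glE, LinearMap.toMatrix_apply]
  have e2 : (res (F.iso.subtype z) W.1 h : W.1 →ₗ[K] W.1) (finBasisOfFinrankEq K W.1 W.2.2 j) =
      (a : K) • (finBasisOfFinrankEq K W.1 W.2.2 j) := Subtype.ext (hz _)
  rw [e2, map_smul, Finsupp.smul_apply, Basis.repr_self, smul_eq_mul, Matrix.GeneralLinearGroup.coe_scalar,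
    Matrix.scalar_apply, Matrix.diagonal_apply, Finsupp.single_apply]
  by_cases hij : i = j
  · simp [hij]
  · rw [if_neg hij, if_neg (Ne.symm hij), mul_zero]

/-- **characters of `GU` with a prescribed central character** -/
theorem gu_char_mu (hq : Nat.card F = q ^ 2) {k n' : ℕ} {c : GL (Fin k) F → ℂ}
    (hc : Cus F k (CForm.powHom hq) (fun z => z = 1) c) (μ : Fˣ →* ℂˣ)
    (hcs : ∀ z : Fˣ, z ^ (q + 1) = 1 → c (Matrix.GeneralLinearGroup.scalar (Fin k) z) = c 1 * (μ z : ℂˣ)) :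
    ∃ χ : GU (k + (k + n')) F q → ℂ, IsIrrCharacter _ χ ∧
      χ 1 = (dg (CForm.hermF F hq (k + (k + n'))) k : ℂ) ∧
      ∀ a : rootsOfUnity (q + 1) F, χ (scG (k + (k + n')) F q a) = χ 1 * (μ a : ℂˣ) := by
  classical
  obtain ⟨p, hp⟩ := CharP.exists F
  have hpr : p.Prime := (CharP.char_is_prime_or_zero F p).resolve_right (CharP.char_ne_zero_of_finite F p)
  have : Fact p.Prime := ⟨hpr⟩
  obtain ⟨⟨W₀, hW₀⟩, -⟩ := CForm.hermF_frame (K := F) (p := p) hq k n'
  have := finite_Om (CForm.hermF F hq (k + (k + n'))) k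
  have := finite_iso (CForm.hermF F hq (k + (k + n')))
  let _ := Fintype.ofFinite ((CForm.hermF F hq (k + (k + n'))).Om k)
  let _ := Fintype.ofFinite (CForm.hermF F hq (k + (k + n'))).iso
  have hcl := Core.isIrr_isClassFunction hc.irr
  set χ : (CForm.hermF F hq (k + (k + n'))).iso → ℂ :=
    (CForm.hermF F hq (k + (k + n'))).hc c (fun _ _ => 1) with hχd
  have hχ : IsIrrCharacter _ χ := (CForm.hermF F hq (k + (k + n'))).isIrr_hc_one hc.irr hc.cusp hc.dual hW₀
  have hχ1 : χ 1 = (dg (CForm.hermF F hq (k + (k + n'))) k : ℂ) := by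
    rw [hχd, (CForm.hermF F hq (k + (k + n'))).hc_one hcl (fun _ _ => 1) (d := 1) (fun _ _ => rfl), hc.deg, mul_one]
    unfold dg
    rw [Nat.cast_mul]
  refine ⟨χ ∘ (isoGU hq (k + (k + n'))).toMonoidHom,
    Core.isIrr_comp (isoGU hq (k + (k + n'))).toMonoidHom (isoGU hq (k + (k + n'))).surjective hχ, ?_, ?_⟩
  · change χ (isoGU hq (k + (k + n')) 1) = _
    rw [map_one, hχ1]
  · intro a
    change χ (isoGU hq (k + (k + n')) (scG _ F q a)) = χ (isoGU hq (k + (k + n')) 1) * _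
    rw [map_one]
    refine hc_scal (CForm.hermF F hq (k + (k + n'))) hcl (a := (a : Fˣ)) (fun v => ?_) (hcs a ((mem_rootsOfUnity _ _).1 a.2))
    rw [isoGU_apply, coe_scG]
    ext i
    rw [Matrix.mulVec_diagonal]
    rfl

end Cfsg.Agent.H929.RIM
end

-- part: H812/RIM/CusU
section
/-!
# S4816, RIM-L-PSU: cuspidal data for the unitary groups with prescribed central character (helper812)

`exists_cusU_mu` : for `|K| = q ^ 2`, `k ≥ 1` (`q ≥ 4` if `k = 1`) and `μ : Kˣ →* ℂˣ` there is a cuspidal irreducible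
character `c` of `GL_k(K)` which is not fixed by the twisted contragredient `A ↦ σ(A)⁻ᵀ`, the scalars of norm one acting
by `μ`.
-/

set_option autoImplicit false

open scoped ComplexConjugate
open Cfsg

namespace Cfsg.Agent.H812.RIM

open Cfsg.Agent.OddOrderCharacters.Clifford Cfsg.Agent.Characters MulAction Module Cfsg.Agent.H53.HC
open Cfsg.Agent.H139.Cusp Cfsg.Agent.H477.HC

universe u

theorem size_reg' {q k i a : ℕ} (hq : 2 ≤ q) (hi : 0 < i) (hik : i < k) (ha : 0 < a) (haq : a ≤ q + 1) :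
    ¬ ((q ^ 2) ^ k - 1) ∣ a * ((q ^ 2) ^ i - 1) := by
  intro h
  obtain ⟨h1, h2⟩ := H345.CusU.size_reg hq hi hik
  have h3 : 0 < (q ^ 2) ^ i - 1 := by
    have : 1 < (q ^ 2) ^ i := Nat.one_lt_pow hi.ne' (by nlinarith only [hq])
    omega
  have h4 := Nat.le_of_dvd (Nat.mul_pos ha h3) h
  have h5 : a * ((q ^ 2) ^ i - 1) ≤ (q + 1) * ((q ^ 2) ^ i - 1) := Nat.mul_le_mul_right _ haq
  omega

theorem size_dual' {q k i a : ℕ} (hq : 2 ≤ q) (hk : 2 ≤ k) (hik : i < k) (ha : 0 < a) (haq : a ≤ q + 1) :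
    ¬ ((q ^ 2) ^ k - 1) ∣ a * (q ^ 2) ^ i + a * q := by
  intro h
  have hkk : (q ^ 2) ^ k = (q ^ 2) ^ (k - 1) * q ^ 2 := by
    rw [← pow_succ]; congr 1; omega
  have hb : q ^ 2 ≤ (q ^ 2) ^ (k - 1) := by
    calc q ^ 2 = (q ^ 2) ^ 1 := (pow_one _).symm
      _ ≤ _ := Nat.pow_le_pow_right (by positivity) (by omega)
  have hq2 : q * 2 ≤ q ^ 2 := by nlinarith only [hq]
  rcases Nat.eq_zero_or_pos i with rfl | hi
  · rw [pow_zero, mul_one] at h
    have h1 := Nat.le_of_dvd (by positivity) h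
    have h0 : a + a * q ≤ (q + 1) + (q + 1) * q := Nat.add_le_add haq (Nat.mul_le_mul_right _ haq)
    set b := (q ^ 2) ^ (k - 1) with hbdef
    have h2 : q ^ 2 * q ^ 2 ≤ b * q ^ 2 := Nat.mul_le_mul_right _ hb
    have h3 : 4 * q ^ 2 ≤ q ^ 2 * q ^ 2 := Nat.mul_le_mul_right _ (by linarith only [hq, hq2])
    have h4 : q + 1 + (q + 1) * q = q ^ 2 + 2 * q + 1 := by ring
    rw [h4] at h0
    rw [hkk] at h1
    omega
  · -- remove the factor `q`
    have hco : Nat.Coprime ((q ^ 2) ^ k - 1) q := by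
      have h1 : q ∣ (q ^ 2) ^ k := dvd_pow (Dvd.intro_left q (by ring)) (by omega)
      obtain ⟨c, hc⟩ := h1
      have h2 : 1 ≤ (q ^ 2) ^ k := Nat.one_le_pow _ _ (by positivity)
      rw [Nat.coprime_iff_gcd_eq_one]
      have h3 : Nat.gcd ((q ^ 2) ^ k - 1) q ∣ (q ^ 2) ^ k - 1 := Nat.gcd_dvd_left _ _
      have h4 : Nat.gcd ((q ^ 2) ^ k - 1) q ∣ (q ^ 2) ^ k := (Nat.gcd_dvd_right _ _).trans ⟨c, hc⟩
      have h5 := (Nat.dvd_sub_iff_right (by omega) h4).1 h3
      exact Nat.dvd_one.1 h5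
    set b := (q ^ 2) ^ (k - 1) with hbdef
    obtain ⟨j, rfl⟩ : ∃ j, i = j + 1 := ⟨i - 1, by omega⟩
    have h6 : a * (q ^ 2) ^ (j + 1) + a * q = (a * ((q ^ 2) ^ j * q + 1)) * q := by
      rw [pow_succ]; ring
    rw [h6] at h
    have h7 := hco.dvd_of_dvd_mul_right h
    have h8 := Nat.le_of_dvd (by positivity) h7
    have h9 : (q ^ 2) ^ j * q ^ 2 ≤ b := by
      rw [← pow_succ]; exact Nat.pow_le_pow_right (by positivity) (by omega)
    set d := (q ^ 2) ^ j with hd
    have hd1 : 1 ≤ d := Nat.one_le_pow _ _ (by positivity)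
    have h0 : a * (d * q + 1) ≤ (q + 1) * (d * q + 1) := Nat.mul_le_mul_right _ haq
    have h10 : (q + 1) * (d * q + 1) = d * q ^ 2 + d * q + q + 1 := by ring
    rw [h10] at h0
    rw [hkk] at h8
    have h11 : d * q ^ 2 * 4 ≤ b * q ^ 2 := by
      calc d * q ^ 2 * 4 ≤ d * q ^ 2 * q ^ 2 := Nat.mul_le_mul_left _ (by linarith only [hq, hq2])
        _ ≤ b * q ^ 2 := Nat.mul_le_mul_right _ h9
    have h12 : d * q * 2 ≤ d * q ^ 2 := by
      have : d * (q * 2) ≤ d * q ^ 2 := Nat.mul_le_mul_left _ hq2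
      linarith only [this]
    have h13 : q ≤ d * q := Nat.le_mul_of_pos_left _ hd1
    have h14 : q ^ 2 ≤ d * q ^ 2 := Nat.le_mul_of_pos_left _ hd1
    (clear * - hq h8 h0 h11 h12 h13; omega)

/-- the cuspidal datum of `θ ^ a` -/
theorem cusU_of {K : Type u} [Field K] [Finite K] {q : ℕ} (hq : Nat.card K = q ^ 2) {k : ℕ} (hk0 : 0 < k)
    {L : Type} [Field L] [Finite L] [Algebra K L] (hL : Module.finrank K L = k) {θ : L →*₀ ℂ}
    (hθ : Function.Injective θ) {a : ℕ} (ha : a ≠ 0)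
    (hreg : ∀ i, 0 < i → i < k → ¬ ((q ^ 2) ^ k - 1) ∣ a * ((q ^ 2) ^ i - 1))
    (hdual : ∀ i, i < k → ¬ ((q ^ 2) ^ k - 1) ∣ a * (q ^ 2) ^ i + a * q) :
    ∃ c : GL (Fin k) K → ℂ, Cus K k (CForm.powHom hq) (fun z => z = 1) c ∧
      ∀ z : Kˣ, c (Matrix.GeneralLinearGroup.scalar (Fin k) z) = c 1 * θ (algebraMap K L (z : K)) ^ a := by
  classical
  have hq2 : 2 ≤ q := CForm.two_le_of_card hq
  have hcardL : Nat.card Lˣ = Nat.card K ^ k - 1 := by
    rw [Nat.card_units, Module.natCard_eq_pow_finrank (K := K), hL]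
  have hb : a * q ≠ 0 := Nat.mul_ne_zero ha (by omega)
  have hR : Regular K k (powTheta θ a ha) := (regular_powTheta_iff hθ ha hL).2 (by
    intro i hi hik h
    rw [hq] at h
    exact hreg i hi hik h)
  have hscal : ∀ z : Kˣ, psi L (powTheta θ a ha) (Matrix.GeneralLinearGroup.scalar (Fin k) z) =
      psi L (powTheta θ a ha) (1 : GL (Fin k) K) * θ (algebraMap K L (z : K)) ^ a := by
    intro z
    have h1 := psi_scalar (powTheta θ a ha) hL z 1
    rw [mul_one] at h1
    rw [h1, powTheta_apply, mul_comm]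
  refine ⟨psi L (powTheta θ a ha), ⟨psi_isIrr _ hL hR, psi_isCusp L _, ?_, ?_, ?_⟩, hscal⟩
  · intro h
    have h1 : ∀ g : ((Fin k → K) →ₗ[K] (Fin k → K))ˣ,
        cusp L (powTheta θ a ha) (g : (Fin k → K) →ₗ[K] (Fin k → K)) =
        cusp L (conjTheta (powTheta θ (a * q) hb)) (g : (Fin k → K) →ₗ[K] (Fin k → K)) := by
      intro g
      let A : GL (Fin k) K := Matrix.GeneralLinearGroup.toLin.symm g
      have h2 := congrFun h A
      rw [Function.comp_apply, MonoidHom.comp_apply,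
        H345.CusU.psi_map_pow (powTheta θ a ha) (powTheta θ (a * q) hb) hL hq
          (fun x => by rw [powTheta_apply, powTheta_apply, map_pow, ← pow_mul, mul_comm q]),
        psi_invT _ hL] at h2
      have h4 : ∀ θ₁ : L →*₀ ℂ, psi L θ₁ A = cusp L θ₁ (g : (Fin k → K) →ₗ[K] (Fin k → K)) := by
        intro θ₁
        have h5 : Matrix.GeneralLinearGroup.toLin A = g := MulEquiv.apply_symm_apply _ g
        rw [← h5]
        rfl
      rw [h4, h4, cusp_star] at h2
      exact h2.symm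
    obtain ⟨i, hi, h2⟩ := (cusp_eq_iff (V := Fin k → K) (powTheta θ a ha)
      (conjTheta (powTheta θ (a * q) hb))
      (by rw [Module.finrank_fin_fun, hL]) (by rw [hL]; exact hR)).1 h1
    rw [hL] at hi
    have h3 := (conj_powTheta_eq_iff hθ ha hb (pow_ne_zero i (Nat.card_pos (α := K)).ne')).1 h2
    rw [hcardL, hq] at h3
    exact hdual i hi h3
  · rintro z rfl
    rw [map_one]
  · rw [psi_one L _ hk0, degP_eq_Ico]

/-- **cuspidal data with prescribed central character** -/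
theorem exists_cusU_mu {K : Type u} [Field K] [Finite K] {q : ℕ} (hq : Nat.card K = q ^ 2) (k : ℕ) (hk : 1 ≤ k)
    (h1 : k = 1 → 4 ≤ q) (μ : Kˣ →* ℂˣ) :
    ∃ c : GL (Fin k) K → ℂ, Cus K k (CForm.powHom hq) (fun z => z = 1) c ∧
      ∀ z : Kˣ, z ^ (q + 1) = 1 → c (Matrix.GeneralLinearGroup.scalar (Fin k) z) = c 1 * (μ z : ℂ) := by
  classical
  have hq2 : 2 ≤ q := CForm.two_le_of_card hq
  obtain ⟨L, _, _, _, hL⟩ := exists_L K k hk
  obtain ⟨θ, hθ⟩ := exists_theta L
  obtain ⟨j, hj1, -, hj⟩ := H886.RIM.exists_pow_mu hθ μ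
  -- the exponent modulo `q + 1`
  have key : ∀ a : ℕ, a ≡ j [MOD q + 1] → ∀ z : Kˣ, z ^ (q + 1) = 1 → θ (algebraMap K L (z : K)) ^ a = (μ z : ℂ) := by
    intro a ha z hz
    rw [← hj z]
    have hz1 : θ (algebraMap K L (z : K)) ^ (q + 1) = 1 := by
      rw [← map_pow, ← map_pow, ← Units.val_pow_eq_pow_val, hz, Units.val_one, map_one, map_one]
    rw [← Nat.div_add_mod a (q + 1), ← Nat.div_add_mod j (q + 1), pow_add, pow_add, pow_mul, pow_mul, hz1, one_pow,
      one_pow, one_mul, one_mul]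
    congr 1
  set a₀ := (j - 1) % (q + 1) + 1 with ha₀
  have ha₀1 : 1 ≤ a₀ := by omega
  have ha₀q : a₀ ≤ q + 1 := by
    have := Nat.mod_lt (j - 1) (show 0 < q + 1 by omega)
    omega
  have ha₀j : a₀ ≡ j [MOD q + 1] := by
    have h2 : (j - 1) % (q + 1) ≡ j - 1 [MOD q + 1] := Nat.mod_modEq _ _
    have h3 := h2.add_right 1
    rwa [Nat.sub_add_cancel hj1] at h3
  rcases Nat.lt_or_ge 1 k with hk2 | hk2
  · obtain ⟨c, hc, hcz⟩ := cusU_of hq hk hL hθ (a := a₀) (by omega)
      (fun i hi hik => size_reg' hq2 hi hik ha₀1 ha₀q) (fun i hik => size_dual' hq2 hk2 hik ha₀1 ha₀q)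
    exact ⟨c, hc, fun z hz => by rw [hcz, key _ ha₀j z hz]⟩
  · obtain rfl : k = 1 := by omega
    have hq4 := h1 rfl
    obtain ⟨a, ha1, ha2, ha3⟩ : ∃ a, 1 ≤ a ∧ a ≡ j [MOD q + 1] ∧ ¬ (q - 1) ∣ a := by
      by_cases h2 : (q - 1) ∣ a₀
      · refine ⟨a₀ + (q + 1), by omega, ?_, fun h3 => ?_⟩
        · have : a₀ + (q + 1) ≡ a₀ [MOD q + 1] := Nat.add_modEq_right
          exact this.trans ha₀j
        · have h4 : (q - 1) ∣ q + 1 := (Nat.dvd_add_right h2).1 h3
          have h5 : (q - 1) ∣ 2 := by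
            have h6 : q + 1 = (q - 1) + 2 := by omega
            rw [h6] at h4
            exact (Nat.dvd_add_right dvd_rfl).1 h4
          have := Nat.le_of_dvd (by norm_num) h5
          omega
      · exact ⟨a₀, ha₀1, ha₀j, h2⟩
    obtain ⟨c, hc, hcz⟩ := cusU_of hq hk hL hθ (a := a) (by omega) (fun i hi hik => by omega) (fun i hik => by
      obtain rfl : i = 0 := by omega
      rw [pow_zero, pow_one, mul_one]
      intro h3
      apply ha3
      have h4 : q ^ 2 - 1 = (q - 1) * (q + 1) := by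
        have := Nat.sq_sub_sq q 1
        rw [one_pow, mul_comm] at this
        exact this
      have h5 : a + a * q = a * (q + 1) := by ring
      rw [h4, h5] at h3
      exact Nat.dvd_of_mul_dvd_mul_right (by omega) h3)
    exact ⟨c, hc, fun z hz => by rw [hcz, key _ ha2 z hz]⟩

end Cfsg.Agent.H812.RIM
end

-- part: H812/RIM/UNum
section
/-!
# S4816, RIM-L-PSU: the arithmetic of the Harish-Chandra degrees of `GU_n(q)` (helper812)

`U q n = ∏_{i ≤ n} (q^i - (-1)^i)`; the degree `D` of the character of `GU_n(q)` induced from `GL_k(q²) × GU_{n-2k}(q)`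
satisfies `D * ((q^(2k) - 1) * U q (n-2k)) = U q n` up to a power of `q`.

* `exists_k` : `n ≥ 4`, `p` an odd prime, `p ∣ U q n`, `p ∤ q`: there is `k` with `p ∣ c` for all `D = c * t`, `t ∣ q + 1`.
-/

set_option autoImplicit false

namespace Cfsg.Agent.H812.RIM

/-- `∏_{i ≤ n} (q^i - (-1)^i)` -/
def U (q n : ℕ) : ℕ := ∏ i ∈ Finset.range n, (if Even i then q ^ (i + 1) + 1 else q ^ (i + 1) - 1)

/-- the factor `q^i - (-1)^i` -/
def uf (q i : ℕ) : ℕ := if Even i then q ^ i - 1 else q ^ i + 1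

theorem U_succ (q n : ℕ) : U q (n + 1) = U q n * uf q (n + 1) := by
  rw [U, U, Finset.prod_range_succ, uf]
  congr 1
  by_cases h : Even n
  · rw [if_pos h, if_neg (by rw [Nat.not_even_iff_odd]; exact h.add_one)]
  · rw [if_neg h, if_pos (Nat.not_even_iff_odd.1 h).add_one]

theorem uf_cast {q : ℕ} (hq : 1 ≤ q) (i : ℕ) : ((uf q i : ℕ) : ℤ) = (-1) ^ i * ((-(q : ℤ)) ^ i - 1) := by
  rw [uf]
  have h1 : 1 ≤ q ^ i := Nat.one_le_pow _ _ hq
  by_cases h : Even i
  · rw [if_pos h, h.neg_pow, h.neg_pow, one_pow, one_mul]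
    push_cast [Nat.cast_sub h1]
    rfl
  · have h' := Nat.not_even_iff_odd.1 h
    rw [if_neg h, h'.neg_pow, h'.neg_pow, one_pow]
    push_cast
    ring

/-- divisibility of the factors -/
theorem uf_dvd {q : ℕ} (hq : 1 ≤ q) {a b : ℕ} (h : a ∣ b) : uf q a ∣ uf q b := by
  rw [← Int.natCast_dvd_natCast, uf_cast hq, uf_cast hq]
  obtain ⟨c, rfl⟩ := h
  have h1 : (-(q : ℤ)) ^ a - 1 ∣ (-(q : ℤ)) ^ (a * c) - 1 := by
    rw [pow_mul]
    simpa only [_root_.one_pow] using sub_dvd_pow_sub_pow ((-(q : ℤ)) ^ a) 1 c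
  have hu : IsUnit ((-1 : ℤ) ^ a) := (isUnit_one.neg).pow a
  exact (hu.mul_left_dvd).2 (h1.mul_left _)

theorem dvd_uf_iff {q : ℕ} (hq : 1 ≤ q) {p : ℕ} (i : ℕ) : p ∣ uf q i ↔ ((-(q : ZMod p)) ^ i = 1) := by
  rw [← Int.natCast_dvd_natCast, uf_cast hq]
  have hu : IsUnit ((-1 : ℤ) ^ i) := (isUnit_one.neg).pow i
  rw [hu.dvd_mul_left, ← ZMod.intCast_zmod_eq_zero_iff_dvd]
  push_cast
  rw [sub_eq_zero]

theorem prime_dvd_U {q : ℕ} {p : ℕ} (hp : p.Prime) {n : ℕ} (h : p ∣ U q n) : ∃ i, 1 ≤ i ∧ i ≤ n ∧ p ∣ uf q i := by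
  induction n with
  | zero =>
    rw [U, Finset.prod_range_zero] at h
    exact absurd (Nat.dvd_one.1 h) hp.one_lt.ne'
  | succ n ih =>
    rw [U_succ, hp.dvd_mul] at h
    rcases h with h | h
    · obtain ⟨i, h1, h2, h3⟩ := ih h
      exact ⟨i, h1, by omega, h3⟩
    · exact ⟨n + 1, by omega, le_rfl, h⟩

/-- the window -/
theorem U_add (q n m : ℕ) : U q (n + m) = U q n * ∏ j ∈ Finset.range m, uf q (n + j + 1) := by
  induction m with
  | zero => simp
  | succ m ih =>
    rw [← add_assoc, U_succ, ih, Finset.prod_range_succ, mul_assoc]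

theorem uf_pos {q : ℕ} (hq : 2 ≤ q) {i : ℕ} (hi : 1 ≤ i) : 0 < uf q i := by
  rw [uf]
  split_ifs
  · have : 1 < q ^ i := Nat.one_lt_pow (by omega) (by omega)
    omega
  · positivity

theorem U_pos {q : ℕ} (hq : 2 ≤ q) (n : ℕ) : 0 < U q n := by
  induction n with
  | zero => simp only [U, _root_.Finset.range_zero, _root_.Finset.prod_empty, _root_.Order.lt_one_iff]
  | succ n ih =>
    rw [U_succ]
    exact Nat.mul_pos ih (uf_pos hq (by omega))

/-- product of the window with two factors split off -/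
theorem prod_split {m : ℕ} (f : ℕ → ℕ) {a b : ℕ} (ha : a < m) (hb : b < m) (hab : a ≠ b) :
    f a * f b ∣ ∏ j ∈ Finset.range m, f j := by
  have h1 : ({a, b} : Finset ℕ) ⊆ Finset.range m := by
    intro x hx
    rw [Finset.mem_insert, Finset.mem_singleton] at hx
    rcases hx with rfl | rfl <;> rwa [Finset.mem_range]
  have h2 := Finset.prod_dvd_prod_of_subset _ _ f h1
  rwa [Finset.prod_pair hab] at h2

/-- **Case `e ∤ 2k`** -/
theorem dvd_of_not {q : ℕ} (hq : 2 ≤ q) {p : ℕ} (hp : p.Prime) {n k i : ℕ} (hkn : 2 * k ≤ n) (hi : n - 2 * k < i)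
    (hin : i ≤ n) (hpi : p ∣ uf q i) (hpk : ¬ p ∣ q ^ (2 * k) - 1) {D : ℕ}
    (hD : D * ((q ^ (2 * k) - 1) * U q (n - 2 * k)) = U q n) : p ∣ D := by
  have h1 : U q n = U q (n - 2 * k) * ∏ j ∈ Finset.range (2 * k), uf q (n - 2 * k + j + 1) := by
    rw [← U_add, Nat.sub_add_cancel hkn]
  rw [h1] at hD
  have h2 : D * (q ^ (2 * k) - 1) = ∏ j ∈ Finset.range (2 * k), uf q (n - 2 * k + j + 1) := by
    apply Nat.eq_of_mul_eq_mul_left (U_pos hq (n - 2 * k))
    rw [← hD]; ring
  have h3 : p ∣ ∏ j ∈ Finset.range (2 * k), uf q (n - 2 * k + j + 1) := by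
    have : i - (n - 2 * k) - 1 ∈ Finset.range (2 * k) := by rw [Finset.mem_range]; omega
    refine Dvd.dvd.trans ?_ (Finset.dvd_prod_of_mem _ this)
    rwa [show n - 2 * k + (i - (n - 2 * k) - 1) + 1 = i by omega]
  rw [← h2, hp.dvd_mul] at h3
  exact h3.resolve_right hpk

/-- **Case `e ∣ 2k`, `e ≠ 2k`**: two multiples of `e` in the window -/
theorem dvd_of_two {q : ℕ} (hq : 2 ≤ q) {m : ℕ} {n k i₀ i : ℕ} (hkn : 2 * k ≤ n) (hi₀ : n - 2 * k < i₀)
    (hi₀n : i₀ ≤ n) (hi : n - 2 * k < i) (hin : i ≤ n) (hne : i ≠ i₀) (hk : 1 ≤ k) (hki : 2 * k ∣ i₀) (hpi : m ∣ uf q i)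
    {D : ℕ} (hD : D * ((q ^ (2 * k) - 1) * U q (n - 2 * k)) = U q n) : m ∣ D := by
  have h1 : U q n = U q (n - 2 * k) * ∏ j ∈ Finset.range (2 * k), uf q (n - 2 * k + j + 1) := by
    rw [← U_add, Nat.sub_add_cancel hkn]
  rw [h1] at hD
  have h2 : D * (q ^ (2 * k) - 1) = ∏ j ∈ Finset.range (2 * k), uf q (n - 2 * k + j + 1) := by
    apply Nat.eq_of_mul_eq_mul_left (U_pos hq (n - 2 * k))
    rw [← hD]; ring
  have h3 := prod_split (m := 2 * k) (fun j => uf q (n - 2 * k + j + 1)) (a := i - (n - 2 * k) - 1)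
    (b := i₀ - (n - 2 * k) - 1) (by omega) (by omega) (by omega)
  rw [show n - 2 * k + (i - (n - 2 * k) - 1) + 1 = i by omega,
    show n - 2 * k + (i₀ - (n - 2 * k) - 1) + 1 = i₀ by omega, ← h2] at h3
  have h4 : m * (q ^ (2 * k) - 1) ∣ D * (q ^ (2 * k) - 1) := by
    refine (Nat.mul_dvd_mul hpi ?_).trans h3
    have := uf_dvd (q := q) (by omega) hki
    rwa [uf, if_pos (even_two_mul k)] at this
  have h5 : 0 < q ^ (2 * k) - 1 := by
    have : 1 < q ^ (2 * k) := Nat.one_lt_pow (by omega) (by omega)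
    omega
  exact Nat.dvd_of_mul_dvd_mul_right h5 h4

/-- the multiple of `r` in a window of length `r` -/
theorem exists_mult {r n : ℕ} (hr : 0 < r) (hn : r ≤ n) : ∃ i, n - r < i ∧ i ≤ n ∧ r ∣ i := by
  refine ⟨n / r * r, ?_, Nat.div_mul_le_self n r, Nat.dvd_mul_left _ _⟩
  have := Nat.lt_div_mul_add hr (a := n)
  omega

/-- `(q+1)³ ∣ D` for `2k ≥ 4` -/
theorem cube_dvd {q : ℕ} (hq : 2 ≤ q) {n k : ℕ} (hkn : 2 * k ≤ n) (hk : 2 ≤ k) {D : ℕ}
    (hD : D * ((q ^ (2 * k) - 1) * U q (n - 2 * k)) = U q n) : (q + 1) ^ (2 * k - 1) ∣ D := by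
  have h1 : U q n = U q (n - 2 * k) * ∏ j ∈ Finset.range (2 * k), uf q (n - 2 * k + j + 1) := by
    rw [← U_add, Nat.sub_add_cancel hkn]
  rw [h1] at hD
  have h2 : D * (q ^ (2 * k) - 1) = ∏ j ∈ Finset.range (2 * k), uf q (n - 2 * k + j + 1) := by
    apply Nat.eq_of_mul_eq_mul_left (U_pos hq (n - 2 * k))
    rw [← hD]; ring
  obtain ⟨i₀, h3, h4, h5⟩ := exists_mult (r := 2 * k) (n := n) (by omega) hkn
  have hmem : i₀ - (n - 2 * k) - 1 ∈ Finset.range (2 * k) := by rw [Finset.mem_range]; omega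
  rw [← Finset.mul_prod_erase _ _ hmem, show n - 2 * k + (i₀ - (n - 2 * k) - 1) + 1 = i₀ by omega] at h2
  have h6 : (q + 1) ^ (2 * k - 1) ∣ ∏ j ∈ (Finset.range (2 * k)).erase (i₀ - (n - 2 * k) - 1), uf q (n - 2 * k + j + 1) := by
    have h7 : ∏ j ∈ (Finset.range (2 * k)).erase (i₀ - (n - 2 * k) - 1), (q + 1) = (q + 1) ^ (2 * k - 1) := by
      rw [Finset.prod_const, Finset.card_erase_of_mem hmem, Finset.card_range]
    rw [← h7]
    apply Finset.prod_dvd_prod_of_dvd
    intro j _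
    have := uf_dvd (q := q) (by omega) (one_dvd (n - 2 * k + j + 1))
    rwa [uf, if_neg (by decide), pow_one] at this
  have h8 : q ^ (2 * k) - 1 ∣ uf q i₀ := by
    have := uf_dvd (q := q) (by omega) h5
    rwa [uf, if_pos (even_two_mul k)] at this
  have h5 : 0 < q ^ (2 * k) - 1 := by
    have : 1 < q ^ (2 * k) := Nat.one_lt_pow (by omega) (by omega)
    omega
  have h9 : (q + 1) ^ (2 * k - 1) * (q ^ (2 * k) - 1) ∣ D * (q ^ (2 * k) - 1) := by
    rw [h2, mul_comm]
    exact Nat.mul_dvd_mul h8 h6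
  exact Nat.dvd_of_mul_dvd_mul_right h5 h9

/-- the order of `-q` modulo `p` -/
theorem dvd_uf_iff_order {q : ℕ} (hq : 1 ≤ q) {p : ℕ} (i : ℕ) :
    p ∣ uf q i ↔ orderOf (-(q : ZMod p)) ∣ i := by
  rw [dvd_uf_iff hq, orderOf_dvd_iff_pow_eq_one]

/-- **The choice of `k`.** -/
theorem exists_k {q : ℕ} (hq : 2 ≤ q) {n : ℕ} (hn : 4 ≤ n) {p : ℕ} (hp : p.Prime) (hpU : p ∣ U q n) :
    ∃ k, 1 ≤ k ∧ 2 * k ≤ n ∧ (k = 1 → n ≤ 5 ∧ ¬ p ∣ q + 1) ∧
      ∀ D c t : ℕ, D * ((q ^ (2 * k) - 1) * U q (n - 2 * k)) = U q n → t ∣ q + 1 → D = c * t → p ∣ c := by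
  obtain ⟨i₁, hi1, hin, hpi⟩ := prime_dvd_U hp hpU
  set e := orderOf (-(q : ZMod p)) with he
  have hpe : ∀ i, p ∣ uf q i ↔ e ∣ i := fun i => dvd_uf_iff_order (by omega) i
  have he1 : e ∣ i₁ := (hpe _).1 hpi
  have hen : e ≤ n := (Nat.le_of_dvd (by omega) he1).trans hin
  have he0 : 0 < e := Nat.pos_of_ne_zero (by rintro h; rw [h] at he1; have := zero_dvd_iff.1 he1; omega)
  by_cases hp1 : p ∣ q + 1
  · -- `p ∣ q + 1`
    refine ⟨n / 2, by omega, by omega, fun h => by omega, fun D c t hD ht hc => ?_⟩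
    have h1 := cube_dvd hq (k := n / 2) (by omega) (by omega) hD
    obtain ⟨u, hu⟩ := ht
    have h2 : (q + 1) * (q + 1) ∣ c := by
      have h3 : (q + 1) ^ 3 ∣ D := (pow_dvd_pow _ (by omega)).trans h1
      have h4 : D * u = c * (q + 1) := by rw [hc, hu]; ring
      have h5 : (q + 1) ^ 3 ∣ c * (q + 1) := by rw [← h4]; exact h3.mul_right u
      rw [pow_succ, pow_two] at h5
      exact Nat.dvd_of_mul_dvd_mul_right (by omega) h5
    exact (hp1.trans (Nat.dvd_mul_right _ _)).trans h2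
  · have hred : ∀ {D c t : ℕ}, p ∣ D → t ∣ q + 1 → D = c * t → p ∣ c := by
      intro D c t h1 h2 h3
      rw [h3, hp.dvd_mul] at h1
      exact h1.resolve_right fun h => hp1 (h.trans h2)
    have he2 : e ≠ 1 := by
      intro h
      apply hp1
      have := (hpe 1).2 (by rw [h])
      rwa [uf, if_neg (by decide), pow_one] at this
    have hev : ∀ k, p ∣ q ^ (2 * k) - 1 ↔ e ∣ 2 * k := by
      intro k
      rw [← hpe, uf, if_pos (even_two_mul k)]
    -- the general argument for `k` with `e ∣ 2k → e ≠ 2k`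
    have gen : ∀ k, 1 ≤ k → 2 * k ≤ n → e ≠ 2 * k → (∃ i, n - 2 * k < i ∧ i ≤ n ∧ e ∣ i) →
        ∀ D c t : ℕ, D * ((q ^ (2 * k) - 1) * U q (n - 2 * k)) = U q n → t ∣ q + 1 → D = c * t → p ∣ c := by
      intro k hk hkn hne ⟨i, h1, h2, h3⟩ D c t hD ht hc
      refine hred ?_ ht hc
      by_cases hd : e ∣ 2 * k
      · obtain ⟨i₀, h4, h5, h6⟩ := exists_mult (r := 2 * k) (n := n) (by omega) hkn
        have hlt : e < 2 * k := lt_of_le_of_ne (Nat.le_of_dvd (by omega) hd) hne
        -- `i₀ - e` or `i₀ + e` is in the window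
        have hi₀e : e ∣ i₀ := hd.trans h6
        have h2e : 2 * e ≤ 2 * k := by
          obtain ⟨r, hr⟩ := hd
          have : 2 ≤ r := by
            by_contra hcon
            have : r = 0 ∨ r = 1 := by omega
            rcases this with rfl | rfl <;> omega
          calc 2 * e = e * 2 := by ring
            _ ≤ e * r := Nat.mul_le_mul_left _ this
            _ = 2 * k := hr.symm
        by_cases h7 : i₀ + e ≤ n
        · exact dvd_of_two hq hkn h4 h5 (i := i₀ + e) (by omega) h7 (by omega) hk h6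
            ((hpe _).2 (Dvd.dvd.add hi₀e dvd_rfl)) hD
        · exact dvd_of_two hq hkn h4 h5 (i := i₀ - e) (by omega) (by omega) (by omega) hk h6
            ((hpe _).2 (Nat.dvd_sub hi₀e dvd_rfl)) hD
      · exact dvd_of_not hq hp hkn h1 h2 ((hpe _).2 h3) (fun h => hd ((hev k).1 h)) hD
    by_cases hmain : e = 2 * (n / 2)
    · -- `e = n` or `e = n - 1` even
      by_cases h5 : n ≤ 5
      · refine ⟨1, le_rfl, by omega, fun _ => ⟨h5, hp1⟩, gen 1 le_rfl (by omega) (by omega) ⟨e, by omega, hen, dvd_rfl⟩⟩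
      · refine ⟨n / 2 - 1, by omega, by omega, fun h => by omega,
          gen (n / 2 - 1) (by omega) (by omega) (by omega) ⟨e, by omega, hen, dvd_rfl⟩⟩
    · refine ⟨n / 2, by omega, by omega, fun h => by omega, gen (n / 2) (by omega) (by omega) hmain ?_⟩
      exact ⟨e, by omega, hen, dvd_rfl⟩

/-- **`n = 3`**: `k = 1` unless `p ∣ q - 1` -/
theorem three {q : ℕ} (hq : 2 ≤ q) {p : ℕ} (hp : p.Prime) (hp3 : p ≠ 3) (hpU : p ∣ U q 3) (hp1 : ¬ p ∣ q - 1) :
    ∀ D c t : ℕ, D * ((q ^ (2 * 1) - 1) * U q (3 - 2 * 1)) = U q 3 → t ∣ 3 → D = c * t → p ∣ c := by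
  intro D c t hD ht hc
  have e1 : U q 1 = q + 1 := by rw [U_succ]; simp only [U, uf, _root_.Finset.range_zero, _root_.Finset.prod_empty, _root_.zero_add, _root_.Nat.not_even_one, ↓ _root_.reduceIte, _root_.pow_one, _root_.one_mul, _root_.Nat.add_left_cancel_iff]
  have e3 : U q 3 = (q + 1) * (q ^ 2 - 1) * (q ^ 3 + 1) := by
    rw [U_succ, U_succ, e1]
    simp only [uf, Nat.even_iff, _root_.Nat.reduceAdd, _root_.even_two, ↓ _root_.reduceIte, _root_.Nat.reduceMod, _root_.one_ne_zero]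
  have hq2 : q ^ 2 - 1 = (q + 1) * (q - 1) := by
    have := Nat.sq_sub_sq q 1
    simpa only [_root_.one_pow] using this
  have h0 : 0 < q ^ 2 - 1 := by
    rw [hq2]
    exact Nat.mul_pos (by omega) (by omega)
  have hD2 : D = q ^ 3 + 1 := by
    rw [show 3 - 2 * 1 = 1 from rfl, e1, e3, mul_one] at hD
    apply Nat.eq_of_mul_eq_mul_right (Nat.mul_pos h0 (show 0 < q + 1 by omega))
    rw [hD]
    ring
  have h4 : p ∣ D := by
    rw [e3, hp.dvd_mul, hp.dvd_mul, hq2, hp.dvd_mul] at hpU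
    rw [hD2]
    have h5 : q + 1 ∣ q ^ 3 + 1 := by
      have := Odd.nat_add_dvd_pow_add_pow q 1 (n := 3) (by decide)
      simpa only [_root_.one_pow] using this
    rcases hpU with (h | h | h) | h
    · exact h.trans h5
    · exact h.trans h5
    · exact absurd h hp1
    · exact h
  rw [hc, hp.dvd_mul] at h4
  exact h4.resolve_right fun h => hp3 ((Nat.prime_dvd_prime_iff_eq hp Nat.prime_three).1 (h.trans ht))

/-- exact division -/
theorem exists_D {q : ℕ} (hq : 2 ≤ q) {n k : ℕ} (hk : 1 ≤ k) (hkn : 2 * k ≤ n) :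
    ∃ D, D * ((q ^ (2 * k) - 1) * U q (n - 2 * k)) = U q n := by
  have h1 : U q n = U q (n - 2 * k) * ∏ j ∈ Finset.range (2 * k), uf q (n - 2 * k + j + 1) := by
    rw [← U_add, Nat.sub_add_cancel hkn]
  obtain ⟨i₀, h3, h4, h5⟩ := exists_mult (r := 2 * k) (n := n) (by omega) hkn
  have hmem : i₀ - (n - 2 * k) - 1 ∈ Finset.range (2 * k) := by rw [Finset.mem_range]; omega
  have h8 : q ^ (2 * k) - 1 ∣ ∏ j ∈ Finset.range (2 * k), uf q (n - 2 * k + j + 1) := by
    refine Dvd.dvd.trans ?_ (Finset.dvd_prod_of_mem _ hmem)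
    have := uf_dvd (q := q) (by omega) h5
    rw [uf, if_pos (even_two_mul k)] at this
    rwa [show n - 2 * k + (i₀ - (n - 2 * k) - 1) + 1 = i₀ by omega]
  obtain ⟨D, hD⟩ := h8
  exact ⟨D, by rw [h1, hD]; ring⟩

theorem dvd_of_frame {q : ℕ} (hq : 2 ≤ q) {n k : ℕ} (hk : 1 ≤ k) {D M : ℕ}
    (hD : D * ((q ^ (2 * k) - 1) * U q (n - 2 * k)) = U q n)
    (h : U q n ∣ M * ((q ^ (2 * k) - 1) * U q (n - 2 * k))) : D ∣ M := by
  rw [← hD] at h
  refine Nat.dvd_of_mul_dvd_mul_right (Nat.mul_pos ?_ (U_pos hq _)) h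
  have : 1 < q ^ (2 * k) := Nat.one_lt_pow (by omega) (by omega)
  omega

end Cfsg.Agent.H812.RIM
end

-- part: H812/RIM/UDeg
section
/-!
# S4816, RIM-L-PSU: the degree of the Harish-Chandra induced characters of `GU_n(q)` (helper812)

`dg_cond` : a divisibility condition on `D = ∏_{n-2k < i ≤ n} (q^i - (-1)^i) / (q^(2k) - 1)` holds for `dg (hermF) k`.
-/

set_option autoImplicit false

namespace Cfsg.Agent.H812.RIM

open Cfsg Cfsg.Agent.H477.HC

universe u

theorem uf_coprime {q : ℕ} (hq : 1 ≤ q) {i : ℕ} (hi : 1 ≤ i) : Nat.Coprime (uf q i) q := by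
  have h1 : q ∣ q ^ i := dvd_pow_self q (by omega)
  have h2 : 1 ≤ q ^ i := Nat.one_le_pow _ _ hq
  rw [Nat.coprime_iff_gcd_eq_one]
  have h3 : Nat.gcd (uf q i) q ∣ uf q i := Nat.gcd_dvd_left _ _
  have h4 : Nat.gcd (uf q i) q ∣ q ^ i := (Nat.gcd_dvd_right _ _).trans h1
  rw [uf] at h3
  apply Nat.dvd_one.1
  split_ifs at h3 with h5
  · rw [uf, if_pos h5]
    rw [uf, if_pos h5] at h4
    exact (Nat.dvd_sub_iff_right h2 h4).1 h3
  · rw [uf, if_neg h5]
    rw [uf, if_neg h5] at h4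
    exact (Nat.dvd_add_right h4).1 h3

theorem U_coprime {q : ℕ} (hq : 1 ≤ q) (n : ℕ) : Nat.Coprime (U q n) q := by
  induction n with
  | zero => simp only [U, _root_.Finset.range_zero, _root_.Finset.prod_empty, _root_.Nat.coprime_one_left_eq_true]
  | succ n ih =>
    rw [U_succ]
    exact Nat.Coprime.mul_left ih (uf_coprime hq (by omega))

/-- `U` and the product of the factors -/
theorem U_eq_prod (q n : ℕ) : U q n = ∏ i ∈ Finset.range n, uf q (i + 1) := by
  induction n with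
  | zero => simp only [U, _root_.Finset.range_zero, _root_.Finset.prod_empty]
  | succ n ih => rw [U_succ, ih, Finset.prod_range_succ]

/-- the frame: `U q n` divides `l ^ e * dg * ((q ^ (2k) - 1) * U q n')` -/
theorem U_dvd_dg {F : Type u} [Field F] [Fintype F] {q : ℕ} (hq : Nat.card F = q ^ 2) {l : ℕ} [Fact l.Prime]
    [CharP F l] {k n' : ℕ} (hk : 0 < k) :
    ∃ e, U q (k + (k + n')) ∣ l ^ e * dg (CForm.hermF F hq (k + (k + n'))) k * ((q ^ (2 * k) - 1) * U q n') := by
  obtain ⟨e, he⟩ := Cfsg.Agent.H113.PSU.Levi.dvd_dg hq (p := l) (k := k) (n' := n') hk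
  refine ⟨e, ?_⟩
  rw [U_eq_prod, ← Finset.prod_range_mul_prod_Ico _ (by omega : n' ≤ k + (k + n')), ← U_eq_prod]
  refine (Nat.mul_dvd_mul_left _ he).trans (dvd_of_eq ?_)
  ring

/-- **The degree condition.** -/
theorem dg_cond {F : Type u} [Field F] [Fintype F] {q : ℕ} (hq : Nat.card F = q ^ 2) {k n' : ℕ} (hk : 0 < k) {p T : ℕ}
    (h : ∀ D c t : ℕ, D * ((q ^ (2 * k) - 1) * U q n') = U q (k + (k + n')) → t ∣ T → D = c * t → p ∣ c) :
    ∀ c t : ℕ, t ∣ T → c * t = dg (CForm.hermF F hq (k + (k + n'))) k → p ∣ c := by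
  intro c t ht hct
  have hq2 : 2 ≤ q := CForm.two_le_of_card hq
  obtain ⟨l, hl⟩ := CharP.exists F
  have hlp : l.Prime := (CharP.char_is_prime_or_zero F l).resolve_right (CharP.char_ne_zero_of_finite F l)
  have : Fact l.Prime := ⟨hlp⟩
  obtain ⟨s, hs⟩ := card_pow F l
  have hlq : l ∣ q := by
    have h1 : l ∣ q ^ 2 := by
      rw [← hq, hs]
      apply dvd_pow_self
      rintro rfl
      rw [pow_zero] at hs
      have := Finite.one_lt_card (α := F)
      omega
    exact hlp.dvd_of_dvd_pow h1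
  obtain ⟨e, he⟩ := U_dvd_dg hq (l := l) (k := k) (n' := n') hk
  obtain ⟨D, hD⟩ := exists_D hq2 (n := k + (k + n')) (k := k) (by omega) (by omega)
  have hn' : k + (k + n') - 2 * k = n' := by omega
  rw [hn'] at hD
  have h1 : D ∣ l ^ e * dg (CForm.hermF F hq (k + (k + n'))) k := by
    have h2 := dvd_of_frame hq2 (n := k + (k + n')) (k := k) (by omega) (D := D)
      (M := l ^ e * dg (CForm.hermF F hq (k + (k + n'))) k) (by rw [hn']; exact hD) (by rw [hn']; exact he)
    exact h2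
  have hDl : Nat.Coprime D (l ^ e) := by
    have h3 : Nat.Coprime (U q (k + (k + n'))) l := (U_coprime (by omega) _).coprime_dvd_right hlq
    exact ((h3.coprime_dvd_left ⟨_, hD.symm⟩).pow_right e)
  have h4 : D ∣ c * t := by
    rw [hct]
    exact hDl.dvd_of_dvd_mul_left h1
  have hD0 : 0 < D := by
    rcases Nat.eq_zero_or_pos D with h | h
    · rw [h, zero_mul] at hD
      have := U_pos hq2 (k + (k + n'))
      omega
    · exact h
  have hg : 0 < Nat.gcd D t := Nat.gcd_pos_of_pos_left _ hD0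
  have h5 : D / Nat.gcd D t ∣ c := by
    have h6 : Nat.Coprime (D / Nat.gcd D t) (t / Nat.gcd D t) := Nat.coprime_div_gcd_div_gcd hg
    apply h6.dvd_of_dvd_mul_right
    apply Nat.dvd_of_mul_dvd_mul_right hg
    rw [mul_assoc, Nat.div_mul_cancel (Nat.gcd_dvd_left D t), Nat.div_mul_cancel (Nat.gcd_dvd_right D t)]
    exact h4
  exact (h D (D / Nat.gcd D t) (Nat.gcd D t) hD ((Nat.gcd_dvd_right D t).trans ht)
    (Nat.div_mul_cancel (Nat.gcd_dvd_left D t)).symm).trans h5

end Cfsg.Agent.H812.RIM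
end

-- part: H812/RIM/U3
section
/-!
# S4816, RIM-L-PSU: `PSU_3(q)`, `p ∣ q - 1` (helper812)

`nball_psu3` : from `H497.RIM.nb_psu3` and the Schur multiplier `S2089`.
-/

set_option autoImplicit false

namespace Cfsg.Agent.H812.RIM

open Cfsg Cfsg.Agent.H665.RIM

universe u

theorem nball_psu3 {F : Type u} [Field F] [Fintype F] {q : ℕ} (hF : Fintype.card F = q ^ 2) (hq : 2 < q) {p : ℕ}
    (hp : p.Prime) (hp2 : p ≠ 2) (hd : p ∣ q - 1) : NBall p (Cfsg.PSU 3 F q) := by
  intro m hm hpm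
  by_cases h : m ∣ Nat.gcd 3 (q + 1)
  · refine Cfsg.Agent.H497.RIM.nb_psu3 hF hq hp hp2 hd ?_ hpm
    have h1 : m ∣ q + 1 := h.trans (Nat.gcd_dvd_right _ _)
    exact Nat.Coprime.coprime_dvd_left h1 (by simp)
  · intro E _ _ π hπ hker hperf hcard l hl
    exfalso
    apply h
    have h2 := (Cfsg.Agent.H68.Bounds.ker_of_hasCyclic
      (Cfsg.Agent.S2089.result 3 q hF le_rfl (by omega) (by simp)) (π := π) ⟨hπ, hker, hperf⟩).2
    rwa [hcard] at h2

end Cfsg.Agent.H812.RIM
end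

-- part: H929/RIM/PsuRow
section
/-!
# S4816, RIM-L-PSU: the row (helper929, with the arithmetic and the cuspidal data of helper812)

`nb_psu` : `PSU_n(q)` at an odd prime `p ∤ q`, `(n, q) ≠ (4, 2), (4, 3), (6, 2)`; `row_psu` : the field `psu` of
`H325.RIM.RowsNB`.
-/

set_option autoImplicit false

namespace Cfsg.Agent.H929.RIM

open Cfsg Cfsg.Agent.H665.RIM Cfsg.Agent.H812.RIM Cfsg.Agent.H477.HC

universe u

variable {F : Type u} [Field F] [Fintype F] {q n : ℕ}

theorem dvd_U (hF : Fintype.card F = q ^ 2) {p : ℕ} (hp : p.Prime) (hpq : ¬ p ∣ q)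
    (hd : p ∣ Nat.card (PSU n F q)) : p ∣ U q n := by
  have h1 : Nat.card (PSU n F q) ∣ Nat.card (SU n F q) := Subgroup.card_quotient_dvd_card _
  have h2 : Nat.card (SU n F q) ∣ Nat.card (GU n F q) :=
    Subgroup.card_dvd_of_injective _ H113.PSU.Descent.toGU_injective
  have h3 := hd.trans (h1.trans h2)
  rw [Cfsg.Agent.S0277.result hF n] at h3
  exact (hp.dvd_mul.1 h3).resolve_left fun h => hpq (hp.dvd_of_dvd_pow h)

/-- the characters -/
theorem exists_gu (hF : Fintype.card F = q ^ 2) {k : ℕ} (hk : 1 ≤ k) (hkn : 2 * k ≤ n) (h1 : k = 1 → 4 ≤ q) {p T : ℕ}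
    (h : ∀ D c t : ℕ, D * ((q ^ (2 * k) - 1) * U q (n - 2 * k)) = U q n → t ∣ T → D = c * t → p ∣ c) (μ : Fˣ →* ℂˣ) :
    ∃ (χ : GU n F q → ℂ) (d : ℕ), IsIrrCharacter _ χ ∧ χ 1 = d ∧ (∀ c t : ℕ, t ∣ T → c * t = d → p ∣ c) ∧
      ∀ a : rootsOfUnity (q + 1) F, χ (scG n F q a) = χ 1 * (μ a : ℂˣ) := by
  have hq : Nat.card F = q ^ 2 := by rw [Nat.card_eq_fintype_card, hF]
  obtain ⟨c, hc, hcs⟩ := exists_cusU_mu hq k hk h1 μ
  obtain ⟨n', rfl⟩ : ∃ n', n = k + (k + n') := ⟨n - 2 * k, by omega⟩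
  obtain ⟨χ, hχ, hχ1, hχz⟩ := gu_char_mu (n' := n') hq hc μ hcs
  rw [show k + (k + n') - 2 * k = n' by omega] at h
  exact ⟨χ, _, hχ, hχ1, dg_cond hq hk h, hχz⟩

/-- **L-PSU** : `PSU_n(q)` at an odd prime `p ∤ q`. -/
theorem nb_psu (hF : Fintype.card F = q ^ 2) (hn : 3 ≤ n) (h3 : ¬ (n = 3 ∧ q = 2))
    (hexc : (n, q) ∉ ({(4, 2), (4, 3), (6, 2)} : Set (ℕ × ℕ))) {p : ℕ} (hp : p.Prime) (hp2 : p ≠ 2) (hpq : ¬ p ∣ q)
    (hd : p ∣ Nat.card (PSU n F q)) : NBall p (PSU n F q) := by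
  have hq2 : 2 ≤ q := ClassicalGeometry.GUBasic.two_le hF
  have hpU := dvd_U hF hp hpq hd
  have hexc' := hexc
  simp only [Set.mem_insert_iff, Set.mem_singleton_iff, Prod.mk.injEq, not_or] at hexc'
  obtain ⟨h42, h43, -⟩ := hexc'
  by_cases hn3 : n = 3
  · subst hn3
    have hq : 2 < q := by
      rcases Nat.lt_or_ge 2 q with h | h
      · exact h
      · exact absurd ⟨rfl, by omega⟩ h3
    by_cases hp1 : p ∣ q - 1
    · exact nball_psu3 hF hq hp hp2 hp1
    refine nball_psu_of_gu hF hn h3 hexc fun m hm1 hm hpm μ => ?_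
    have hm3 : m ∣ 3 := hm.trans (Nat.gcd_dvd_left _ _)
    have hm3' : m = 3 := ((Nat.dvd_prime Nat.prime_three).1 hm3).resolve_left (by omega)
    subst hm3'
    have h5 : 3 ∣ q + 1 := hm.trans (Nat.gcd_dvd_right _ _)
    have hp3 : p ≠ 3 := by rintro rfl; exact hpm dvd_rfl
    refine exists_gu hF (k := 1) le_rfl (by omega) (fun _ => by omega) (fun D c t hD ht hc => ?_) μ
    exact three hq2 hp hp3 hpU hp1 D c t hD (ht.trans (Nat.gcd_dvd_left _ _)) hc
  · refine nball_psu_of_gu hF hn h3 hexc fun m hm1 hm hpm μ => ?_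
    obtain ⟨k, hk, hkn, hk1, hD⟩ := exists_k hq2 (n := n) (by omega) hp hpU
    refine exists_gu hF hk hkn (fun h => ?_) (fun D c t h4 h5 h6 => hD D c t h4 (h5.trans (Nat.gcd_dvd_right _ _)) h6) μ
    obtain ⟨hn5, -⟩ := hk1 h
    have hmq : m ∣ q + 1 := hm.trans (Nat.gcd_dvd_right _ _)
    have hmn : m ∣ n := hm.trans (Nat.gcd_dvd_left _ _)
    by_contra hq4
    have hq' : q = 2 ∨ q = 3 := by omega
    have hn' : n = 4 ∨ n = 5 := by omega
    rcases hn' with rfl | rfl
    · rcases hq' with rfl | rfl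
      · exact h42 ⟨rfl, rfl⟩
      · exact h43 ⟨rfl, rfl⟩
    · have h5 : m = 5 := ((Nat.dvd_prime Nat.prime_five).1 hmn).resolve_left (by omega)
      subst h5
      rcases hq' with rfl | rfl
      · exact absurd hmq (by decide)
      · exact absurd hmq (by decide)

open Cfsg.Agent.H325.RIM Cfsg.Agent.OrdDiv in
/-- the field `psu` of `H325.RIM.RowsNB` -/
theorem row_psu (p n q : ℕ) (hp : p.Prime) (hp2 : p ≠ 2) (hpq : ¬ p ∣ q)
    (hexc : (n, q) ∉ ({(4, 2), (4, 3), (6, 2)} : Set (ℕ × ℕ))) : NBRow p (.psu n q) := by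
  intro S _ _ hS hd
  obtain ⟨⟨F, _, _, hF, ⟨e⟩⟩, ⟨hn, h3, -⟩, -, -⟩ := hS
  rw [Nat.card_congr e.toEquiv] at hd
  exact NBall.congr e (nb_psu hF hn h3 hexc hp hp2 hpq hd)

end Cfsg.Agent.H929.RIM
end

-- part: H325/RIM/Fill/D
section
/-!
# S4816: fields of `RowsNB` and `RowsKill`, fourth batch (helper325)
-/

set_option autoImplicit false
set_option linter.unusedSectionVars false

namespace Cfsg.Agent.H325.RIM

open Cfsg Cfsg.Agent.H665.RIM Cfsg.Agent.OrdDiv Cfsg.Agent.H436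

universe u

theorem f_psu : ∀ p n q : ℕ, p.Prime → p ≠ 2 → ¬ p ∣ q → (n, q) ∉ ({(4, 2), (4, 3), (6, 2)} : Set (ℕ × ℕ)) →
    NBRow p (.psu n q) :=
  fun p n q hp h2 hq hex => H929.RIM.row_psu p n q hp h2 hq hex

theorem f_g24 : NBRow 3 (.g2 4) := by
  intro S _ _ hS hd
  obtain ⟨F, _, _, hF, ⟨e⟩⟩ := hS.real
  exact H509.RIM.GTwo.nball_three hF e

end Cfsg.Agent.H325.RIM
end

private theorem dce_f7dd83736995 : _root_.True := by
  try have : _root_.True := by simp only [_root_.Cfsg.Agent.H812.RIM.U.eq_1]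
  try have : _root_.True := by simp only [_root_.Cfsg.Agent.H812.RIM.uf.eq_1]
  exact _root_.True.intro
end

-- part: H325/RIM/Fill/E
section
prune_inst 0x41540454007c001800000001250000e321700009000400800c8a4004407816c200902a0609c102108000080040039004000440020000000000000000001190180080086028108a10c040080800000410000000000000000000000000000000000004010000
set_option linter.all false
open scoped Cfsg.Agent.FastGrp

-- part: H57/RIM/OwnEx
section
set_option autoImplicit false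


/-!
# S4816, RIM-L-OWN: the exceptional groups in their own characteristic (helper57)

`own_e6`, `own_e7`, `own_te6` (fields of `H325/RIM/Surv.lean` `RowsNB`).
-/

namespace Cfsg.Agent.H57.RIM

open CoxeterSystem Cfsg.Agent.ChevalleyStructure.CoxeterGeom Cfsg.Agent.Tits.Roots Cfsg.Agent.Tits.Core
  Cfsg.Agent.Nodes.Reps Cfsg.Agent.Nodes.BNOf
open Cfsg.Agent.Nodes.Bruhat
open Cfsg.Agent.ChevalleyStructure.SL2Hom (up lo)
open Cfsg.Agent.H64.CrossChev (Nd nd isType_E6 isType_E7 parity_E7)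
open Cfsg.Agent.H665.RIM Cfsg.Agent.H325.RIM Cfsg.Agent.OrdDiv Cfsg.Agent.H436
open Cfsg.Agent.Nodes.RGDChev (HasRGD IsType)
open Cfsg.Agent.KFacts.MulOdd.Inst Cfsg.Agent.KFacts.MulOdd.InstChev
open scoped MatrixGroups

universe u v w

/-- `NBall` of a group with a root group datum and a homomorphism from `SL(2, E)` onto a rank one group -/
theorem nball_of_nd64 {l : ℕ} {M : CoxeterMatrix (Fin l)} {A : Fin l → Fin l → ℤ} {h : IsCartan M A} {p : ℕ}
    (hp : p.Prime) (hW : Finite M.Group) {S : Type u} [Group S] [Finite S] {T : Subgroup S} {n : Fin l → S}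
    {X : (Fin l → ℤ) → Subgroup S} (R : RGD M.toCoxeterSystem h p T n X)
    (hX : Nodes.RGDLib.G1 M.toCoxeterSystem h X = ⊤) {i : Fin l} {E : Type w} [Field E] [Finite E] [CharP E p]
    {φ : SL(2, E) →* S} (N : Nd T n X i φ) : NBall p S := by
  have : Fact p.Prime := ⟨hp⟩
  have hG : GG M.toCoxeterSystem h T X = ⊤ := by
    rw [eq_top_iff, ← hX]
    exact le_sup_right
  refine H963.RIM.nball_of_nd R hG ⟨l, M, A, h, T, n, X, hW, R, hX⟩ (MonoidHom.id S) Function.surjective_id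
    (fun x hx => by
      have hx' : x = 1 := hx
      rw [hx']
      exact Subgroup.one_mem _) ?_ (i := i) φ (fun t => (N.mem _).2 ⟨t, rfl⟩) (fun y hy => (N.mem y).1 hy) ?_ ?_
  · have h1 : (MonoidHom.id S).ker = ⊥ := by
      ext x
      exact Iff.rfl
    rw [h1, Subgroup.card_bot]
    exact Nat.coprime_one_left p
  · intro t
    refine (N.conj_eq R _).2 ⟨-t, ?_⟩
    rw [← Nodes.RGDFoldSL.lo_eq]
    rfl
  · intro x hx
    exact (injective_iff_map_eq_one φ).1 (N.injective R) x hx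

section chev

open Cfsg.Lie

variable {p : ℕ} (hp : p.Prime) {K : Type} [Field K] [Fintype K] [CharP K p]

include hp in
theorem nball_chev {D : ChevalleyDatum} {l : ℕ} {M : CoxeterMatrix (Fin l)} (ht : IsType D l M)
    (hpar : parity D l = true) (i : Fin l) : NBall p ↥(D.group K) := by
  have : Fact p.Prime := ⟨hp⟩
  exact nball_of_nd64 hp (Cfsg.Agent.Nodes.RGDChev.finite_W ht M.toCoxeterSystem)
    (Cfsg.Agent.Nodes.RGDChev.rgd (K := K) ht M.toCoxeterSystem p)
    (Cfsg.Agent.Nodes.RGDChev.G1_eq_top ht M.toCoxeterSystem) (_root_.Cfsg.Agent.H64.CrossChev.nd ht hpar K i)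

end chev

/-- the characteristic from the order of the field -/
theorem charP_of_dvd {p : ℕ} (hp : p.Prime) (F : Type*) [Field F] [Fintype F] (h : p ∣ Fintype.card F) : CharP F p := by
  obtain ⟨r, hr⟩ := CharP.exists F
  obtain ⟨n, hn, hc⟩ := FiniteField.card F r
  rw [hc] at h
  have h1 := (Nat.prime_dvd_prime_iff_eq hp hn).1 (hp.dvd_of_dvd_pow h)
  rw [h1]
  exact hr

theorem own_e6 : ∀ p q : ℕ, p.Prime → p ≠ 2 → p ∣ q → 3 ∣ q - 1 → NBRow p (.e6 q) := by
  intro p q hp _ hpq _ S _ _ hS _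
  obtain ⟨F, _, _, hF, ⟨e⟩⟩ := hS.real
  have := charP_of_dvd hp F (by rw [hF]; exact hpq)
  exact NBall.congr e (nball_chev hp isType_E6 parity_E6 0)

theorem own_e7 : ∀ p q : ℕ, p.Prime → p ≠ 2 → p ∣ q → NBRow p (.e7 q) := by
  intro p q hp _ hpq S _ _ hS _
  obtain ⟨F, _, _, hF, ⟨e⟩⟩ := hS.real
  have := charP_of_dvd hp F (by rw [hF]; exact hpq)
  exact NBall.congr e (nball_chev hp isType_E7 parity_E7 0)

theorem own_te6 : ∀ p q : ℕ, p.Prime → p ≠ 2 → p ∣ q → 3 ∣ q + 1 → NBRow p (.te6 q) := by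
  intro p q hp _ hpq _ S _ _ hS _
  obtain ⟨K, _, _, hK, ⟨e⟩⟩ := hS.real
  have : CharP K p := charP_of_dvd hp K (by rw [hK]; exact hpq.trans (dvd_pow_self q two_ne_zero))
  have : Fact p.Prime := ⟨hp⟩
  refine NBall.congr e ?_
  -- `q` is a power of `p`
  obtain ⟨b', -, hK'⟩ := FiniteField.card K p
  have hq : IsPrimePow q := by
    have h1 : q ∣ p ^ (b' : ℕ) := by
      rw [← hK', hK]
      exact dvd_pow_self q two_ne_zero
    obtain ⟨k, hk, rfl⟩ := (Nat.dvd_prime_pow hp).1 h1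
    refine (isPrimePow_nat_iff _).2 ⟨p, k, hp, ?_, rfl⟩
    rcases Nat.eq_zero_or_pos k with rfl | h2
    · rw [pow_zero] at hpq
      exact absurd (Nat.dvd_one.1 hpq) hp.one_lt.ne'
    · exact h2
  obtain ⟨φ, hφ, hqq⟩ := Cfsg.Agent.ChevalleyStructure.TwE6Basic.exists_frob hq hK
  have hch : CharP (Cfsg.Agent.Nodes.RGDFoldSL.Fx φ ((Nodes.RGDTwNode.E6.rest 0).length + 1)) p :=
    (RingHom.charP_iff (Cfsg.Agent.Nodes.RGDFoldSL.Fx φ _).subtype
      (Cfsg.Agent.Nodes.RGDFoldSL.Fx φ _).subtype_injective p).2 inferInstance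
  have hN :=
    Cfsg.Agent.H59.CrossTw.nd_fold (Nodes.RGDTwE6.foldGrp hφ hqq) (Nodes.RGDTwNode.E6.nodeOK 0) (φ := φ)
      (fun s hs t => by rw [Nodes.RGDTwNode.E6.eps_one 0 s hs, Int.cast_one, one_mul])
      (Cfsg.Agent.KFacts.MulOdd.InstTw.parityTw_spec Cfsg.Agent.KFacts.MulOdd.InstTw.parity_E6 0).choose_spec.1
      (Cfsg.Agent.KFacts.MulOdd.InstTw.parityTw_spec Cfsg.Agent.KFacts.MulOdd.InstTw.parity_E6 0).choose_spec.2
  have hW : Finite CoxeterMatrix.F₄.Group :=
    Cfsg.Agent.Nodes.RGDFold.finite_W (hp := isType_E6) CoxeterMatrix.F₄.toCoxeterSystem Nodes.RGDTwE6.isCartan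
      Nodes.RGDTwE6.foldData
  exact nball_of_nd64 hp hW
    (Nodes.RGDFold.rgd CoxeterMatrix.F₄.toCoxeterSystem Nodes.RGDTwE6.isCartan Nodes.RGDTwE6.foldData
      (Nodes.RGDTwE6.foldGrp hφ hqq) p)
    (Nodes.RGDFold.G1_eq_top CoxeterMatrix.F₄.toCoxeterSystem Nodes.RGDTwE6.isCartan Nodes.RGDTwE6.foldData
      (Nodes.RGDTwE6.foldGrp hφ hqq) p) hN

end Cfsg.Agent.H57.RIM
end

-- part: H57/RIM/OwnPlus
section
/-!
# S4816, RIM-L-OWN: `PΩ⁺_{2m}(q)` in its own characteristic (helper57)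

`own_oplus` (field of `H325/RIM/Surv.lean` `RowsNB`): `P = Ω⁺`, the rank one group of the node `0` acts on two hyperbolic planes,
a third plane is fixed, so it meets the centre of `Ω⁺` trivially.
-/

set_option autoImplicit false
set_option linter.unusedSectionVars false

namespace Cfsg.Agent.H57.RIM

open CoxeterSystem Cfsg.Agent.ChevalleyStructure.CoxeterGeom Cfsg.Agent.Tits.Roots Cfsg.Agent.Tits.Core
  Cfsg.Agent.Nodes.Reps Cfsg.Agent.Nodes.BNOf Cfsg.Agent.Nodes.Bruhat Cfsg.Agent.Nodes.RGDLib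
open QuadraticMap
open Cfsg.Agent.LieClassical Cfsg.Agent.LieClassical.OrthCore Cfsg.Agent.LieClassical.OrthTrans
open Cfsg.Agent.LieClassical.OrthSimple Cfsg.Agent.LieClassical.OrthFinite Cfsg.Agent.LieClassical.OrthForms
open Cfsg.Agent.TitsThree Cfsg.Agent.TitsThree.KSideO Cfsg.Agent.TitsThree.StdData
open Cfsg.Agent.Nodes Cfsg.Agent.Nodes.WittAll Cfsg.Agent.Nodes.WittInst Cfsg.Agent.Nodes.WittU
  Cfsg.Agent.TitsThree.Siegel Cfsg.Agent.TitsThree.SiegelGen
  Cfsg.Agent.TitsThree.WittFrame Cfsg.Agent.TitsThree.WBridge Cfsg.Agent.TitsThree.WittWeyl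
  Cfsg.Agent.TitsThree.FrameCN
open Cfsg.Agent.Nodes.WittRoot (Mono)
open Cfsg.Agent.Nodes.WittRGD (Tor b_ne_zero)
open Cfsg.Agent.OddHalf.LongSL.OrthPhi Cfsg.Agent.OddHalf.LongSL.Orth
open Cfsg.Agent.OddHalf.NI.Mult (up lo dg Coord)
open Cfsg
open Cfsg.Agent.H665.RIM Cfsg.Agent.H325.RIM Cfsg.Agent.OrdDiv Cfsg.Agent.H436
open scoped MatrixGroups Matrix

variable {K : Type} [Field K] [Fintype K]

/-- the root groups -/
abbrev XX (n : ℕ) (K : Type) [Field K] (x : Fin (n + 2) → ℤ) : Subgroup (E (plusForm (n + 2) K)) :=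
  (WittRGDD.rg (toFrame (wplus (n + 2) K)) x).subgroupOf (E (plusForm (n + 2) K))

seal _root_.Finset.sum _root_.dotProduct in
theorem nball_oplus {p : ℕ} (hp : p.Prime) (hp2 : p ≠ 2) [CharP K p] {l : ℕ} (hl : 4 ≤ l) :
    NBall p (POmega K (quadFormPlus l K)) := by
  classical
  have hpf : Fact p.Prime := ⟨hp⟩
  obtain ⟨d, rfl⟩ : ∃ d, l = d + 2 := ⟨l - 2, by omega⟩
  have hG : _root_.Cfsg.Agent.LieClassical.OrthTrans.Good (plusForm (d + 2) K) := by
    apply good_of_finite (nondeg_plusForm (d + 2) K)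
    rw [Module.finrank_fintype_fun_eq_card, Fintype.card_sum, Fintype.card_fin]
    omega
  have hS : Cfsg.Agent.Nodes.RGDChev.HasRGD p (POmega K (quadFormPlus (d + 2) K)) := by
    obtain ⟨e, rfl⟩ : ∃ e, d = e + 1 := ⟨d - 1, by omega⟩
    exact Cfsg.Agent.Nodes.WittInst.hasRGD_PO_plus (F := K) e (p := p)
  rw [← coe_plusForm] at hS ⊢
  have hfin : Finite ((Fin (d + 2) ⊕ Fin (d + 2) → K) ≃ₗ[K] (Fin (d + 2) ⊕ Fin (d + 2) → K)) :=
    Finite.of_injective (fun g : (Fin (d + 2) ⊕ Fin (d + 2) → K) ≃ₗ[K] (Fin (d + 2) ⊕ Fin (d + 2) → K) =>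
      (g : (Fin (d + 2) ⊕ Fin (d + 2) → K) → (Fin (d + 2) ⊕ Fin (d + 2) → K))) DFunLike.coe_injective
  have hA := amb_plus (F := K) (d + 2)
  have h0 := adm_plus (F := K) (d + 2)
  have hWf : Finite (TypeD.M d).Group := TypeD.finite_W (TypeD.M d).toCoxeterSystem
  have hR := rgd_restrict (rgdD hA h0 (TypeD.M d).toCoxeterSystem (p := p))
    (E (plusForm (d + 2) K)) (fun x _ => rgD_le _ hA x) (fun i => WittRGDD.nn_mem hA i)
  have hG1 : G1 (TypeD.M d).toCoxeterSystem (TypeD.isCartan d) (XX d K) = ⊤ := by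
    have h1 := G1D_eq_top (wplus (d + 2) K) (MonoidHom.id (E (plusForm (d + 2) K))) Function.surjective_id h0
      (TypeD.M d).toCoxeterSystem
    rw [← h1]
    congr 1
    funext x
    exact (Subgroup.map_id _).symm
  have hfinP : Finite (POmega K ⇑(plusForm (d + 2) K)) := Finite.of_surjective _ (toPOmega_surjective hG)
  -- the kernel acts by scalars `± 1`
  have hker : ∀ g : E (plusForm (d + 2) K), toPOmega hG g = 1 → ∃ c : K, (c = 1 ∨ c = -1) ∧
      ∀ v, (g : (Fin (d + 2) ⊕ Fin (d + 2) → K) ≃ₗ[K] (Fin (d + 2) ⊕ Fin (d + 2) → K)) v = c • v := by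
    intro g hg
    obtain ⟨c, hc⟩ := scalar_of_center hG (center_of_toPOmega hG hg)
    refine ⟨c, ?_, hc⟩
    obtain ⟨x, y, h⟩ := hG.exists_hyp
    have h1 : (plusForm (d + 2) K) (x + y) = 1 := by rw [Q_add, h.left, h.right, h.pair]; ring
    have h2 := mem_O.1 (E_le_O g.2) (x + y)
    rw [hc, QuadraticMap.map_smul, h1, smul_eq_mul, mul_one] at h2
    exact mul_self_eq_one_iff.1 h2
  have hcop : (Nat.card (toPOmega hG).ker).Coprime p := by
    have h1 : IsPGroup 2 (toPOmega hG).ker := by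
      rintro ⟨g, hg⟩
      refine ⟨1, ?_⟩
      obtain ⟨c, hc, hv⟩ := hker g hg
      apply Subtype.ext
      apply Subtype.ext
      apply LinearEquiv.ext
      intro v
      simp only [pow_one, pow_two]
      change (g : (Fin (d + 2) ⊕ Fin (d + 2) → K) ≃ₗ[K] (Fin (d + 2) ⊕ Fin (d + 2) → K))
        ((g : (Fin (d + 2) ⊕ Fin (d + 2) → K) ≃ₗ[K] (Fin (d + 2) ⊕ Fin (d + 2) → K)) v) = v
      rw [hv, hv, smul_smul]
      rcases hc with rfl | rfl <;> simp
    obtain ⟨k, hk⟩ := IsPGroup.iff_card.1 h1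
    rw [hk]
    exact Nat.Coprime.pow_left k (Nat.coprime_two_left.2 (hp.odd_of_ne_two hp2))
  have hGG : GG (TypeD.M d).toCoxeterSystem (TypeD.isCartan d)
      ((Tor (toFrame (wplus (d + 2) K)) (E (plusForm (d + 2) K))).subgroupOf (E (plusForm (d + 2) K))) (XX d K) = ⊤ := by
    rw [eq_top_iff, ← hG1]
    exact le_sup_right
  have hC := OddHalf.NI.OmegaPlus.coord (wplus (d + 2) K)
  have hup : ∀ y, y ∈ XX d K (sr 0) ↔ ∃ t, OddHalf.NI.OmegaPlus.s (wplus (d + 2) K) 0 (up t) = y := by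
    intro y
    exact Set.ext_iff.1 (hC.up 0) y
  have hlo : ∀ y, y ∈ XX d K (-sr 0) ↔ ∃ t, OddHalf.NI.OmegaPlus.s (wplus (d + 2) K) 0 (lo t) = y := by
    intro y
    exact Set.ext_iff.1 (hC.lo 0) y
  refine H963.RIM.nball_of_nd hR hGG hS (toPOmega hG) (toPOmega_surjective hG)
    (fun g hg => center_of_toPOmega hG hg) hcop (i := (0 : Fin (d + 2)))
    (OddHalf.NI.OmegaPlus.s (wplus (d + 2) K) 0) (fun t => (hup _).2 ⟨t, rfl⟩) (fun y hy => (hup y).1 hy)
    (fun t => (hlo _).2 ⟨t, rfl⟩) ?_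
  intro x hx
  obtain ⟨c, -, hv⟩ := hker _ hx
  -- a fixed frame vector
  have h3 : ((OddHalf.NI.OmegaPlus.s (wplus (d + 2) K) 0 x : E (plusForm (d + 2) K)) :
      (Fin (d + 2) ⊕ Fin (d + 2) → K) ≃ₗ[K] (Fin (d + 2) ⊕ Fin (d + 2) → K))
        ((toFrame (wplus (d + 2) K)).b (⟨2, by omega⟩, true)) =
      (toFrame (wplus (d + 2) K)).b (⟨2, by omega⟩, true) := by
    refine Phi_of_ne _ (TypeD.ok_nx 0) _ ?_ ?_
    · intro h
      have h4 := congrArg Fin.val h
      simp at h4
    · intro h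
      have h4 := congrArg Fin.val h
      unfold TypeD.nx at h4
      rw [dif_pos (by simp)] at h4
      simp at h4
  rw [hv] at h3
  have hc1 : c = 1 := by
    have h4 : (c - 1) • (toFrame (wplus (d + 2) K)).b (⟨2, by omega⟩, true) = 0 := by
      rw [sub_smul, one_smul, h3, sub_self]
    exact sub_eq_zero.1 ((smul_eq_zero.1 h4).resolve_right (b_ne_zero _))
  apply OddHalf.NI.OmegaPlus.phi_injective (wplus (d + 2) K) (TypeD.ok_nx 0)
  rw [map_one]
  apply Subtype.ext
  apply LinearEquiv.ext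
  intro v
  have h5 := hv v
  rw [hc1, one_smul] at h5
  exact h5

theorem own_oplus : ∀ p m q : ℕ, p.Prime → p ≠ 2 → p ∣ q → NBRow p (.oplus m q) := by
  intro p m q hp hp2 hpq S _ _ hS _
  obtain ⟨F, _, _, hF, ⟨e⟩⟩ := hS.real
  have hch := charP_of_dvd hp F (by rw [hF]; exact hpq)
  have hm : 4 ≤ m := hS.cond.1
  exact NBall.congr e (nball_oplus hp hp2 hm)

end Cfsg.Agent.H57.RIM
end

-- part: H929/RIM/OwnWitt
section
/-!
# S4816, own characteristic: the groups with a Witt frame of rank at least three (helper929)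

`nball_model` : `NBall p T₀` for a finite group `T₀` modelled on a Witt frame of rank `n ≥ 3` over a field of characteristic
`p` : the node `0` is `SL_2` on two hyperbolic planes, the third plane is fixed, so the homomorphism to `T₀` is injective.
-/

set_option autoImplicit false

namespace Cfsg.Agent.H929.RIM

open Cfsg Cfsg.Agent.H665.RIM Cfsg.Agent.H963.RIM
open CoxeterSystem Cfsg.Agent.ChevalleyStructure.CoxeterGeom Cfsg.Agent.Tits.Roots Cfsg.Agent.Tits.Core
  Cfsg.Agent.Nodes.Reps Cfsg.Agent.Nodes.BNOf Cfsg.Agent.Nodes.Bruhat Cfsg.Agent.Nodes.RGDLib Cfsg.Agent.Nodes.LeviDec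
open Cfsg.Agent.Nodes Cfsg.Agent.Nodes.WittRoot Cfsg.Agent.Nodes.WittRGD Cfsg.Agent.Nodes.WittAll Cfsg.Agent.Nodes.TypeC
open Cfsg.Agent.TitsThree.Siegel Cfsg.Agent.TitsThree.SiegelGen Cfsg.Agent.TitsThree.WittFrame Cfsg.Agent.TitsThree.FrameCN
open Cfsg.Agent.H911.SLTwo Cfsg.Agent.H62.FrameSL Cfsg.Agent.H948.Ppd
open scoped MatrixGroups

universe u v w

section gen

variable {K : Type w} [Field K] {V : Type v} [AddCommGroup V] [Module K V] {H : HForm K V} {n : ℕ}
  {Fr : Frame H (Fin n)} {T₀ : Type u} [Group T₀]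

/-- the node `i` and its next: `SL_2` on two hyperbolic planes -/
theorem exists_long (M : Model Fr T₀) {p : ℕ} (hA : AmbT Fr p M.I) {i : Fin n} (hi : (i : ℕ) + 1 < n)
    (hij : i ≠ ⟨i + 1, hi⟩) :
    ∃ σ : SL(2, K) →* M.I, (∀ g, (σ g : V ≃ₗ[K] V) = phiS Fr hij g) ∧
      Nd ((Tor Fr M.I).subgroupOf M.I) (fun x => (WittRoot.rg Fr x).subgroupOf M.I) i σ := by
  have hu : ∀ y, y ∈ WittRoot.rg Fr (sr i) ↔ ∃ t, phiS Fr hij (U t) = y := by
    intro y
    rw [rg_sr, PG_ne Fr (H61.SUNode.ne_nx hi), H61.SUNode.nx_of_lt hi, mem_XG]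
    exact exists_congr fun t => eq_comm.trans (iff_of_eq (congrArg (· = y) (phiS_up Fr hij t).symm))
  have hl : ∀ y, y ∈ WittRoot.rg Fr (-sr i) ↔ ∃ t, phiS Fr hij (Lo t) = y := by
    intro y
    rw [rg_neg_sr, PG_ne Fr (a := ng (i, true)) (b := ng (nx i)) (H61.SUNode.ne_nx hi),
      XG_swap Fr (a := ng (i, true)) (b := ng (nx i)) (H61.SUNode.ne_nx hi), H61.SUNode.nx_of_lt hi, mem_XG]
    exact exists_congr fun t => eq_comm.trans (iff_of_eq (congrArg (· = y) (phiS_lo Fr hij t).symm))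
  exact exists_nd hA.rg_le (phiS Fr hij) hu hl (phiS_hh hij)

/-- the kernel -/
theorem phiS_eq_one {i j k : Fin n} (hij : i ≠ j) (hik : i ≠ k) (hjk : j ≠ k) {g : SL(2, K)}
    (h : ∀ v : V, ∃ a : K, phiS Fr hij g v = a • v) : g = 1 := by
  have hk : phiS Fr hij g (Fr.b (k, true)) = Fr.b (k, true) := by
    rw [phiS_apply, linS_apply]
    simp only [H62.FrameSL.hn Fr hik.symm, H62.FrameSL.hn Fr hjk.symm]
    simp
  have key : ∀ l : Fin n, l ≠ k → phiS Fr hij g (Fr.b (l, true)) = Fr.b (l, true) := by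
    intro l hlk
    obtain ⟨a, ha⟩ := h (Fr.b (l, true))
    obtain ⟨c, hc⟩ := h (Fr.b (l, true) + Fr.b (k, true))
    rw [map_add, ha, hk, smul_add] at hc
    have h1 : a • Fr.b (l, true) + (1 : K) • Fr.b (k, true) = c • Fr.b (l, true) + c • Fr.b (k, true) := by
      rw [_root_.one_smul]; exact hc
    obtain ⟨h2, h3⟩ := indep Fr hlk h1
    rw [ha, h2, ← h3, _root_.one_smul]
  have h1 := key i hik
  have h2 := key j hjk
  rw [phiS_e] at h1
  rw [phiS_e'] at h2
  have h1' : g.1 0 0 • Fr.b (i, true) + g.1 1 0 • Fr.b (j, true) = (1 : K) • Fr.b (i, true) + (0 : K) • Fr.b (j, true) := by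
    rw [h1, _root_.one_smul, zero_smul, add_zero]
  have h2' : g.1 0 1 • Fr.b (i, true) + g.1 1 1 • Fr.b (j, true) = (0 : K) • Fr.b (i, true) + (1 : K) • Fr.b (j, true) := by
    rw [h2, _root_.one_smul, zero_smul, zero_add]
  obtain ⟨a1, a2⟩ := indep Fr hij h1'
  obtain ⟨a3, a4⟩ := indep Fr hij h2'
  apply Subtype.ext
  ext s t
  fin_cases s <;> fin_cases t
  · exact a1
  · exact a3
  · exact a2
  · exact a4

/-- **own characteristic, Witt models of rank at least three** -/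
theorem nball_model [Finite K] [Finite V] [Finite T₀] (M : Model Fr T₀) {p : ℕ} [Fact p.Prime] [CharP K p]
    (hA : AmbT Fr p M.I) {p0 : Fr.Adm} (hp0 : p0.c ≠ 0) (hn : 3 ≤ n) : NBall p T₀ := by
  have hS := hasRGD_C M hA hp0 (by omega)
  have R := rgdC_model M hA hp0 (CoxeterMatrix.B n).toCoxeterSystem
  have hWf : Finite (CoxeterMatrix.B n).Group := TypeC.finite_W (CoxeterMatrix.B n).toCoxeterSystem
  have hG1 := WittModel.G1_eq_top M (by omega : 0 < n) (CoxeterMatrix.B n).toCoxeterSystem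
  let i : Fin n := ⟨0, by omega⟩
  let k : Fin n := ⟨2, by omega⟩
  have hi : (i : ℕ) + 1 < n := by change 0 + 1 < n; omega
  have hij : i ≠ ⟨i + 1, hi⟩ := by
    intro e
    have := congrArg Fin.val e
    simp only at this
    omega
  obtain ⟨σ, hσ, N⟩ := exists_long M hA hi hij
  have hG : GG (CoxeterMatrix.B n).toCoxeterSystem (isCartan n) (WittModel.T M) (WittModel.X M) = ⊤ := by
    rw [eq_top_iff, ← hG1]
    exact le_sup_right
  refine nball_of_nd R hG hS (MonoidHom.id T₀) (fun x => ⟨x, rfl⟩) ?_ ?_ (i := i) (E := K) (M.φ.comp σ) ?_ ?_ ?_ ?_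
  · intro x hx
    rw [MonoidHom.mem_ker, MonoidHom.id_apply] at hx
    rw [hx]
    exact one_mem _
  · have h1 : (MonoidHom.id T₀).ker = ⊥ := by
      rw [MonoidHom.ker_eq_bot_iff]
      exact fun _ _ h => h
    rw [h1, Subgroup.card_bot]
    exact Nat.coprime_one_left p
  · intro t
    exact Subgroup.mem_map_of_mem _ ((N.up _).2 ⟨t, rfl⟩)
  · rintro _ ⟨y, hy, rfl⟩
    obtain ⟨t, ht⟩ := (N.up y).1 hy
    exact ⟨t, congrArg M.φ ht⟩
  · intro t
    exact Subgroup.mem_map_of_mem _ ((N.lo _).2 ⟨t, rfl⟩)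
  · intro x hx
    refine phiS_eq_one (Fr := Fr) (k := k) hij (fun e => ?_) (fun e => ?_) fun v => ?_
    · have := congrArg Fin.val e
      simp only [i, k] at this
      omega
    · have := congrArg Fin.val e
      simp only [i, k] at this
      omega
    · have h1 := M.ker v (σ x) hx
      rw [hσ] at h1
      exact h1

end gen

end Cfsg.Agent.H929.RIM
end

-- part: H929/RIM/OwnRows
section
/-!
# S4816, own characteristic: rows of the classical groups of rank at least three (helper929)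

`own_ominus`, `own_oodd` : the fields of `H325.RIM.RowsNB`; `nball_psp`, `nball_psu` : the ranks at least three.
-/

set_option autoImplicit false

namespace Cfsg.Agent.H929.RIM

open Cfsg Cfsg.Agent.H665.RIM Cfsg.Agent.H325.RIM Cfsg.Agent.OrdDiv
open Cfsg.Agent.Nodes.TypeC
open Cfsg.Agent.Nodes.WittU Cfsg.Agent.Nodes.WittInst Cfsg.Agent.Nodes.WittAll
open QuadraticMap
open Cfsg.Agent.LieClassical Cfsg.Agent.LieClassical.OrthCore Cfsg.Agent.LieClassical.OrthTrans
open Cfsg.Agent.LieClassical.OrthSimple Cfsg.Agent.LieClassical.OrthFinite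
open Cfsg.Agent.LieClassical.OrthForms
open Cfsg.Agent.TitsThree Cfsg.Agent.TitsThree.WBridge Cfsg.Agent.TitsThree.KSideO Cfsg.Agent.TitsThree.StdData

universe u

theorem charP_of_dvd {F : Type u} [Field F] [Fintype F] {p q k : ℕ} (hp : p.Prime) (hF : Fintype.card F = q ^ k)
    (hpq : p ∣ q) (hk : k ≠ 0) : CharP F p := by
  obtain ⟨r, hr⟩ := CharP.exists F
  have hrp : r.Prime := (CharP.char_is_prime_or_zero F r).resolve_right (CharP.char_ne_zero_of_finite F r)
  have : Fact r.Prime := ⟨hrp⟩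
  obtain ⟨s, -, hs⟩ := FiniteField.card F r
  have h1 : p ∣ r ^ (s : ℕ) := by
    rw [← hs, hF]
    exact hpq.trans (dvd_pow_self q hk)
  have h2 : p = r := (Nat.prime_dvd_prime_iff_eq hp hrp).1 (hp.dvd_of_dvd_pow h1)
  rw [h2]
  exact hr

theorem two_ne {F : Type u} [Field F] {p : ℕ} [hp : Fact p.Prime] [CharP F p] (hp2 : p ≠ 2) : (2 : F) ≠ 0 := by
  intro h
  have h1 : ((2 : ℕ) : F) = 0 := by exact_mod_cast h
  rw [CharP.cast_eq_zero_iff F p] at h1
  exact hp2 ((Nat.prime_dvd_prime_iff_eq hp.out Nat.prime_two).1 h1)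

theorem nball_odd {F : Type} [Field F] [Finite F] {m p : ℕ} [Fact p.Prime] [CharP F p] (hp2 : p ≠ 2) (hm : 3 ≤ m) :
    NBall p (Cfsg.POmega F (Cfsg.quadFormOdd m F)) := by
  have h2 := two_ne (F := F) hp2
  rw [← coe_oddForm]
  have hG : LieClassical.OrthTrans.Good (oddForm m F) := by
    apply good_of_finite (nondeg_oddForm m F h2)
    rw [Module.finrank_fintype_fun_eq_card, Fintype.card_sum, Fintype.card_sum, Fintype.card_fin,
      Fintype.card_unit]
    omega
  have hp : ((embOdd m F).ngt ⟨1, -1 ^ 2, rfl⟩).c ≠ 0 := by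
    change (1 : F)⁻¹ * (-1 ^ 2) ≠ 0
    simp
  exact nball_model (model (wodd m F) hG ⟨_, hp⟩) (AmbT.of_amb (amb_O_of_two _ h2) p) hp hm

theorem nball_minus {F : Type} [Field F] [Finite F] (a b : F)
    (hab : ∀ z₁ z₂ : F, z₁ ^ 2 + a * z₁ * z₂ + b * z₂ ^ 2 = 0 → z₁ = 0 ∧ z₂ = 0) {m p : ℕ} [Fact p.Prime] [CharP F p]
    (hp2 : p ≠ 2) (hm : 3 ≤ m) : NBall p (Cfsg.POmega F (Cfsg.quadFormMinus m F a b)) := by
  have h2 := two_ne (F := F) hp2
  rw [← coe_minusForm]
  have hG : LieClassical.OrthTrans.Good (minusForm m F a b) := by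
    apply good_of_finite (nondeg_minusForm m F a b hab)
    rw [Module.finrank_fintype_fun_eq_card, Fintype.card_sum, Fintype.card_sum, Fintype.card_fin,
      Fintype.card_fin]
    omega
  have hp : ((embMinus m F a b hab).ngt ⟨(1, 0), -nf a b (1, 0), rfl⟩).c ≠ 0 := by
    change (1 : F)⁻¹ * (-nf a b (1, 0)) ≠ 0
    simp [nf]
  exact nball_model (model (wminus m F a b hab) hG ⟨_, hp⟩) (AmbT.of_amb (amb_O_of_two _ h2) p) hp hm

/-- the field `own_oodd` of `RowsNB` -/
theorem own_oodd (p m q : ℕ) (hp : p.Prime) (hp2 : p ≠ 2) (hpq : p ∣ q) : NBRow p (.oodd m q) := by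
  intro S _ _ hS _
  obtain ⟨⟨F, _, _, hF, ⟨e⟩⟩, ⟨hm, -, -⟩, -, -⟩ := hS
  have : Fact p.Prime := ⟨hp⟩
  have : CharP F p := charP_of_dvd (k := 1) hp (by rw [hF, pow_one]) hpq one_ne_zero
  exact NBall.congr e (nball_odd hp2 hm)

/-- the field `own_ominus` of `RowsNB` -/
theorem own_ominus (p m q : ℕ) (hp : p.Prime) (hp2 : p ≠ 2) (hpq : p ∣ q) : NBRow p (.ominus m q) := by
  intro S _ _ hS _
  obtain ⟨⟨F, _, _, a, b, hF, hab, ⟨e⟩⟩, ⟨hm, -⟩, -, -⟩ := hS
  have : Fact p.Prime := ⟨hp⟩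
  have : CharP F p := charP_of_dvd (k := 1) hp (by rw [hF, pow_one]) hpq one_ne_zero
  exact NBall.congr e (nball_minus a b hab hp2 (by omega))

end Cfsg.Agent.H929.RIM
end

-- part: H655/RIM/U62
section
/-!
# S4816: `U6(2)`, `p = 3` (helper655)

* `nb_of` : `NB 3 2` from an element `x` of order 3 of `2.S` with `C(x) = 3 × 2 × SU_4(2)`;
* `two_of` : the kernel of a perfect central extension of `U6(2)` with a faithful linear character has order 1, 2, 3, 6;
* `nball_of` : `NBall 3 (PSU_6(2))`.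
-/

set_option autoImplicit false

namespace Cfsg.Agent.H655.RIM

open Cfsg Subgroup Cfsg.Agent.H665.RIM

universe u v

/-- the geometry (helper242) -/
def Geo {F : Type v} [Field F] [Fintype F] (E : Type u) [Group E] (π : E →* PSU 6 F 2) : Prop :=
  ∃ (x : E) (φ : Multiplicative (ZMod 3) × π.ker × SU 4 F 2 →* E), orderOf x = 3 ∧ Function.Injective φ ∧
    φ.range = Subgroup.centralizer {x} ∧ φ (Multiplicative.ofAdd 1, 1, 1) = x ∧ ∀ z : π.ker, φ (1, z, 1) = z

theorem card_psu6 {F : Type*} [Field F] [Fintype F] (hF : Fintype.card F = 4) : Nat.card (PSU 6 F 2) = 9196830720 := by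
  have h1 := Subgroup.card_mul_index (Subgroup.center (SU 6 F 2))
  rw [S0279.result (q := 2) (by rw [hF]; norm_num) 6 (by norm_num),
    H948.UProd.card_SU (q := 2) (by rw [hF]; norm_num) (by norm_num)] at h1
  have h3 : ¬ Even 3 := by decide
  have h5 : ¬ Even 5 := by decide
  have h4 : Even 4 := by decide
  simp only [H948.UProd.ph, Finset.prod_range_succ, h3, h4, h5, _root_.Nat.reduceAdd, _root_.Nat.reduceGcd, _root_.Nat.add_one_sub_one, _root_.Nat.reduceMul, _root_.Nat.reduceDiv, _root_.Nat.reducePow, _root_.Finset.range_one, _root_.Finset.prod_singleton, _root_.zero_add, _root_.Nat.not_even_one, ↓ _root_.reduceIte, _root_.even_two] at h1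
  have h2 : Nat.card (PSU 6 F 2) = (Subgroup.center (SU 6 F 2)).index := rfl
  rw [h2]
  omega

/-- **the character of degree divisible by 3** -/
theorem exists_dvd_of_geo {F : Type v} [Field F] [Fintype F] (hF : Fintype.card F = 4) {E : Type u} [Group E] [Finite E]
    {π : E →* PSU 6 F 2} (hs : Function.Surjective π) (hc : π.ker ≤ Subgroup.center E) (h2 : Nat.card π.ker = 2)
    (h : Geo E π) (l : π.ker →* ℂˣ) :
    ∃ χ : E → ℂ, IsIrrCharacter E χ ∧ (∀ z : π.ker, χ z = χ 1 * l z) ∧ 3 ∣ charDegree χ := by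
  obtain ⟨x, φ, hx, hinj, hr, hφx, hφz⟩ := h
  have : Fact (Nat.Prime 3) := ⟨Nat.prime_three⟩
  obtain ⟨χ, hχ, hχd⟩ := exists_eightyone hF
  have hl : IsIrrCharacter π.ker (fun z => ((l z : ℂˣ) : ℂ)) := Characters.Linear.isIrrCharacter_hom l
  have h1 : IsIrrCharacter (Multiplicative (ZMod 3)) (fun _ => (1 : ℂ)) :=
    Characters.Linear.isIrrCharacter_hom (1 : Multiplicative (ZMod 3) →* ℂˣ)
  have hψ1 := S0188.isIrr_outer hl hχ
  have hψ := S0188.isIrr_outer h1 hψ1
  let g : ↥(centralizer ({x} : Set E)) ≃* Multiplicative (ZMod 3) × π.ker × SU 4 F 2 :=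
    (MulEquiv.subgroupCongr hr.symm).trans (MonoidHom.ofInjective hinj).symm
  have hg : ∀ c : ↥(centralizer ({x} : Set E)), φ (g c) = c := by
    intro c
    have h4 := (MonoidHom.ofInjective hinj).apply_symm_apply (MulEquiv.subgroupCongr hr.symm c)
    exact congrArg Subtype.val h4
  have hgz : ∀ (z : E) (hz : z ∈ π.ker) (hz' : z ∈ centralizer ({x} : Set E)), g ⟨z, hz'⟩ = (1, ⟨z, hz⟩, 1) := by
    intro z hz hz'
    apply hinj
    rw [hg, hφz]
  have hθ := Characters.Core.isIrr_comp g.toMonoidHom g.surjective hψ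
  have hd : charDegree ((fun x : Multiplicative (ZMod 3) × π.ker × SU 4 F 2 =>
      (fun _ : Multiplicative (ZMod 3) => (1 : ℂ)) x.1 *
        (fun x : π.ker × SU 4 F 2 => ((l x.1 : ℂˣ) : ℂ) * χ x.2) x.2) ∘ g.toMonoidHom) = 81 := by
    apply Blocks.Basic.charDegree_of_eq
    have h5 := Blocks.Basic.irr_one_eq_charDegree hχ
    rw [hχd] at h5
    show (1 : ℂ) * (((l (g 1).2.1 : ℂˣ) : ℂ) * χ (g 1).2.2) = _
    rw [map_one]
    show (1 : ℂ) * (((l 1 : ℂˣ) : ℂ) * χ 1) = _
    rw [map_one, h5]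
    simp
  refine H35.RIM.exists_dvd_elt hc (by rw [h2]; norm_num) l hx ?_ _ hθ ?_ ?_
  · have h6 := Subgroup.card_mul_index π.ker
    rw [Subgroup.index_ker, MonoidHom.range_eq_top.2 hs, Subgroup.card_top, card_psu6 hF, h2] at h6
    rw [← h6]
    norm_num
  · intro z hz hz'
    show (1 : ℂ) * (((l (g ⟨z, hz'⟩).2.1 : ℂˣ) : ℂ) * χ (g ⟨z, hz'⟩).2.2) =
      (1 : ℂ) * (((l (g 1).2.1 : ℂˣ) : ℂ) * χ (g 1).2.2) * _
    rw [map_one, hgz z hz hz']
    show (1 : ℂ) * (((l ⟨z, hz⟩ : ℂˣ) : ℂ) * χ 1) = (1 : ℂ) * (((l 1 : ℂˣ) : ℂ) * χ 1) * _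
    rw [map_one]
    push_cast
    ring
  · rw [hd, Nat.card_congr g.toEquiv, Nat.card_prod, Nat.card_prod, h2, card_su4 hF,
      Nat.card_congr (Multiplicative.toAdd (α := ZMod 3)), Nat.card_zmod]
    rw [show (3 * (2 * 25920) : ℕ) = 3 ^ 5 * 640 by norm_num, show (81 : ℕ) = 3 ^ 4 by norm_num,
      Nat.factorization_mul (by norm_num) (by norm_num), Nat.Prime.factorization_pow Nat.prime_three,
      Nat.Prime.factorization_pow Nat.prime_three, Finsupp.add_apply, Finsupp.single_eq_same, Finsupp.single_eq_same,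
      Nat.factorization_eq_zero_of_not_dvd (by norm_num)]

theorem pow_six : ∀ a : Multiplicative (ZMod 3 × ZMod 2 × ZMod 2), a ^ 6 = 1 := by decide +kernel

/-- the kernels of order prime to 3 with a faithful linear character -/
theorem card_ker_eq_two {K : Type u} [Group K] [Finite K] (f : Multiplicative (ZMod 3 × ZMod 2 × ZMod 2) →* K)
    (hf : Function.Surjective f) (l : K →* ℂˣ) (hl : Function.Injective l) (h2 : 2 ≤ Nat.card K) (h3 : ¬ 3 ∣ Nat.card K) :
    Nat.card K = 2 := by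
  have hc : IsCyclic K := isCyclic_of_injective_ringHom ((Units.coeHom ℂ).comp l) (Units.val_injective.comp hl)
  obtain ⟨g, hg⟩ := hc.exists_generator
  have ho : orderOf g = Nat.card K := orderOf_eq_card_of_forall_mem_zpowers hg
  have h6 : g ^ 6 = 1 := by
    obtain ⟨a, rfl⟩ := hf g
    rw [← map_pow]
    have : a ^ 6 = 1 := pow_six a
    rw [this, map_one]
  have h7 : Nat.card K ∣ 6 := ho ▸ orderOf_dvd_of_pow_eq_one h6
  have h8 : Nat.Coprime (Nat.card K) 3 := ((Nat.coprime_comm).1 ((Nat.Prime.coprime_iff_not_dvd Nat.prime_three).2 h3))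
  have h9 : Nat.card K ∣ 2 := h8.dvd_of_dvd_mul_right (show Nat.card K ∣ 2 * 3 from h7)
  have := Nat.le_of_dvd (by norm_num) h9
  omega

/-- the statement of the geometry for all perfect extensions with kernel of order two -/
def GeoAll (F : Type v) [Field F] [Fintype F] : Prop :=
  ∀ (E : Type u) [Group E] [Finite E] (π : E →* PSU 6 F 2), Function.Surjective π → π.ker ≤ Subgroup.center E →
    commutator E = ⊤ → Nat.card π.ker = 2 → Geo E π

/-- **`NBall 3`** for `U6(2)` -/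
theorem nball_of_geo {F : Type v} [Field F] [Fintype F] (hF : Fintype.card F = 4) (hg : GeoAll.{u, v} F) {S : Type u}
    [Group S] (e : S ≃* PSU 6 F 2) : NBall 3 S := by
  intro m hm hpm E _ _ π' hs hc hp hcard l hl
  let π : E →* PSU 6 F 2 := e.toMonoidHom.comp π'
  have hk : π.ker = π'.ker := by
    ext x
    rw [MonoidHom.mem_ker, MonoidHom.mem_ker]
    exact (map_eq_one_iff _ e.injective :)
  have hs' : Function.Surjective π := e.surjective.comp hs
  have hc' : π.ker ≤ Subgroup.center E := by rw [hk]; exact hc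
  obtain ⟨f, hf⟩ := H487.HasSchurMultiplier.exists_surj_ker (S2091.result hF) (τ := π) ⟨hs', hc', by rw [hp]; exact le_top⟩
  let c : π.ker ≃* π'.ker := MulEquiv.subgroupCongr hk
  have h2 : Nat.card π.ker = 2 := by
    have h3 : Nat.card π.ker = m := by rw [Nat.card_congr c.toEquiv, hcard]
    exact card_ker_eq_two f hf (l.comp c.toMonoidHom) (hl.comp c.injective) (by omega) (by rw [h3]; exact hpm)
  obtain ⟨χ, h4, h5, h6⟩ := exists_dvd_of_geo hF hs' hc' h2 (hg E π hs' hc' hp h2) (l.comp c.toMonoidHom)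
  refine ⟨χ, h4, fun z => ?_, h6⟩
  have h7 := h5 (c.symm z)
  have h8 : (l.comp c.toMonoidHom) (c.symm z) = l z := by
    show l (c (c.symm z)) = l z
    rw [c.apply_symm_apply]
  rw [h8] at h7
  exact h7

end Cfsg.Agent.H655.RIM
end

-- part: H242/RIM/USix
section
/-!
# S4816, `U₆(2)`, `p = 3`: the centralizer `3 × 2 × U₄(2)` in the double cover (helper242)
-/

set_option autoImplicit false
set_option linter.unusedSectionVars false

namespace Cfsg.Agent.H242.RIM

open Cfsg Matrix Cfsg.Agent.LieClassical.SUBasic Cfsg.Agent.H494.PSURow Cfsg.Agent.H494.SLHom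
open Cfsg.Agent.KFacts.MulDef

universe u

variable {F : Type} [Field F] [Fintype F]

/-- `SU₄ → SU₅` -/
def i45 : SU 4 F 2 →* SU 5 F 2 := (blk 1 4 F 2).comp (MonoidHom.inr (SU 1 F 2) (SU 4 F 2))

/-- `SU₅ → SU₆` -/
def i56 : SU 5 F 2 →* SU 6 F 2 := (blk 1 5 F 2).comp (MonoidHom.inr (SU 1 F 2) (SU 5 F 2))

theorem i56_i45 (g : SU 4 F 2) : i56 (i45 g) = io g := by
  refine ext_mt fun i j => ?_
  rw [mt_io]
  fin_cases i <;> fin_cases j <;> rfl

theorem io_injective : Function.Injective (io (F := F)) := by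
  intro g h hgh
  have h1 : (1, g) = ((1, h) : SU 2 F 2 × SU 4 F 2) := blk_injective 2 4 2 hgh
  exact congrArg Prod.snd h1

/-- `x` commutes with `SU₄` -/
theorem xs_io {w : F} (hw : w ^ 3 = 1) (g : SU 4 F 2) : xs w hw * io g = io g * xs w hw := by
  refine ext_mt fun i j => ?_
  rw [mt_mul, mt_mul, mt_xs, diagonal_mul, mul_diagonal, mt_io]
  (revert i j; simp only [xv, mul_comm, _root_.Fin.forall_fin_succ, Fin.isValue, _root_.Matrix.of_apply, _root_.Matrix.cons_val', _root_.Matrix.cons_val_fin_one, _root_.mul_eq_mul_right_iff, _root_.Matrix.cons_val_zero, _root_.Matrix.cons_val_succ, _root_.forall_const, _root_.one_ne_zero, _root_.or_false, _root_.or_true, _root_.and_self, _root_.sq_eq_one_iff, _root_.true_or, _root_.implies_true])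

theorem center_five (hF : Fintype.card F = 2 ^ 2) : Subgroup.center (SU 5 F 2) = ⊥ := by
  rw [eq_bot_iff]
  intro A hA
  obtain ⟨c, hcn, hcq, rfl⟩ := (mem_center_SU_iff hF (by norm_num) A).1 hA
  have hc : c = 1 := by
    have h3 : c ^ 3 = 1 := hcq
    have h5 : c ^ 5 = 1 := hcn
    calc c = c ^ 5 * c := by rw [h5, one_mul]
      _ = (c ^ 3) ^ 2 := by ring
      _ = 1 := by rw [h3, one_pow]
  subst hc
  rw [Subgroup.mem_bot]
  refine Subtype.ext (Subtype.ext ?_)
  exact diagonal_one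

theorem noDouble_five (hF : Fintype.card F = 2 ^ 2) : NoDouble (SU 5 F 2) := by
  have h1 : NoDouble (PSU 5 F 2) := by
    have := KFacts.Mult.UnitLit.u5 F 1 le_rfl (by rw [hF]; norm_num)
    rwa [pow_one] at this
  exact h1.congr ((QuotientGroup.quotientMulEquivOfEq (center_five hF)).trans QuotientGroup.quotientBot)

/-- the projection -/
abbrev pr6 : SU 6 F 2 →* PSU 6 F 2 := QuotientGroup.mk' (Subgroup.center (SU 6 F 2))

theorem pr6_eq_one {A : SU 6 F 2} : pr6 A = 1 ↔ A ∈ Subgroup.center (SU 6 F 2) := by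
  rw [← MonoidHom.mem_ker, QuotientGroup.ker_mk']

/-- `x^k ι(g)` is scalar only if trivial -/
theorem inj_aux (hF : Fintype.card F = 2 ^ 2) {t : F} (ht : t ^ 3 = 1) {g : SU 4 F 2}
    (h : xs t ht * io g ∈ Subgroup.center (SU 6 F 2)) : t = 1 ∧ g = 1 := by
  obtain ⟨c, hcn, hcq, h1⟩ := (mem_center_SU_iff hF (by norm_num) _).1 h
  have h2 : ∀ i j, xv t i * mt (io g) i j = (diagonal (fun _ => c) : Matrix (Fin 6) (Fin 6) F) i j := by
    intro i j
    have h3 : mt (xs t ht * io g) i j = (diagonal (fun _ => c) : Matrix (Fin 6) (Fin 6) F) i j := by rw [h1]; rfl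
    rw [mt_mul, mt_xs, diagonal_mul] at h3
    exact h3
  have h00 : t = c := by
    have := h2 0 0
    rw [mt_io, diagonal_apply_eq] at this
    simpa only [xv, _root_.Fin.isValue, _root_.Matrix.cons_val_zero, _root_.Matrix.of_apply, _root_.Matrix.cons_val', _root_.Matrix.cons_val_fin_one, _root_.mul_one] using this
  have h11 : t ^ 2 = c := by
    have := h2 1 1
    rw [mt_io, diagonal_apply_eq] at this
    simpa only [xv, _root_.Fin.isValue, _root_.Matrix.cons_val_one, _root_.Matrix.cons_val_zero, _root_.Matrix.of_apply, _root_.Matrix.cons_val', _root_.Matrix.cons_val_fin_one, _root_.mul_one] using this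
  have ht0 : t ≠ 0 := by
    intro h; rw [h] at ht; simp at ht
  have ht1 : t = 1 := by
    have h3 : t * (t - 1) = 0 := by linear_combination h11 - h00
    exact sub_eq_zero.1 ((mul_eq_zero.1 h3).resolve_left ht0)
  refine ⟨ht1, ?_⟩
  subst ht1
  have h4 : io g = 1 := by
    refine ext_mt fun i j => ?_
    have h5 := h2 i j
    rw [← h00] at h5
    have h6 : xv (1 : F) i = 1 := by fin_cases i <;> simp [xv]
    rw [h6, one_mul] at h5
    rw [h5]
    exact congrFun (congrFun diagonal_one i) j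
  exact io_injective (by rw [h4, map_one])

theorem geo {E : Type u} [Group E] [Finite E] {F : Type} [Field F] [Fintype F] (hF : Fintype.card F = 4)
    (π : E →* PSU 6 F 2) (hs : Function.Surjective π) (hc : π.ker ≤ Subgroup.center E) (hp : commutator E = ⊤)
    (h2 : Nat.card π.ker = 2) :
    ∃ (x : E) (φ : Multiplicative (ZMod 3) × π.ker × SU 4 F 2 →* E), orderOf x = 3 ∧ Function.Injective φ ∧
      φ.range = Subgroup.centralizer {x} ∧ φ (Multiplicative.ofAdd 1, 1, 1) = x ∧ ∀ z : π.ker, φ (1, z, 1) = z := by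
  classical
  have hF' : Fintype.card F = 2 ^ 2 := hF
  have hzz : ∀ z ∈ π.ker, z * z = 1 := by
    intro z hz
    have h3 : (⟨z, hz⟩ : π.ker) ^ Nat.card π.ker = 1 := pow_card_eq_one'
    rw [h2, pow_two] at h3
    exact congrArg Subtype.val h3
  have hcc : ∀ z ∈ π.ker, ∀ e : E, z * e = e * z := fun z hz e => (Subgroup.mem_center_iff.1 (hc hz) e).symm
  -- the double cover
  obtain ⟨c, hck, hcne, hcu⟩ : ∃ c ∈ π.ker, c ≠ 1 ∧ ∀ z ∈ π.ker, z = 1 ∨ z = c := by
    obtain ⟨a, b, hab, huniv⟩ := Nat.card_eq_two_iff.1 h2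
    have hall : ∀ z : π.ker, z = a ∨ z = b := by
      intro z
      have : z ∈ ({a, b} : Set π.ker) := by rw [huniv]; trivial
      exact this
    rcases hall 1 with h | h
    · refine ⟨b, b.2, fun h3 => hab (h.symm.trans (Subtype.ext h3.symm)), fun z hz => ?_⟩
      rcases hall ⟨z, hz⟩ with h4 | h4
      · left; exact congrArg Subtype.val (h4.trans h.symm)
      · right; exact congrArg Subtype.val h4
    · refine ⟨a, a.2, fun h3 => hab ((Subtype.ext h3 : a = 1).trans h), fun z hz => ?_⟩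
      rcases hall ⟨z, hz⟩ with h4 | h4
      · right; exact congrArg Subtype.val h4
      · left; exact congrArg Subtype.val (h4.trans h.symm)
  have hd : Dbl π c :=
    { ne := hcne
      sq := hzz c hck
      cen := hcc c hck
      perf := hp
      surj := hs
      ker := fun y => ⟨fun h => hcu y h, by
        rintro (rfl | rfl)
        · exact (map_one π :)
        · exact hck⟩ }
  -- the lift of `SU₅`
  obtain ⟨s, hs5⟩ := Cfsg.Agent.KFacts.MulLift.exists_lift_of_noDouble (K := SU 5 F 2)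
    (LieClassical.HermPerfect.commutator_SU_eq_top hF' (by norm_num) (by norm_num)) (noDouble_five hF')
    (pr6.comp i56) hd
  set! j : SU 4 F 2 →* E := s.comp i45 with hj
  have hjπ : ∀ g, π (j g) = pr6 (io g) := by
    intro g
    rw [hj, MonoidHom.comp_apply, hs5, MonoidHom.comp_apply, i56_i45]
  -- the element `x`
  obtain ⟨w, hw0, hw1⟩ : ∃ w : F, w ≠ 0 ∧ w ≠ 1 := by
    by_contra hcon
    push Not at hcon
    have h3 : Fintype.card F ≤ Fintype.card Bool := by
      refine Fintype.card_le_of_injective (fun a : F => decide (a = 0)) ?_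
      intro a b hab
      simp only [decide_eq_decide] at hab
      by_cases ha : a = 0
      · rw [ha, hab.1 ha]
      · rw [hcon a ha, hcon b fun h => ha (hab.2 h)]
    rw [hF, Fintype.card_bool] at h3
    omega
  have hw : w ^ 3 = 1 := pow_three hF' hw0
  obtain ⟨y, hy⟩ := hs (pr6 (xs w hw))
  have hx3 : (pr6 (xs w hw) : PSU 6 F 2) ^ 3 = 1 := by
    rw [← map_pow, xs_pow]
    have h3 : xs (w ^ 3) (by rw [← pow_mul, pow_mul', hw, one_pow]) = (1 : SU 6 F 2) := by
      refine Subtype.ext (Subtype.ext ?_)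
      show diagonal (xv (w ^ 3)) = (1 : Matrix (Fin 6) (Fin 6) F)
      rw [hw, ← diagonal_one]
      congr 1
      funext i
      (revert i; simp only [xv, _root_.Fin.forall_fin_succ, _root_.one_pow, Fin.isValue, _root_.Matrix.cons_val_zero, _root_.Matrix.cons_val_succ, _root_.Matrix.cons_val_fin_one, _root_.implies_true, _root_.and_self])
    rw [h3, map_one]
  set! x : E := y ^ 4 with hx
  have hπx : π x = pr6 (xs w hw) := by
    rw [hx, map_pow, hy, pow_succ, hx3, one_mul]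
  have hy3 : y ^ 3 ∈ π.ker := by
    rw [MonoidHom.mem_ker, map_pow, hy, hx3]
  have hxc : x ^ 3 = 1 := by
    have h3 := hzz _ hy3
    rw [hx, ← pow_mul]
    calc y ^ (4 * 3) = (y ^ 3 * y ^ 3) * (y ^ 3 * y ^ 3) := by
          rw [← pow_add, ← pow_add]
      _ = 1 := by rw [h3, one_mul]
  -- `x` and `j g` commute
  have hxj : ∀ g, x * j g = j g * x := by
    intro g
    set! ε := x * j g * x⁻¹ * (j g)⁻¹ with hε
    have hεk : ε ∈ π.ker := by
      rw [MonoidHom.mem_ker, hε, map_mul, map_mul, map_mul, map_inv, map_inv, hπx, hjπ, ← map_mul, xs_io, map_mul]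
      group
    have hεc := hcc ε hεk
    have hε2 := hzz ε hεk
    have h1 : x * j g * x⁻¹ = ε * j g := by rw [hε]; group
    have h3 : x ^ 3 * j g * (x ^ 3)⁻¹ = ε * ε * ε * j g := by
      calc x ^ 3 * j g * (x ^ 3)⁻¹ = x * (x * (x * j g * x⁻¹) * x⁻¹) * x⁻¹ := by
            simp only [pow_succ, pow_zero, one_mul, _root_.mul_inv_rev, mul_assoc]
        _ = x * (x * (ε * j g) * x⁻¹) * x⁻¹ := by rw [h1]
        _ = x * (ε * (x * j g * x⁻¹)) * x⁻¹ := by
            congr 2
            rw [← mul_assoc x ε, ← hεc x]; group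
        _ = x * (ε * (ε * j g)) * x⁻¹ := by rw [h1]
        _ = ε * ε * (x * j g * x⁻¹) := by
            have h5 : x * (ε * (ε * j g)) * x⁻¹ = x * (ε * ε) * (j g * x⁻¹) := by group
            have h6 : x * (ε * ε) = ε * ε * x := by
              rw [← mul_assoc, ← hεc x, mul_assoc, ← hεc x, ← mul_assoc]
            rw [h5, h6]; group
        _ = ε * ε * ε * j g := by rw [h1, ← mul_assoc]
    rw [hxc, hε2, one_mul, one_mul, inv_one, mul_one] at h3
    have h4 : ε = 1 := by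
      have := mul_right_cancel ((one_mul (j g)).trans h3)
      exact this.symm
    rw [h4, one_mul] at h1
    calc x * j g = x * j g * x⁻¹ * x := by group
      _ = j g * x := by rw [h1]
  -- the map
  let f0 : ZMod 3 →+ Additive E := ZMod.lift 3 ⟨zmultiplesHom (Additive E) (Additive.ofMul x), by
    rw [zmultiplesHom_apply]
    show ((3 : ℤ) • Additive.ofMul x : Additive E) = 0
    rw [← ofMul_zpow]
    have : x ^ (3 : ℤ) = 1 := by exact_mod_cast hxc
    rw [this]; rfl⟩
  let f1 : Multiplicative (ZMod 3) →* E := AddMonoidHom.toMultiplicativeLeft f0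
  have hf1 : ∀ k : ℕ, f1 (Multiplicative.ofAdd (k : ZMod 3)) = x ^ k := by
    intro k
    show Additive.toMul (f0 (k : ZMod 3)) = x ^ k
    have h3 : f0 ((k : ℤ) : ZMod 3) = (zmultiplesHom (Additive E) (Additive.ofMul x)) (k : ℤ) := ZMod.lift_coe 3 _ _
    rw [Int.cast_natCast] at h3
    rw [h3, zmultiplesHom_apply, natCast_zsmul]
    rfl
  have hf1' : ∀ t : Multiplicative (ZMod 3), ∃ k : ℕ, t = Multiplicative.ofAdd (k : ZMod 3) := by
    intro t
    exact ⟨(Multiplicative.toAdd t).val, by rw [ZMod.natCast_zmod_val]; rfl⟩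
  have hf1x : ∀ (t : Multiplicative (ZMod 3)) (e : E), x * e = e * x → f1 t * e = e * f1 t := by
    intro t e he
    obtain ⟨k, rfl⟩ := hf1' t
    rw [hf1]
    exact ((show Commute x e from he).pow_left k).eq
  let φ : Multiplicative (ZMod 3) × π.ker × SU 4 F 2 →* E :=
    { toFun := fun t => f1 t.1 * ((t.2.1 : E) * j t.2.2)
      map_one' := by simp only [_root_.Prod.fst_one, _root_.map_one, _root_.Prod.snd_one, _root_.OneMemClass.coe_one, _root_.mul_one]
      map_mul' := by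
        rintro ⟨t, z, g⟩ ⟨t', z', g'⟩
        show f1 (t * t') * (((z * z' : π.ker) : E) * j (g * g')) =
          f1 t * ((z : E) * j g) * (f1 t' * ((z' : E) * j g'))
        rw [map_mul, map_mul, Subgroup.coe_mul]
        have h3 := hf1x t' ((z : E) * j g) (by
          rw [← mul_assoc, ← hcc z z.2 x, mul_assoc, hxj, ← mul_assoc])
        have h4 := hcc z' z'.2 (j g)
        calc f1 t * f1 t' * ((z : E) * z' * (j g * j g')) = f1 t * (f1 t' * ((z : E) * ((z' : E) * j g) * j g')) := by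
              simp only [mul_assoc]
          _ = f1 t * (f1 t' * ((z : E) * (j g * (z' : E)) * j g')) := by rw [h4]
          _ = f1 t * (f1 t' * ((z : E) * j g) * ((z' : E) * j g')) := by simp only [mul_assoc]
          _ = f1 t * ((z : E) * j g * f1 t' * ((z' : E) * j g')) := by rw [h3]
          _ = f1 t * ((z : E) * j g) * (f1 t' * ((z' : E) * j g')) := by simp only [mul_assoc] }
  have hφ : ∀ (k : ℕ) (z : π.ker) (g : SU 4 F 2), φ (Multiplicative.ofAdd (k : ZMod 3), z, g) = x ^ k * ((z : E) * j g) := by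
    intro k z g
    show f1 _ * ((z : E) * j g) = _
    rw [hf1]
  have hφ1 : φ (Multiplicative.ofAdd 1, 1, 1) = x := by
    have h3 := hφ 1 1 1
    rw [Nat.cast_one] at h3
    rw [h3, map_one]
    simp only [_root_.pow_one, _root_.OneMemClass.coe_one, _root_.mul_one]
  have hxne : x ≠ 1 := by
    intro h
    have h3 : pr6 (xs w hw * io 1) = 1 := by rw [map_one, mul_one, ← hπx, h, map_one]
    exact hw1 (inj_aux hF' hw (pr6_eq_one.1 h3)).1
  refine ⟨x, φ, ?_, ?_, ?_, hφ1, ?_⟩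
  · exact orderOf_eq_prime hxc hxne
  · rw [injective_iff_map_eq_one]
    rintro ⟨t, z, g⟩ h
    obtain ⟨k, rfl⟩ := hf1' t
    rw [hφ] at h
    have h3 : pr6 (xs (w ^ k) (by rw [← pow_mul, pow_mul', hw, one_pow]) * io g) = 1 := by
      rw [← xs_pow hw, map_mul, map_pow, ← hπx, ← hjπ, ← map_pow, ← map_mul]
      have h4 : x ^ k * ((z : E) * j g) = z * (x ^ k * j g) := by
        rw [← mul_assoc, ← hcc z z.2 (x ^ k), mul_assoc]
      rw [h4] at h
      have h5 := congrArg π h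
      rw [map_mul, map_one, MonoidHom.mem_ker.1 z.2, one_mul] at h5
      exact h5
    obtain ⟨h4, rfl⟩ := inj_aux hF' _ (pr6_eq_one.1 h3)
    have h5 : (k : ZMod 3) = 0 := by
      rw [ZMod.natCast_eq_zero_iff]
      have h6 : orderOf w = 3 := orderOf_eq_prime hw hw1
      rw [← h6]
      exact orderOf_dvd_of_pow_eq_one h4
    have h6 : x ^ k = 1 := by
      rw [ZMod.natCast_eq_zero_iff] at h5
      obtain ⟨m, rfl⟩ := h5
      rw [pow_mul, hxc, one_pow]
    rw [h6, one_mul, map_one, mul_one] at h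
    have h7 : z = 1 := Subtype.ext h
    rw [h5, h7]
    rfl
  · ext e
    rw [Subgroup.mem_centralizer_singleton_iff]
    constructor
    · rintro ⟨⟨t, z, g⟩, rfl⟩
      obtain ⟨k, rfl⟩ := hf1' t
      rw [hφ]
      have h3 : Commute x (x ^ k * ((z : E) * j g)) :=
        ((Commute.refl x).pow_right k).mul_right (Commute.mul_right (hcc z z.2 x).symm (hxj g))
      first | exact h3.eq | exact h3.eq.symm
    · intro he
      have he' : x * e = e * x := by first | exact he | exact he.symm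
      obtain ⟨A, hA⟩ := QuotientGroup.mk'_surjective (Subgroup.center (SU 6 F 2)) (π e)
      have h3 : pr6 ((A * xs w hw) * (xs w hw * A)⁻¹) = 1 := by
        rw [map_mul, map_inv, map_mul, map_mul, hA, ← hπx, ← map_mul, ← map_mul, he', mul_inv_cancel]
      obtain ⟨c, hc6, hc3, h4⟩ := (mem_center_SU_iff hF' (by norm_num) _).1 (pr6_eq_one.1 h3)
      have h5 : A * xs w hw = suScalar 2 c hc6 hc3 * (xs w hw * A) := by
        rw [← h4, inv_mul_cancel_right]
      have h6 : ∀ i k, mt A i k * xv w k = c * (xv w i * mt A i k) := by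
        intro i k
        have h7 := congrArg (fun B : SU 6 F 2 => mt B i k) h5
        have h8 : mt (A * xs w hw) i k = mt A i k * xv w k := by
          rw [mt_mul, mt_xs, mul_diagonal]
        have h9 : mt (suScalar 2 c hc6 hc3 * (xs w hw * A)) i k = c * (xv w i * mt A i k) := by
          rw [mt_mul, mt_mul, mt_xs]
          show ((diagonal (fun _ => c) * (diagonal (xv w) * mt A) : Matrix (Fin 6) (Fin 6) F)) i k = _
          rw [diagonal_mul, diagonal_mul]
        rw [← h8, ← h9]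
        exact h7
      obtain ⟨z, hz, k, g, h7⟩ := cent_dec hF' hw hw1 hc3 h6
      have h8 : π e = π (x ^ k * j g) := by
        rw [map_mul, map_pow, hπx, hjπ, ← hA, h7]
        show pr6 (z * xs w hw ^ k * io g) = _
        rw [map_mul, map_mul, pr6_eq_one.2 hz, one_mul, map_pow]
      have h9 : e * (x ^ k * j g)⁻¹ ∈ π.ker := by
        rw [MonoidHom.mem_ker, map_mul, map_inv, h8, mul_inv_cancel]
      refine ⟨(Multiplicative.ofAdd (k : ZMod 3), ⟨_, h9⟩, g), ?_⟩
      rw [hφ]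
      show x ^ k * (e * (x ^ k * j g)⁻¹ * j g) = e
      have h10 := hcc _ h9 (x ^ k)
      calc x ^ k * (e * (x ^ k * j g)⁻¹ * j g) = x ^ k * (e * (x ^ k * j g)⁻¹) * j g := by rw [← mul_assoc]
        _ = e * (x ^ k * j g)⁻¹ * x ^ k * j g := by rw [← h10]
        _ = e := by group
  · intro z
    have h3 := hφ 0 z 1
    rw [Nat.cast_zero, pow_zero, one_mul, map_one, mul_one] at h3
    exact h3

end Cfsg.Agent.H242.RIM
end

-- part: H655/RIM/U62Three
section
/-!
# S4816: `NBall 3` for `U6(2)` (helper655, geometry helper242)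
-/

set_option autoImplicit false

namespace Cfsg.Agent.H655.RIM

open Cfsg Cfsg.Agent.H665.RIM

universe u

/-- **the row `U6(2)`, `p = 3`** -/
theorem nball_three {F : Type} [Field F] [Fintype F] (hF : Fintype.card F = 4) {S : Type u} [Group S]
    (e : S ≃* PSU 6 F 2) : NBall 3 S :=
  nball_of_geo hF (fun _ _ _ π hs hc hp h2 => Cfsg.Agent.H242.RIM.geo hF π hs hc hp h2) e

end Cfsg.Agent.H655.RIM
end

-- part: H655/RIM/U62Row
section
/-!
# S4816: the field `u62` of `RowsNB` (helper655)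
-/

set_option autoImplicit false

namespace Cfsg.Agent.H655.RIM

open Cfsg Cfsg.Agent.H665.RIM Cfsg.Agent.OrdDiv Cfsg.Agent.H436 Cfsg.Agent.H325.RIM

/-- **the field `u62`** -/
theorem u62 : NBRow 3 (.psu 6 2) := by
  intro S _ _ h _
  obtain ⟨F, i1, i2, hF, ⟨e⟩⟩ := h.real
  exact nball_three (F := F) (by rw [hF]; norm_num) e

end Cfsg.Agent.H655.RIM
end

-- part: H325/RIM/Fill/E
section
/-!
# S4816: fields of `RowsNB`, own characteristic and `U_6(2)` (helper325)
-/

set_option autoImplicit false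
set_option linter.unusedSectionVars false

namespace Cfsg.Agent.H325.RIM

open Cfsg Cfsg.Agent.H665.RIM Cfsg.Agent.OrdDiv Cfsg.Agent.H436

universe u

theorem f_own_e6 : ∀ p q : ℕ, p.Prime → p ≠ 2 → p ∣ q → 3 ∣ q - 1 → NBRow p (.e6 q) := H57.RIM.own_e6

theorem f_own_e7 : ∀ p q : ℕ, p.Prime → p ≠ 2 → p ∣ q → NBRow p (.e7 q) := H57.RIM.own_e7

theorem f_own_te6 : ∀ p q : ℕ, p.Prime → p ≠ 2 → p ∣ q → 3 ∣ q + 1 → NBRow p (.te6 q) := H57.RIM.own_te6

theorem f_own_oplus : ∀ p m q : ℕ, p.Prime → p ≠ 2 → p ∣ q → NBRow p (.oplus m q) := H57.RIM.own_oplus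

theorem f_own_oodd : ∀ p m q : ℕ, p.Prime → p ≠ 2 → p ∣ q → NBRow p (.oodd m q) := H929.RIM.own_oodd

theorem f_own_ominus : ∀ p m q : ℕ, p.Prime → p ≠ 2 → p ∣ q → NBRow p (.ominus m q) := H929.RIM.own_ominus

/-- a field of order divisible by `p` has characteristic `p` -/
theorem charP_of {F : Type} [Field F] [Fintype F] {p : ℕ} (hp : p.Prime) (h : p ∣ Fintype.card F) : CharP F p := by
  obtain ⟨r, hr⟩ := CharP.exists F
  have hrp : r.Prime := (CharP.char_is_prime_or_zero F r).resolve_right (CharP.char_ne_zero_of_finite F r)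
  have : Fact r.Prime := ⟨hrp⟩
  obtain ⟨n, -, hn⟩ := FiniteField.card F r
  have h1 : p = r := (Nat.prime_dvd_prime_iff_eq hp hrp).1 (hp.dvd_of_dvd_pow (hn ▸ h))
  exact h1 ▸ hr

theorem f_own_psp : ∀ p m q : ℕ, p.Prime → p ≠ 2 → p ∣ q → NBRow p (.psp m q) := by
  intro p m q hp _ hq S _ _ hS _
  obtain ⟨F, _, _, rfl, ⟨e⟩⟩ := hS.real
  have : Fact p.Prime := ⟨hp⟩
  have := charP_of hp hq
  exact NBall.congr e (H963.RIM.nb_own_psp hS.cond.1)

theorem f_u62 : NBRow 3 (.psu 6 2) := H655.RIM.u62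

end Cfsg.Agent.H325.RIM
end
end

-- part: H572/RIM/Ek_mg
section
prune_inst 0x4c47002614a6201800000058601000010010000000000000008840000010802600900a0400000201a1022800000010000000000a00000000004000000000100000808960001000104240080000000410000000000000000000000000000000000004010000
set_option linter.all false
open scoped Cfsg.Agent.FastGrp

-- part: H887/RIM/Perm
section
/-!
# S4816 (RIM), EK tools: fixed spaces of an element permuting the summands of a direct sum (helper887)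

`V = ⨁ W i` (finite), `g (W i) ≤ W (σ i)`, `σ ^ s = 1`, `s` prime.

* `fix_le` : `s dim C_V(g) + (s - 1) ∑_{σ i ≠ i} dim W i ≤ s dim V`;
* `orb_le` : the same for a group `X` permuting the summands: `dim C_V(X) + |I'| ≤ dim V + |orbits of X on I'|`,
  `I'` an invariant set of indices of nonzero summands.
-/

set_option autoImplicit false
set_option linter.unusedSectionVars false

namespace Cfsg.Agent.H887.RIM

open Module

section perm

variable {K V : Type*} [Field K] [AddCommGroup V] [Module K V] {I : Type*} [Fintype I]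
  [DecidableEq I] {W : I → Submodule K V}

/-- the components -/
noncomputable def cmp (hW : Function.Bijective (DirectSum.coeLinearMap W)) (i : I) : V →ₗ[K] V :=
  (W i).subtype ∘ₗ (DirectSum.component K I (fun i => W i) i) ∘ₗ
    ((LinearEquiv.ofBijective (DirectSum.coeLinearMap W) hW).symm : V →ₗ[K] DirectSum I fun i => W i)

variable (hW : Function.Bijective (DirectSum.coeLinearMap W))
include hW

theorem cmp_mem (i : I) (v : V) : cmp hW i v ∈ W i := Submodule.coe_mem _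

theorem cmp_of_mem {i : I} {v : V} (hv : v ∈ W i) (j : I) : cmp hW j v = if i = j then v else 0 := by
  have h1 : (LinearEquiv.ofBijective (DirectSum.coeLinearMap W) hW) (DirectSum.lof K I (fun i => W i) i ⟨v, hv⟩) = v :=
    DirectSum.coeLinearMap_lof W i ⟨v, hv⟩
  have h2 : (LinearEquiv.ofBijective (DirectSum.coeLinearMap W) hW).symm v =
      DirectSum.lof K I (fun i => W i) i ⟨v, hv⟩ := by
    rw [LinearEquiv.symm_apply_eq, h1]
  change ((DirectSum.component K I (fun i => W i) j)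
      ((LinearEquiv.ofBijective (DirectSum.coeLinearMap W) hW).symm v) : V) = _
  rw [h2]
  split_ifs with h
  · subst h
    rw [DirectSum.component.lof_self]
  · rw [DirectSum.component.of, dif_neg h]
    rfl

theorem iSup_eq : ⨆ i, W i = ⊤ := by
  rw [← DirectSum.range_coeLinearMap]
  exact LinearMap.range_eq_top.2 hW.2

theorem sum_cmp (v : V) : ∑ i, cmp hW i v = v := by
  have hv : v ∈ ⨆ i, W i := by rw [iSup_eq hW]; exact Submodule.mem_top
  induction hv using Submodule.iSup_induction' with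
  | mem i x hx =>
    simp only [cmp_of_mem hW hx]
    rw [Finset.sum_ite_eq, if_pos (Finset.mem_univ _)]
  | zero => simp only [_root_.map_zero, _root_.Finset.sum_const_zero]
  | add x y _ _ hx hy =>
    simp only [map_add, Finset.sum_add_distrib]
    rw [hx, hy]

theorem ext_cmp {v w : V} (h : ∀ i, cmp hW i v = cmp hW i w) : v = w := by
  rw [← sum_cmp hW v, ← sum_cmp hW w]
  exact Finset.sum_congr rfl fun i _ => h i

variable {g : V →ₗ[K] V} {σ : Equiv.Perm I} (hg : ∀ i, ∀ w ∈ W i, g w ∈ W (σ i))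
include hg

theorem cmp_g (i : I) (v : V) : cmp hW (σ i) (g v) = g (cmp hW i v) := by
  conv_lhs => rw [← sum_cmp hW v]
  rw [map_sum, map_sum, Finset.sum_eq_single i]
  · rw [cmp_of_mem hW (hg i _ (cmp_mem hW i v)), if_pos rfl]
  · intro j _ hj
    rw [cmp_of_mem hW (hg j _ (cmp_mem hW j v)), if_neg]
    exact fun h => hj (σ.injective h)
  · intro h
    exact absurd (Finset.mem_univ _) h

theorem cmp_fix {v : V} (hv : g v = v) (k : ℕ) (i : I) : cmp hW ((σ ^ k) i) v = (g ^ k) (cmp hW i v) := by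
  induction k with
  | zero => rfl
  | succ k ih =>
    rw [pow_succ', pow_succ', Module.End.mul_apply, Equiv.Perm.mul_apply, ← ih, ← cmp_g hW hg, hv]

omit [Fintype I] [DecidableEq I] hW hg in
/-- the powers `σ ^ k i`, `k < s`, of a moved point are distinct -/
theorem pow_inj {s : ℕ} (hs : s.Prime) (hσ : σ ^ s = 1) {i : I} (hi : σ i ≠ i) {a b : ℕ} (ha : a < s) (hb : b < s)
    (h : (σ ^ a) i = (σ ^ b) i) : a = b := by
  have hper : Function.IsPeriodicPt σ s i := by
    change σ^[s] i = i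
    rw [Equiv.Perm.iterate_eq_pow, hσ]
    rfl
  have h1 : Function.minimalPeriod σ i = s := by
    rcases (Nat.dvd_prime hs).1 hper.minimalPeriod_dvd with h1 | h1
    · exact absurd (Function.minimalPeriod_eq_one_iff_isFixedPt.1 h1) hi
    · exact h1
  refine Function.iterate_injOn_Iio_minimalPeriod (f := σ) (x := i) (by rw [h1]; exact ha) (by rw [h1]; exact hb) ?_
  rw [← Equiv.Perm.iterate_eq_pow, ← Equiv.Perm.iterate_eq_pow] at h
  exact h

variable [FiniteDimensional K V]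

omit [DecidableEq I] hW in
theorem finrank_le_pow (hinj : Function.Injective g) (k : ℕ) (i : I) :
    finrank K (W i) ≤ finrank K (W ((σ ^ k) i)) := by
  induction k with
  | zero => rfl
  | succ k ih =>
    refine ih.trans ?_
    rw [pow_succ', Equiv.Perm.mul_apply]
    have h1 : (W ((σ ^ k) i)).map g ≤ W (σ ((σ ^ k) i)) := by
      rintro _ ⟨w, hw, rfl⟩
      exact hg _ w hw
    exact (LinearEquiv.finrank_eq (Submodule.equivMapOfInjective g hinj _)).trans_le (Submodule.finrank_mono h1)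

open scoped Classical in
theorem fix_le_reps : finrank K (LinearMap.ker (g - 1)) ≤
    ∑ q : Quotient (Equiv.Perm.SameCycle.setoid σ), finrank K (W q.out) := by
  let Φ : LinearMap.ker (g - 1) →ₗ[K] ((q : Quotient (Equiv.Perm.SameCycle.setoid σ)) → W q.out) :=
    LinearMap.pi fun q => LinearMap.codRestrict (W q.out) (cmp hW q.out ∘ₗ (LinearMap.ker (g - 1)).subtype)
      fun v => cmp_mem hW _ _
  have hinj : Function.Injective Φ := by
    rw [← LinearMap.ker_eq_bot, LinearMap.ker_eq_bot']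
    intro v hv
    have hv' : g v = v := by
      have := v.2
      rwa [LinearMap.mem_ker, LinearMap.sub_apply, Module.End.one_apply, sub_eq_zero] at this
    apply Subtype.ext
    apply ext_cmp hW
    intro i
    change cmp hW i (v : V) = cmp hW i 0
    rw [map_zero]
    have h1 : (Equiv.Perm.SameCycle.setoid σ) (Quotient.out (Quotient.mk (Equiv.Perm.SameCycle.setoid σ) i)) i :=
      Quotient.mk_out (s := Equiv.Perm.SameCycle.setoid σ) i
    obtain ⟨k, hk⟩ := Equiv.Perm.SameCycle.exists_nat_pow_eq (h1 : σ.SameCycle _ _)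
    rw [← hk, cmp_fix hW hg hv']
    have h2 := congrFun hv (Quotient.mk (Equiv.Perm.SameCycle.setoid σ) i)
    have h3 : cmp hW (Quotient.out (Quotient.mk (Equiv.Perm.SameCycle.setoid σ) i)) (v : V) = 0 :=
      congrArg Subtype.val h2
    rw [h3, map_zero]
  have h1 := LinearMap.finrank_le_finrank_of_injective hinj
  rwa [Module.finrank_pi_fintype] at h1

/-- **The fixed space of an element permuting the summands.** -/
theorem fix_le (hinj : Function.Injective g) {s : ℕ} (hs : s.Prime) (hσ : σ ^ s = 1) :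
    s * finrank K (LinearMap.ker (g - 1)) + (s - 1) * ∑ i with σ i ≠ i, finrank K (W i) ≤ s * finrank K V := by
  classical
  let S := Equiv.Perm.SameCycle.setoid σ
  have h0 : finrank K V = ∑ i, finrank K (W i) := by
    rw [← (LinearEquiv.ofBijective (DirectSum.coeLinearMap W) hW).finrank_eq]
    exact Module.finrank_directSum K fun i => ↥(W i)
  have h1 := fix_le_reps hW hg
  -- the inequality in each cycle
  have key : ∀ q : Quotient S, s * finrank K (W q.out) + (s - 1) * ∑ i with (Quotient.mk S i = q ∧ σ i ≠ i),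
      finrank K (W i) ≤ s * ∑ i with Quotient.mk S i = q, finrank K (W i) := by
    intro q
    have e1 : ∑ i with (Quotient.mk S i = q ∧ σ i ≠ i), finrank K (W i) + ∑ i with (Quotient.mk S i = q ∧ σ i = i),
        finrank K (W i) = ∑ i with Quotient.mk S i = q, finrank K (W i) := by
      rw [← Finset.sum_filter_add_sum_filter_not (Finset.univ.filter fun i => Quotient.mk S i = q) (fun i => σ i ≠ i),
        Finset.filter_filter, Finset.filter_filter]
      simp only [not_not]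
    have hout : Quotient.mk S q.out = q := Quotient.out_eq q
    have hsp := hs.one_lt
    by_cases hq : σ q.out = q.out
    · have e2 : finrank K (W q.out) ≤ ∑ i with (Quotient.mk S i = q ∧ σ i = i), finrank K (W i) :=
        Finset.single_le_sum (f := fun i => finrank K (W i)) (fun _ _ => Nat.zero_le _)
          (Finset.mem_filter.2 ⟨Finset.mem_univ _, hout, hq⟩)
      rw [← e1, mul_add, add_comm]
      exact Nat.add_le_add (Nat.mul_le_mul_right _ (Nat.sub_le _ _)) (Nat.mul_le_mul_left _ e2)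
    · have e2 : s * finrank K (W q.out) ≤ ∑ i with (Quotient.mk S i = q ∧ σ i ≠ i), finrank K (W i) := by
        have hsub : (Finset.range s).image (fun k => (σ ^ k) q.out) ⊆
            Finset.univ.filter fun i => Quotient.mk S i = q ∧ σ i ≠ i := by
          intro i hi
          obtain ⟨k, -, rfl⟩ := Finset.mem_image.1 hi
          refine Finset.mem_filter.2 ⟨Finset.mem_univ _, ?_, ?_⟩
          · refine Eq.trans (Quotient.sound (s := S) ?_) hout
            have h5 : σ.SameCycle q.out ((σ ^ k) q.out) := ⟨(k : ℤ), by rw [zpow_natCast]⟩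
            exact h5.symm
          · intro h
            apply hq
            have h2 : (σ ^ k) (σ q.out) = (σ ^ k) q.out := by
              rw [← Equiv.Perm.mul_apply, ← pow_succ, pow_succ', Equiv.Perm.mul_apply, h]
            exact (σ ^ k).injective h2
        refine le_trans ?_ (Finset.sum_le_sum_of_subset hsub)
        rw [Finset.sum_image]
        · calc s * finrank K (W q.out) = ∑ _k ∈ Finset.range s, finrank K (W q.out) := by
                rw [Finset.sum_const, Finset.card_range, smul_eq_mul]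
            _ ≤ _ := Finset.sum_le_sum fun k _ => finrank_le_pow hg hinj k _
        · intro a ha b hb h
          exact pow_inj hs hσ hq (Finset.mem_range.1 ha) (Finset.mem_range.1 hb) h
      have e3 : ∑ i with (Quotient.mk S i = q ∧ σ i ≠ i), finrank K (W i) ≤
          ∑ i with Quotient.mk S i = q, finrank K (W i) := by rw [← e1]; exact Nat.le_add_right _ _
      calc s * finrank K (W q.out) + (s - 1) * ∑ i with (Quotient.mk S i = q ∧ σ i ≠ i), finrank K (W i)
          ≤ 1 * ∑ i with (Quotient.mk S i = q ∧ σ i ≠ i), finrank K (W i) +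
            (s - 1) * ∑ i with (Quotient.mk S i = q ∧ σ i ≠ i), finrank K (W i) := by
              rw [one_mul]; exact Nat.add_le_add_right e2 _
        _ = s * ∑ i with (Quotient.mk S i = q ∧ σ i ≠ i), finrank K (W i) := by
              rw [← add_mul]; congr 1; omega
        _ ≤ _ := Nat.mul_le_mul_left _ e3
  have h2 : ∑ q : Quotient S, ∑ i with Quotient.mk S i = q, finrank K (W i) = ∑ i, finrank K (W i) :=
    Finset.sum_fiberwise _ _ _
  have h3 : ∑ q : Quotient S, ∑ i with (Quotient.mk S i = q ∧ σ i ≠ i), finrank K (W i) =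
      ∑ i with σ i ≠ i, finrank K (W i) := by
    rw [← Finset.sum_fiberwise (Finset.univ.filter fun i => σ i ≠ i) (Quotient.mk S)]
    refine Finset.sum_congr rfl fun q _ => ?_
    rw [Finset.filter_filter]
    refine Finset.sum_congr (Finset.filter_congr fun i _ => and_comm) fun _ _ => rfl
  calc s * finrank K (LinearMap.ker (g - 1)) + (s - 1) * ∑ i with σ i ≠ i, finrank K (W i)
      ≤ s * ∑ q : Quotient S, finrank K (W q.out) +
        (s - 1) * ∑ q : Quotient S, ∑ i with (Quotient.mk S i = q ∧ σ i ≠ i), finrank K (W i) := by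
          rw [h3]
          exact Nat.add_le_add_right (Nat.mul_le_mul_left _ h1) _
    _ = ∑ q : Quotient S, (s * finrank K (W q.out) +
        (s - 1) * ∑ i with (Quotient.mk S i = q ∧ σ i ≠ i), finrank K (W i)) := by
          rw [Finset.sum_add_distrib, Finset.mul_sum, Finset.mul_sum]
    _ ≤ ∑ q : Quotient S, s * ∑ i with Quotient.mk S i = q, finrank K (W i) := Finset.sum_le_sum fun q _ => key q
    _ = s * finrank K V := by rw [← Finset.mul_sum, h2, h0]

end perm

section orb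

variable {K V : Type*} [Field K] [AddCommGroup V] [Module K V] {I : Type*} [Fintype I]
  [DecidableEq I] {W : I → Submodule K V} {X : Type*} [Group X] [MulAction X I]

variable (hW : Function.Bijective (DirectSum.coeLinearMap W)) (ρ : X →* Module.End K V)
  (hg : ∀ g : X, ∀ i, ∀ w ∈ W i, ρ g w ∈ W (g • i))
include hW hg

variable [FiniteDimensional K V]

end orb

end Cfsg.Agent.H887.RIM
end

-- part: H887/RIM/AT
section
/-!
# S4816 (RIM), EK tool E4: weights of an abelian `p'`-subgroup `A` and the fixed space of an element of `N(A)` (helper887)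

`wc ρ A χ`, `χ : A →* Kˣ` : the weight spaces; `at0` : `s dim C_W(x) + (s - 1) |T| ≤ s dim W`, `T` a set of weights moved by
`x`, `x ^ s = 1`, `s` prime.
-/

set_option autoImplicit false
set_option linter.style.haveILetI false
set_option linter.unusedSectionVars false

namespace Cfsg.Agent.H887.RIM

open Module Cfsg.Agent.H912.Bd

section char

end char

section wts

variable {K : Type*} [Field K] {W : Type*} [AddCommGroup W] [Module K W] {L : Type*} [Group L]
  (ρ : L →* Module.End K W) {A : Subgroup L}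

/-- the weight space of a character -/
def wc (ρ : L →* Module.End K W) (A : Subgroup L) (χ : A →* Kˣ) : Submodule K W := wt ρ A (fun a => (χ a : K))

theorem mem_wc {ρ : L →* Module.End K W} {χ : A →* Kˣ} {w : W} : w ∈ wc ρ A χ ↔ ∀ a : A, ρ a w = (χ a : K) • w :=
  mem_wt

/-- conjugation -/
def cjA {x : L} (hx : ∀ a ∈ A, x * a * x⁻¹ ∈ A) : A →* A where
  toFun a := ⟨x * a * x⁻¹, hx a a.2⟩
  map_one' := by ext; simp
  map_mul' a b := by ext; simp only [mul_assoc, _root_.Subgroup.coe_mul, _root_.MulMemClass.mk_mul_mk, _root_.inv_mul_cancel_left]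

theorem cjA_coe {x : L} (hx : ∀ a ∈ A, x * a * x⁻¹ ∈ A) (a : A) : ((cjA hx a : A) : L) = x * a * x⁻¹ := rfl

/-- the action of a subgroup normalising `A` on the characters of `A` -/
@[reducible] def cact (K : Type*) [Field K] {X : Subgroup L} (hX : ∀ x ∈ X, ∀ a ∈ A, x * a * x⁻¹ ∈ A) :
    MulAction X (A →* Kˣ) where
  smul x χ := χ.comp (cjA (hX (x⁻¹ : X) (x⁻¹).2))
  one_smul χ := by
    ext a
    change ((χ (cjA _ a) : Kˣ) : K) = χ a
    congr 2
    ext
    simp only [cjA_coe, _root_.inv_one, _root_.OneMemClass.coe_one, _root_.one_mul, _root_.mul_one]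
  mul_smul x y χ := by
    ext a
    change ((χ (cjA _ a) : Kˣ) : K) = χ (cjA _ (cjA _ a))
    congr 2
    ext
    simp only [cjA_coe, mul_assoc, _root_.mul_inv_rev, _root_.Subgroup.coe_mul, _root_.InvMemClass.coe_inv, _root_.inv_inv]

/-- `ρ x` maps `wc χ` into `wc (χ ∘ (a ↦ x⁻¹ a x))`. -/
theorem map_wc {x : L} (hx : ∀ a ∈ A, x⁻¹ * a * x⁻¹⁻¹ ∈ A) {χ : A →* Kˣ} {w : W} (hw : w ∈ wc ρ A χ) :
    ρ x w ∈ wc ρ A (χ.comp (cjA hx)) := by
  rw [mem_wc] at hw ⊢
  intro a
  have h1 := hw (cjA hx a)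
  have h2 : ρ (a : L) (ρ x w) = ρ x (ρ ((cjA hx a : A) : L) w) := by
    rw [← Module.End.mul_apply, ← Module.End.mul_apply, ← map_mul, ← map_mul, cjA_coe]
    congr 2
    group
  rw [h2, h1, map_smul]
  rfl

variable [FiniteDimensional K W] [IsAlgClosed K] [Finite A] (hA : ∀ a ∈ A, ∀ b ∈ A, a * b = b * a)
  (hN : (Nat.card A : K) ≠ 0)
include hA hN

omit hA hN [Finite A] [FiniteDimensional K W] [IsAlgClosed K] in
theorem pow_card_eq (a : L) (ha : a ∈ A) : a ^ Nat.card A = 1 := by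
  have h : (⟨a, ha⟩ : A) ^ Nat.card A = 1 := pow_card_eq_one'
  exact congrArg Subtype.val h

open scoped Classical in
theorem wc_bij : Function.Bijective (DirectSum.coeLinearMap (wc ρ A)) := by
  have h1 : iSupIndep (wc ρ A) := (indep_wt ρ hA hN pow_card_eq).comp (f := fun (χ : A →* Kˣ) (a : A) => (χ a : K)) (by
    intro χ ψ h
    ext a
    exact congrFun h a)
  have h2 : ⨆ χ, wc ρ A χ = ⊤ := by
    rw [eq_top_iff, ← iSup_wt ρ hA hN pow_card_eq]
    refine iSup_le fun χ => ?_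
    by_cases hχ : wt ρ A χ = ⊥
    · rw [hχ]; exact bot_le
    · let χ' : A →* K := { toFun := χ, map_one' := wt_one ρ hχ, map_mul' := wt_mul ρ hχ }
      have h3 : wc ρ A χ'.toHomUnits = wt ρ A χ := rfl
      rw [← h3]
      exact le_iSup (wc ρ A) _
  constructor
  · exact h1.dfinsupp_lsum_injective
  · rw [← LinearMap.range_eq_top, DirectSum.range_coeLinearMap]
    exact h2

omit [FiniteDimensional K W] [IsAlgClosed K] hA hN in
theorem norm_zpowers {x : L} (hx : ∀ a ∈ A, x * a * x⁻¹ ∈ A) : ∀ y ∈ Subgroup.zpowers x, ∀ a ∈ A, y * a * y⁻¹ ∈ A := by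
  have h1 : x ∈ Subgroup.normalizer (A : Set L) := by
    haveI : Finite (A : Set L) := inferInstanceAs (Finite A)
    exact Subgroup.mem_normalizer_fintype hx
  intro y hy a ha
  have h2 : y ∈ Subgroup.normalizer (A : Set L) := (Subgroup.zpowers_le.2 h1) hy
  exact (Subgroup.mem_normalizer_iff.1 h2 a).1 ha

/-- an element of `A` not acting trivially has a weight on it -/
theorem exists_wc {c : A} (hc : ρ c ≠ 1) : ∃ χ : A →* Kˣ, wc ρ A χ ≠ ⊥ ∧ χ c ≠ 1 := by
  obtain ⟨χ, hχ, hc⟩ := exists_wt ρ hA hN pow_card_eq (c := c) hc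
  let χ' : A →* K := { toFun := χ, map_one' := wt_one ρ hχ, map_mul' := wt_mul ρ hχ }
  refine ⟨χ'.toHomUnits, hχ, fun h => hc ?_⟩
  have h2 : ((χ'.toHomUnits c : Kˣ) : K) = 1 := by rw [h]; rfl
  exact h2

end wts

end Cfsg.Agent.H887.RIM
end

-- part: H887/RIM/AT2
section
/-!
# S4816 (RIM), EK tool E4: the user forms (helper887)

`V` elementary abelian `p`-group with an action of the finite group `L`; `x ∈ L` of prime order `s` (any `s`) normalising the
abelian `p'`-subgroup `A`; `e` with `|V| ≤ p ^ e |C_V(x)|` (the codimension of `C_V(x)`).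
* `at1_codim` : `N(A)` transitive on `A ∖ 1`, `A` not trivial on `V`: `(s - 1) (|A| - |C_A(x)|) ≤ s e`; `at1_dim` : `|A| - 1 ≤ dim V`.
* `at2_codim`, `at2_dim` : a finite set `S` of elements of `N(A)` separating the weights.
* `at3_codim`, `at3_dim` : `A = ⟨c⟩` of prime order, `c` conjugate to `c ^ k`, `k ∈ T`: `(s - 1) |T| ≤ s e`.
-/

set_option autoImplicit false
set_option linter.style.haveILetI false
set_option linter.unusedSectionVars false

namespace Cfsg.Agent.H887.RIM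

open Module Cfsg.Agent.H912.Bd

section wts

variable {K : Type*} [Field K] {W : Type*} [AddCommGroup W] [Module K W] {L : Type*} [Group L]
  (ρ : L →* Module.End K W) {A : Subgroup L} [FiniteDimensional K W] [IsAlgClosed K] [Finite A]
  (hA : ∀ a ∈ A, ∀ b ∈ A, a * b = b * a) (hN : (Nat.card A : K) ≠ 0)
include hA hN

end wts

section users

variable {p : ℕ} (hp : p.Prime) {L V : Type*} [Group L] [Finite L] [AddCommGroup V] [Finite V]
  [DistribMulAction L V] (hV : ∀ v : V, p • v = 0) (A : Subgroup L) (hA : ∀ a ∈ A, ∀ b ∈ A, a * b = b * a)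
  (hAp : ¬ p ∣ Nat.card A)
include hp hV hA hAp

end users

section cyc

variable {p : ℕ} (hp : p.Prime) {L V : Type*} [Group L] [Finite L] [AddCommGroup V] [Finite V]
  [DistribMulAction L V] (hV : ∀ v : V, p • v = 0) {c : L} {ℓ : ℕ} (hℓ : ℓ.Prime) (hℓp : ℓ ≠ p) (hcℓ : c ^ ℓ = 1)
  {v : V} (hcv : c • v ≠ v) (T : Finset ℕ) (hT : ∀ k ∈ T, k < ℓ ∧ ∃ g : L, g * c * g⁻¹ = c ^ k)
include hp hV hℓ hℓp hcℓ hcv hT

end cyc

end Cfsg.Agent.H887.RIM
end

-- part: H572/RIM/Lift
section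
/-!
# Lifting a Frobenius pair to a central extension (helper572, for S4816)

`FP r x a` : `a ^ r = 1`, `a` commutes with `x a x⁻¹` and `x² a x⁻²`, `x³ a x⁻³ = a (x a x⁻¹)`.

`FP.lift` : if `π : H → S` has central kernel, then for every `x` in `H` a pair `FP r (π x) a` lifts to `FP r x â`.
-/

set_option autoImplicit false
set_option linter.unusedSectionVars false

namespace Cfsg.Agent.H572.RIM

/-- A Frobenius pair -/
structure FP {L : Type*} [Group L] (r : ℕ) (x a : L) : Prop where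
  rel : x ^ 3 * a = a * (x * a * x⁻¹) * x ^ 3
  c1 : a * (x * a * x⁻¹) = (x * a * x⁻¹) * a
  c2 : a * (x ^ 2 * a * (x ^ 2)⁻¹) = (x ^ 2 * a * (x ^ 2)⁻¹) * a
  ar : a ^ r = 1

variable {L : Type*} [Group L]

theorem FP.congr {L' : Type*} [Group L'] {r : ℕ} {x a : L} (h : FP r x a) (e : L →* L') : FP r (e x) (e a) := by
  refine ⟨?_, ?_, ?_, ?_⟩
  · simpa only [map_mul, map_pow, map_inv] using congrArg e h.rel
  · simpa only [map_mul, map_pow, map_inv] using congrArg e h.c1
  · simpa only [map_mul, map_pow, map_inv] using congrArg e h.c2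
  · rw [← map_pow, h.ar, map_one]

/-- the third conjugate -/
theorem FP.third {r : ℕ} {x a : L} (h : FP r x a) : x ^ 3 * a * (x ^ 3)⁻¹ = a * (x * a * x⁻¹) := by
  rw [h.rel, mul_inv_cancel_right]

/-- the computation in a central extension -/
theorem comm_calc {H : Type*} [Group H] {x α c d k : H} (hc : ∀ h : H, c * h = h * c) (hd : ∀ h : H, d * h = h * d)
    (hk : ∀ h : H, k * h = h * k) (h1 : α * (x * α * x⁻¹) = c * ((x * α * x⁻¹) * α))
    (h2 : α * (x * (x * α * x⁻¹) * x⁻¹) = d * ((x * (x * α * x⁻¹) * x⁻¹) * α))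
    (h3 : x * (x * (x * α * x⁻¹) * x⁻¹) * x⁻¹ = α * (x * α * x⁻¹) * k) : c = 1 ∧ d = 1 := by
  obtain ⟨β, hβ⟩ : ∃ β, β = x * α * x⁻¹ := ⟨_, rfl⟩
  obtain ⟨γ, hγ⟩ : ∃ γ, γ = x * β * x⁻¹ := ⟨_, rfl⟩
  obtain ⟨δ, hδ⟩ : ∃ δ, δ = x * γ * x⁻¹ := ⟨_, rfl⟩
  rw [← hβ] at h1 h2 h3
  rw [← hγ] at h2 h3
  rw [← hδ] at h3
  -- conjugation by `x`
  have cj : ∀ u v e : H, (∀ h : H, e * h = h * e) → u * v = e * (v * u) →
      (x * u * x⁻¹) * (x * v * x⁻¹) = e * ((x * v * x⁻¹) * (x * u * x⁻¹)) := by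
    intro u v e he h
    have h4 : (x * u * x⁻¹) * (x * v * x⁻¹) = x * (u * v) * x⁻¹ := by group
    have h5 : (x * v * x⁻¹) * (x * u * x⁻¹) = x * (v * u) * x⁻¹ := by group
    rw [h4, h5, h, ← mul_assoc, ← he x]
    group
  have e1 := cj _ _ _ hc h1
  rw [← hβ, ← hγ] at e1
  have e2 := cj _ _ _ hc e1
  rw [← hγ, ← hδ] at e2
  have e3 := cj _ _ _ hd h2
  rw [← hβ, ← hδ] at e3
  -- `e1 : β γ = c γ β`, `e2 : γ δ = c δ γ`, `e3 : β δ = d δ β`
  rw [h3] at e2 e3
  have a1 : β * α = d * (α * β) := by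
    have h4 : β * (α * β * k) = (β * α) * (β * k) := by group
    have h5 : d * (α * β * k * β) = (d * (α * β)) * (β * k) := by
      rw [mul_assoc (α * β) k β, hk β]
      group
    rw [h4, h5] at e3
    exact mul_right_cancel e3
  have a2 : c * d = 1 := by
    rw [a1, ← mul_assoc] at h1
    have h4 : 1 * (α * β) = (c * d) * (α * β) := by rw [one_mul]; exact h1
    exact (mul_right_cancel h4).symm
  have a3 : γ * (α * β) = c * (α * β) * γ := by
    have h4 : γ * (α * β * k) = (γ * (α * β)) * k := by group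
    have h5 : c * (α * β * k * γ) = (c * (α * β) * γ) * k := by
      rw [mul_assoc (α * β) k γ, hk γ]
      group
    rw [h4, h5] at e2
    exact mul_right_cancel e2
  have a4 : α * β * γ = (d * c) * (γ * (α * β)) := by
    calc α * β * γ = α * (β * γ) := mul_assoc _ _ _
      _ = α * (c * (γ * β)) := by rw [e1]
      _ = c * (α * γ * β) := by rw [← mul_assoc, ← hc α]; group
      _ = c * (d * (γ * α) * β) := by rw [h2]
      _ = (c * d) * (γ * (α * β)) := by group
      _ = (d * c) * (γ * (α * β)) := by rw [hc d]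
  have a5 : d * c = 1 := by rw [← hc d]; exact a2
  rw [a5, one_mul] at a4
  rw [← a4] at a3
  have a6 : c = 1 := by
    have h4 : 1 * (α * β * γ) = c * (α * β * γ) := by
      rw [one_mul, ← mul_assoc c]
      exact a3
    exact (mul_right_cancel h4).symm
  rw [a6, one_mul] at a2
  exact ⟨a6, a2⟩

/-- **Frobenius pairs lift to central extensions.** -/
theorem FP.lift {H S : Type*} [Group H] [Group S] {π : H →* S} (hπ : Function.Surjective π)
    (hcen : ∀ k, π k = 1 → ∀ h : H, k * h = h * k) {r : ℕ} {x : H} {a : S} (h : FP r (π x) a) :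
    ∃ α : H, π α = a ∧ FP r x α := by
  obtain ⟨α, hα⟩ := hπ a
  obtain ⟨c, hc⟩ : ∃ c, c = α * (x * α * x⁻¹) * ((x * α * x⁻¹) * α)⁻¹ := ⟨_, rfl⟩
  obtain ⟨d, hd⟩ : ∃ d, d = α * (x * (x * α * x⁻¹) * x⁻¹) * ((x * (x * α * x⁻¹) * x⁻¹) * α)⁻¹ := ⟨_, rfl⟩
  obtain ⟨k, hk⟩ : ∃ k, k = (α * (x * α * x⁻¹))⁻¹ * (x * (x * (x * α * x⁻¹) * x⁻¹) * x⁻¹) := ⟨_, rfl⟩
  have hx2 : ∀ u : S, π x * (π x * u * (π x)⁻¹) * (π x)⁻¹ = π x ^ 2 * u * (π x ^ 2)⁻¹ := by
    intro u
    rw [pow_two]
    group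
  have hx3 : ∀ u : S, π x * (π x * (π x * u * (π x)⁻¹) * (π x)⁻¹) * (π x)⁻¹ = π x ^ 3 * u * (π x ^ 3)⁻¹ := by
    intro u
    rw [pow_succ, pow_two]
    group
  have kc : π c = 1 := by
    rw [hc]
    simp only [map_mul, map_inv, hα]
    rw [h.c1, mul_inv_cancel]
  have kd : π d = 1 := by
    rw [hd]
    simp only [map_mul, map_inv, hα]
    rw [hx2, h.c2, mul_inv_cancel]
  have kk : π k = 1 := by
    rw [hk]
    simp only [map_mul, map_inv, hα]
    rw [hx3, h.third, inv_mul_cancel]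
  have hcc := hcen c kc
  have hdc := hcen d kd
  have hkc := hcen k kk
  obtain ⟨c1, d1⟩ := comm_calc (x := x) (α := α) hcc hdc hkc (by rw [hc, inv_mul_cancel_right])
    (by rw [hd, inv_mul_cancel_right]) (by rw [hk, mul_inv_cancel_left])
  rw [c1] at hc
  rw [d1] at hd
  have f1 : α * (x * α * x⁻¹) = (x * α * x⁻¹) * α := (mul_inv_eq_one.1 hc.symm)
  have f2 : α * (x * (x * α * x⁻¹) * x⁻¹) = (x * (x * α * x⁻¹) * x⁻¹) * α := (mul_inv_eq_one.1 hd.symm)
  have f3 : x * (x * (x * α * x⁻¹) * x⁻¹) * x⁻¹ = α * (x * α * x⁻¹) * k := by rw [hk, mul_inv_cancel_left]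
  have mk : ∀ u : H, x * (u * k) * x⁻¹ = (x * u * x⁻¹) * k := by
    intro u
    rw [← mul_assoc, mul_assoc (x * u), hkc x⁻¹, ← mul_assoc]
  have g1 : x * (α * k) * x⁻¹ = (x * α * x⁻¹) * k := mk α
  have cc : ∀ u v : H, u * v = v * u → (u * k) * (v * k) = (v * k) * (u * k) := by
    intro u v huv
    have h1 : (u * k) * (v * k) = (u * v) * (k * k) := by
      rw [mul_assoc u k, ← mul_assoc k v, hkc v]
      group
    have h2 : (v * k) * (u * k) = (v * u) * (k * k) := by
      rw [mul_assoc v k, ← mul_assoc k u, hkc u]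
      group
    rw [h1, h2, huv]
  have g2 : x ^ 2 * (α * k) * (x ^ 2)⁻¹ = (x * (x * α * x⁻¹) * x⁻¹) * k := by
    have h1 : x ^ 2 * (α * k) * (x ^ 2)⁻¹ = x * (x * (α * k) * x⁻¹) * x⁻¹ := by rw [pow_two]; group
    rw [h1, mk, mk]
  have g3 : x ^ 3 * (α * k) = ((α * k) * ((x * α * x⁻¹) * k)) * x ^ 3 := by
    have h1 : x ^ 3 * (α * k) * (x ^ 3)⁻¹ = x * (x * (x * (α * k) * x⁻¹) * x⁻¹) * x⁻¹ := by
      rw [pow_succ, pow_two]; group
    have h2 : x * (x * (x * (α * k) * x⁻¹) * x⁻¹) * x⁻¹ = (x * (x * (x * α * x⁻¹) * x⁻¹) * x⁻¹) * k := by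
      rw [mk, mk, mk]
    rw [h2, f3] at h1
    have h3 : (α * k) * ((x * α * x⁻¹) * k) = α * (x * α * x⁻¹) * k * k := by
      rw [mul_assoc α k, ← mul_assoc k, hkc (x * α * x⁻¹)]
      group
    rw [h3, ← h1, inv_mul_cancel_right]
  have s1 : (α * k) * (x * (α * k) * x⁻¹) = (x * (α * k) * x⁻¹) * (α * k) := by rw [g1]; exact cc _ _ f1
  refine ⟨α * k, by rw [map_mul, hα, kk, mul_one], ?_, s1, ?_, ?_⟩
  · rw [g1]; exact g3
  · rw [g2]; exact cc _ _ f2
  · -- the power
    obtain ⟨m, hm⟩ : ∃ m, m = (α * k) ^ r := ⟨_, rfl⟩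
    have km : π m = 1 := by rw [hm, map_pow, map_mul, hα, kk, mul_one, h.ar]
    have hmc := hcen m km
    have h1 : (x * (α * k) * x⁻¹) ^ r = m := by
      rw [conj_pow, ← hm, ← hmc x, mul_inv_cancel_right]
    have h2 : (x ^ 3 * (α * k) * (x ^ 3)⁻¹) ^ r = m := by
      rw [conj_pow, ← hm, ← hmc (x ^ 3), mul_inv_cancel_right]
    have h3 : x ^ 3 * (α * k) * (x ^ 3)⁻¹ = (α * k) * (x * (α * k) * x⁻¹) := by
      rw [g3, mul_inv_cancel_right, g1]
    rw [h3, (show Commute (α * k) (x * (α * k) * x⁻¹) from s1).mul_pow, h1, ← hm] at h2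
    rw [← hm]
    exact mul_eq_left.1 h2

end Cfsg.Agent.H572.RIM
end

-- part: H572/RIM/FA
section
/-!
# The subgroup generated by the conjugates of a Frobenius pair (helper572, for S4816)
-/

set_option autoImplicit false
set_option linter.unusedSectionVars false

namespace Cfsg.Agent.H572.RIM

variable {L : Type*} [Group L] {r : ℕ} {x a : L}

/-- the generators -/
def FS (x a : L) : Set L := {a, x * a * x⁻¹, x ^ 2 * a * (x ^ 2)⁻¹}

/-- the group generated by the conjugates -/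
def FA (x a : L) : Subgroup L := Subgroup.closure (FS x a)

theorem g0 (x a : L) : a ∈ FA x a := Subgroup.subset_closure (Or.inl rfl)
theorem g1 (x a : L) : x * a * x⁻¹ ∈ FA x a := Subgroup.subset_closure (Or.inr (Or.inl rfl))
theorem g2 (x a : L) : x ^ 2 * a * (x ^ 2)⁻¹ ∈ FA x a := Subgroup.subset_closure (Or.inr (Or.inr rfl))

theorem FP.c3 (h : FP r x a) : (x * a * x⁻¹) * (x ^ 2 * a * (x ^ 2)⁻¹) = (x ^ 2 * a * (x ^ 2)⁻¹) * (x * a * x⁻¹) := by
  have h1 : (x * a * x⁻¹) * (x ^ 2 * a * (x ^ 2)⁻¹) = x * (a * (x * a * x⁻¹)) * x⁻¹ := by rw [pow_two]; group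
  have h2 : (x ^ 2 * a * (x ^ 2)⁻¹) * (x * a * x⁻¹) = x * ((x * a * x⁻¹) * a) * x⁻¹ := by rw [pow_two]; group
  rw [h1, h2, h.c1]

theorem FP.commS (h : FP r x a) : ∀ u ∈ FS x a, ∀ v ∈ FS x a, u * v = v * u := by
  rintro u (rfl | rfl | rfl) v (rfl | rfl | rfl)
  · rfl
  · exact h.c1
  · exact h.c2
  · exact h.c1.symm
  · rfl
  · exact h.c3
  · exact h.c2.symm
  · exact h.c3.symm
  · rfl

theorem FP.comm (h : FP r x a) : ∀ u ∈ FA x a, ∀ v ∈ FA x a, u * v = v * u := by
  have h1 : FA x a ≤ Subgroup.centralizer (FS x a) := by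
    rw [FA, Subgroup.closure_le]
    intro u hu
    rw [SetLike.mem_coe, Subgroup.mem_centralizer_iff]
    intro v hv
    exact h.commS v hv u hu
  have h2 : FA x a ≤ Subgroup.centralizer (FA x a : Set L) := by
    conv_lhs => rw [FA]
    rw [Subgroup.closure_le]
    intro u hu
    rw [SetLike.mem_coe, Subgroup.mem_centralizer_iff]
    intro v hv
    exact (Subgroup.mem_centralizer_iff.1 (h1 hv) u hu).symm
  intro u hu v hv
  exact (Subgroup.mem_centralizer_iff.1 (h2 hv) u hu)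

theorem FP.norm (h : FP r x a) : ∀ u ∈ FA x a, x * u * x⁻¹ ∈ FA x a := by
  intro u hu
  induction hu using Subgroup.closure_induction with
  | mem u hu =>
    rcases hu with rfl | rfl | rfl
    · exact g1 x _
    · have h1 : x * (x * a * x⁻¹) * x⁻¹ = x ^ 2 * a * (x ^ 2)⁻¹ := by rw [pow_two]; group
      rw [h1]
      exact g2 x a
    · have h1 : x * (x ^ 2 * a * (x ^ 2)⁻¹) * x⁻¹ = x ^ 3 * a * (x ^ 3)⁻¹ := by rw [pow_succ x 2, pow_two]; group
      rw [h1, h.third]
      exact mul_mem (g0 x a) (g1 x a)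
  | one => rw [mul_one, mul_inv_cancel]; exact one_mem _
  | mul u v _ _ hu hv =>
    have h1 : x * (u * v) * x⁻¹ = (x * u * x⁻¹) * (x * v * x⁻¹) := by group
    rw [h1]
    exact mul_mem hu hv
  | inv u _ hu =>
    have h1 : x * u⁻¹ * x⁻¹ = (x * u * x⁻¹)⁻¹ := by group
    rw [h1]
    exact inv_mem hu

theorem FP.exp (h : FP r x a) : ∀ u ∈ FA x a, u ^ r = 1 := by
  intro u hu
  induction hu using Subgroup.closure_induction with
  | mem u hu =>
    rcases hu with rfl | rfl | rfl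
    · exact h.ar
    · rw [conj_pow, h.ar, mul_one, mul_inv_cancel]
    · rw [conj_pow, h.ar, mul_one, mul_inv_cancel]
  | one => exact one_pow _
  | mul u v hu hv hu' hv' =>
    rw [(show Commute u v from h.comm u hu v hv).mul_pow, hu', hv', mul_one]
  | inv u _ hu => rw [inv_pow, hu, inv_one]

theorem FP.card_ne [Finite L] (h : FP r x a) {p : ℕ} (hp : p.Prime) (hpr : ¬ p ∣ r) : ¬ p ∣ Nat.card (FA x a) := by
  intro hd
  have : Fact p.Prime := ⟨hp⟩
  obtain ⟨u, hu⟩ := exists_prime_orderOf_dvd_card' p hd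
  apply hpr
  rw [← hu]
  refine orderOf_dvd_of_pow_eq_one (Subtype.ext ?_)
  exact h.exp u u.2

theorem ext_char {M : Type*} [Group M] {χ χ' : FA x a →* M} (h0 : χ ⟨a, g0 x a⟩ = χ' ⟨a, g0 x a⟩)
    (h1 : χ ⟨_, g1 x a⟩ = χ' ⟨_, g1 x a⟩) (h2 : χ ⟨_, g2 x a⟩ = χ' ⟨_, g2 x a⟩) : χ = χ' := by
  have key : ∀ u (hu : u ∈ FA x a), χ ⟨u, hu⟩ = χ' ⟨u, hu⟩ := by
    intro u hu
    induction hu using Subgroup.closure_induction with
    | mem u hu =>
      rcases hu with rfl | rfl | rfl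
      · exact h0
      · exact h1
      · exact h2
    | one => exact (map_one χ).trans (map_one χ').symm
    | mul u v hu hv hu' hv' =>
      have e1 := map_mul χ ⟨u, hu⟩ ⟨v, hv⟩
      have e2 := map_mul χ' ⟨u, hu⟩ ⟨v, hv⟩
      rw [hu', hv', ← e2] at e1
      exact e1
    | inv u hu hu' =>
      have e1 := map_inv χ ⟨u, hu⟩
      have e2 := map_inv χ' ⟨u, hu⟩
      rw [hu', ← e2] at e1
      exact e1
  ext ⟨u, hu⟩
  exact key u hu

end Cfsg.Agent.H572.RIM
end

-- part: H572/RIM/Frob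
section
/-!
# S4816 (RIM), module side: Frobenius pairs (helper572)

`FP r x a` (`Lift.lean`): `a ^ r = 1`, `⟨a, a^x, a^{x²}⟩` abelian, `a^{x³} = a a^x`.

* `ek_frob1` : `FP r x a` in `S`, `x` of order `p`, `p ∤ r`, `a ≠ 1`, `p² ∤ |S|`, `|S| < p ^ p`: `EK p S`;
* `ek_frob2` : `FP 2 x a` in `S`, `|S| < p ^ (2 p - 1)`, `a y = y⁻¹ a`, `y` of prime order `q ≠ 2` with
  `q ∤ p ^ k - 1` for `1 ≤ k ≤ 8`: `EK p S`.
-/

set_option autoImplicit false
set_option linter.unusedSectionVars false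
set_option linter.style.haveILetI false

namespace Cfsg.Agent.H572.RIM

open Module Cfsg.Agent.H887.RIM Cfsg.Agent.H912.Bd

section perm

variable {K V : Type*} [Field K] [AddCommGroup V] [Module K V] {I : Type*} [Fintype I]
  [DecidableEq I] {W : I → Submodule K V}

/-- **a regular orbit** -/
theorem fix_orbit (hW : Function.Bijective (DirectSum.coeLinearMap W)) {g : V →ₗ[K] V} {σ : Equiv.Perm I}
    (hg : ∀ i, ∀ w ∈ W i, g w ∈ W (σ i)) [FiniteDimensional K V] (hinj : Function.Injective g) {s : ℕ} (hs : s.Prime)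
    (hσ : σ ^ s = 1) {i : I} (hi : σ i ≠ i) :
    finrank K (LinearMap.ker (g - 1)) + (s - 1) * finrank K (W i) ≤ finrank K V := by
  have h1 := fix_le hW hg hinj hs hσ
  have h2 : s * finrank K (W i) ≤ ∑ i with σ i ≠ i, finrank K (W i) := by
    have hsub : (Finset.range s).image (fun k => (σ ^ k) i) ⊆ Finset.univ.filter fun i => σ i ≠ i := by
      intro j hj
      obtain ⟨k, -, rfl⟩ := Finset.mem_image.1 hj
      refine Finset.mem_filter.2 ⟨Finset.mem_univ _, ?_⟩
      intro h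
      apply hi
      have h2 : (σ ^ k) (σ i) = (σ ^ k) i := by
        rw [← Equiv.Perm.mul_apply, ← pow_succ, pow_succ', Equiv.Perm.mul_apply, h]
      exact (σ ^ k).injective h2
    refine le_trans ?_ (Finset.sum_le_sum_of_subset hsub)
    rw [Finset.sum_image]
    · calc s * finrank K (W i) = ∑ _k ∈ Finset.range s, finrank K (W i) := by
            rw [Finset.sum_const, Finset.card_range, smul_eq_mul]
        _ ≤ _ := Finset.sum_le_sum fun k _ => finrank_le_pow hg hinj k _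
    · intro a ha b hb h
      exact pow_inj hs hσ hi (Finset.mem_range.1 ha) (Finset.mem_range.1 hb) h
  have h3 : s * (finrank K (LinearMap.ker (g - 1)) + (s - 1) * finrank K (W i)) ≤ s * finrank K V := by
    refine le_trans ?_ h1
    rw [mul_add, ← mul_assoc s, mul_comm s (s - 1), mul_assoc (s - 1)]
    exact Nat.add_le_add_left (Nat.mul_le_mul_left _ h2) _
  exact Nat.le_of_mul_le_mul_left h3 hs.pos

end perm

section wts

variable {K : Type*} [Field K] {W : Type*} [AddCommGroup W] [Module K W] {L : Type*} [Group L]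
  (ρ : L →* Module.End K W) {A : Subgroup L} [FiniteDimensional K W] [IsAlgClosed K] [Finite A]
  (hA : ∀ a ∈ A, ∀ b ∈ A, a * b = b * a) (hN : (Nat.card A : K) ≠ 0)
include hA hN

/-- the orbit of one weight -/
theorem wt_codim {x : L} (hx : ∀ a ∈ A, x * a * x⁻¹ ∈ A) {s : ℕ} (hs : s.Prime) (hxs : x ^ s = 1)
    {χ : A →* Kˣ} (hχ : χ.comp (cjA hx) ≠ χ) :
    finrank K (LinearMap.ker (ρ x - 1)) + (s - 1) * finrank K (wc ρ A χ) ≤ finrank K W := by
  classical
  haveI : Fintype (A →* Kˣ) := Fintype.ofFinite _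
  have hX := norm_zpowers hx
  letI := cact K hX
  let x' : Subgroup.zpowers x := ⟨x, Subgroup.mem_zpowers x⟩
  let σ : Equiv.Perm (A →* Kˣ) := MulAction.toPerm x'
  have hx's : x' ^ s = 1 := Subtype.ext hxs
  have hσ : σ ^ s = 1 := by
    have h : MulAction.toPermHom (Subgroup.zpowers x) (A →* Kˣ) x' ^ s = 1 := by rw [← map_pow, hx's, map_one]
    exact h
  have hg : ∀ χ, ∀ w ∈ wc ρ A χ, ρ x w ∈ wc ρ A (σ χ) := by
    intro χ w hw
    exact map_wc ρ (hX _ ((x'⁻¹ : Subgroup.zpowers x)).2) hw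
  refine fix_orbit (wc_bij ρ hA hN) hg (rho_injective ρ x) hs hσ (i := χ) ?_
  intro h
  apply hχ
  have h2 : x'⁻¹ • χ = χ := by
    rw [inv_smul_eq_iff]
    exact h.symm
  have h3 : x'⁻¹ • χ = χ.comp (cjA hx) := by
    ext a
    change ((χ (cjA _ a) : Kˣ) : K) = χ (cjA _ a)
    congr 2
    ext
    simp only [cjA_coe, x', _root_.inv_inv]
  rw [← h3, h2]

/-- the fixed space of an element of `A` -/
theorem codim_le (c : A) (T : Finset (A →* Kˣ)) (hT : ∀ χ : A →* Kˣ, χ c ≠ 1 → χ ∈ T) :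
    finrank K W ≤ finrank K (LinearMap.ker (ρ (c : L) - 1)) + ∑ χ ∈ T, finrank K (wc ρ A χ) := by
  classical
  haveI : Fintype (A →* Kˣ) := Fintype.ofFinite _
  have hW := wc_bij ρ hA hN
  let Φ : W →ₗ[K] ((χ : T) → wc ρ A (χ : A →* Kˣ)) :=
    LinearMap.pi fun χ => LinearMap.codRestrict (wc ρ A (χ : A →* Kˣ)) (_root_.Cfsg.Agent.H887.RIM.cmp hW (χ : A →* Kˣ)) fun v => cmp_mem hW _ _
  have h1 := LinearMap.finrank_range_add_finrank_ker Φ
  have h2 : finrank K (LinearMap.range Φ) ≤ ∑ χ ∈ T, finrank K (wc ρ A χ) := by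
    refine (Submodule.finrank_le _).trans ?_
    rw [Module.finrank_pi_fintype]
    exact (Finset.sum_coe_sort T fun χ => finrank K (wc ρ A χ)).le
  have h3 : finrank K (LinearMap.ker Φ) ≤ finrank K (LinearMap.ker (ρ (c : L) - 1)) := by
    refine Submodule.finrank_mono ?_
    intro v hv
    rw [LinearMap.mem_ker, LinearMap.sub_apply, Module.End.one_apply, sub_eq_zero]
    have h4 : ∀ χ : A →* Kˣ, ρ (c : L) (_root_.Cfsg.Agent.H887.RIM.cmp hW χ v) = cmp hW χ v := by
      intro χ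
      by_cases h5 : χ c = 1
      · have h6 := mem_wc.1 (cmp_mem hW χ v) c
        rw [h6, h5, Units.val_one, one_smul]
      · have h6 : _root_.Cfsg.Agent.H887.RIM.cmp hW χ v = 0 := congrArg Subtype.val (congrFun (LinearMap.mem_ker.1 hv) ⟨χ, hT χ h5⟩)
        rw [h6, map_zero]
    conv_lhs => rw [← sum_cmp hW v]
    rw [map_sum, Finset.sum_congr rfl fun χ _ => h4 χ, sum_cmp hW v]
  omega

end wts

section fp

variable {K : Type*} [Field K] {L : Type*} [Group L] {r : ℕ} {x a : L}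

theorem FP.moved {M : Type*} [Group M] (h : FP r x a) {χ : FA x a →* M} (hχ : χ ⟨a, g0 x a⟩ ≠ 1) :
    χ.comp (cjA h.norm) ≠ χ := by
  intro he
  apply hχ
  have e0 : cjA h.norm ⟨a, g0 x a⟩ = ⟨_, g1 x a⟩ := rfl
  have e1 : cjA h.norm ⟨_, g1 x a⟩ = ⟨_, g2 x a⟩ := by
    apply Subtype.ext
    change x * (x * a * x⁻¹) * x⁻¹ = x ^ 2 * a * (x ^ 2)⁻¹
    rw [pow_two]; group
  have e2 : cjA h.norm ⟨_, g2 x a⟩ = ⟨a, g0 x a⟩ * ⟨_, g1 x a⟩ := by
    apply Subtype.ext
    change x * (x ^ 2 * a * (x ^ 2)⁻¹) * x⁻¹ = a * (x * a * x⁻¹)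
    rw [← h.third, pow_succ x 2, pow_two]; group
  have f0 : χ ⟨_, g1 x a⟩ = χ ⟨a, g0 x a⟩ := by
    have := DFunLike.congr_fun he ⟨a, g0 x a⟩
    rwa [MonoidHom.comp_apply, e0] at this
  have f1 : χ ⟨_, g2 x a⟩ = χ ⟨_, g1 x a⟩ := by
    have := DFunLike.congr_fun he ⟨_, g1 x a⟩
    rwa [MonoidHom.comp_apply, e1] at this
  have f2 : χ ⟨a, g0 x a⟩ * χ ⟨_, g1 x a⟩ = χ ⟨_, g2 x a⟩ := by
    have := DFunLike.congr_fun he ⟨_, g2 x a⟩
    rwa [MonoidHom.comp_apply, e2, map_mul] at this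
  rw [f1] at f2
  exact mul_eq_right.1 f2

theorem two_vals {u v : Kˣ} (hu : u ^ 2 = 1) (hv : v ^ 2 = 1) (h : u = 1 ↔ v = 1) : u = v := by
  have key : ∀ w : Kˣ, w ^ 2 = 1 → w = 1 ∨ w = -1 := by
    intro w hw
    have h1 : (w : K) * w = 1 := by
      have := congrArg Units.val hw
      rwa [pow_two, Units.val_mul, Units.val_one] at this
    rcases mul_self_eq_one_iff.1 h1 with h2 | h2
    · exact Or.inl (Units.ext h2)
    · exact Or.inr (Units.ext (by rw [h2, Units.val_neg, Units.val_one]))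
  rcases key u hu with h1 | h1
  · rw [h1, h.1 h1]
  · rcases key v hv with h2 | h2
    · rw [h2, h.2 h2]
    · rw [h1, h2]

theorem card_char_le (h : FP 2 x a) (T : Finset (FA x a →* Kˣ)) (hT : ∀ χ ∈ T, χ ⟨a, g0 x a⟩ ≠ 1) : T.card ≤ 4 := by
  classical
  let f : (FA x a →* Kˣ) → Bool × Bool := fun χ => (decide (χ ⟨_, g1 x a⟩ = 1), decide (χ ⟨_, g2 x a⟩ = 1))
  have h1 : (T.image f).card ≤ 4 := by
    refine (Finset.card_le_univ _).trans ?_
    decide
  rw [Finset.card_image_of_injOn] at h1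
  · exact h1
  intro χ hχ χ' hχ' he
  have sq : ∀ (ψ : FA x a →* Kˣ) (u : FA x a), ψ u ^ 2 = 1 := by
    intro ψ u
    rw [← map_pow]
    have : u ^ 2 = 1 := Subtype.ext (h.exp u u.2)
    rw [this, map_one]
  have e1 := (Prod.ext_iff.1 he).1
  have e2 := (Prod.ext_iff.1 he).2
  simp only [f, decide_eq_decide] at e1 e2
  refine ext_char ?_ ?_ ?_
  · exact two_vals (sq _ _) (sq _ _) ⟨fun h => absurd h (hT χ hχ), fun h => absurd h (hT χ' hχ')⟩
  · exact two_vals (sq _ _) (sq _ _) e1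
  · exact two_vals (sq _ _) (sq _ _) e2

variable {W : Type*} [AddCommGroup W] [Module K W] (ρ : L →* Module.End K W) [FiniteDimensional K W]
  [IsAlgClosed K] [Finite L] {p : ℕ} [CharP K p]

/-- **Frobenius pairs, linear version.** -/
theorem FP.lin1 (hp : p.Prime) (hpr : ¬ p ∣ r) (h : FP r x a) (hx : x ^ p = 1) (ha : ρ a ≠ 1) :
    finrank K (LinearMap.ker (ρ x - 1)) + (p - 1) ≤ finrank K W := by
  have hN : (Nat.card (FA x a) : K) ≠ 0 := by
    rw [Ne, CharP.cast_eq_zero_iff K p]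
    exact h.card_ne hp hpr
  obtain ⟨χ, hχ, hχa⟩ := exists_wc ρ h.comm hN (c := ⟨a, g0 x a⟩) ha
  have h1 := wt_codim ρ h.comm hN h.norm hp hx (h.moved hχa)
  have h2 : 1 ≤ finrank K (wc ρ (FA x a) χ) := by
    rw [Nat.one_le_iff_ne_zero, Ne, Submodule.finrank_eq_zero]
    exact hχ
  calc finrank K (LinearMap.ker (ρ x - 1)) + (p - 1) = finrank K (LinearMap.ker (ρ x - 1)) + (p - 1) * 1 := by
        rw [mul_one]
    _ ≤ finrank K (LinearMap.ker (ρ x - 1)) + (p - 1) * finrank K (wc ρ (FA x a) χ) :=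
        Nat.add_le_add_left (Nat.mul_le_mul_left _ h2) _
    _ ≤ _ := h1

/-- **Frobenius pairs, `r = 2`, linear version.** -/
theorem FP.lin2 (hp : p.Prime) (h2 : p ≠ 2) (h : FP 2 x a) (hx : x ^ p = 1)
    (hb : finrank K W < finrank K (LinearMap.ker (ρ x - 1)) + 2 * (p - 1)) :
    finrank K W ≤ finrank K (LinearMap.ker (ρ a - 1)) + 4 := by
  classical
  have hN : (Nat.card (FA x a) : K) ≠ 0 := by
    rw [Ne, CharP.cast_eq_zero_iff K p]
    exact h.card_ne hp fun hd => h2 ((Nat.prime_dvd_prime_iff_eq hp Nat.prime_two).1 hd)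
  haveI : Fintype (FA x a →* Kˣ) := Fintype.ofFinite _
  have h1 := codim_le ρ h.comm hN ⟨a, g0 x a⟩ (Finset.univ.filter fun χ : FA x a →* Kˣ => χ ⟨a, g0 x a⟩ ≠ 1)
    (fun χ hχ => Finset.mem_filter.2 ⟨Finset.mem_univ _, hχ⟩)
  refine h1.trans (Nat.add_le_add_left ?_ _)
  calc _ ≤ ∑ χ ∈ Finset.univ.filter (fun χ : FA x a →* Kˣ => χ ⟨a, g0 x a⟩ ≠ 1), 1 := by
        refine Finset.sum_le_sum fun χ hχ => ?_
        have h3 := wt_codim ρ h.comm hN h.norm hp hx (h.moved (Finset.mem_filter.1 hχ).2)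
        by_contra hcon
        have h4 : (p - 1) * 2 ≤ (p - 1) * finrank K (wc ρ (FA x a) χ) := Nat.mul_le_mul_left _ (by omega)
        omega
    _ = (Finset.univ.filter (fun χ : FA x a →* Kˣ => χ ⟨a, g0 x a⟩ ≠ 1)).card := by
        rw [Finset.sum_const, smul_eq_mul, mul_one]
    _ ≤ 4 := card_char_le h _ fun χ hχ => (Finset.mem_filter.1 hχ).2

omit [Finite L] [IsAlgClosed K] in
/-- the product of two conjugates -/
theorem codim_mul (a y : L) {e : ℕ} (h : finrank K W ≤ finrank K (LinearMap.ker (ρ a - 1)) + e) :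
    finrank K W ≤ finrank K (LinearMap.ker (ρ (a * (y * a * y⁻¹)) - 1)) + 2 * e := by
  have hmem : ∀ (g : L) (v : W), v ∈ LinearMap.ker (ρ g - 1) ↔ ρ g v = v := by
    intro g v
    rw [LinearMap.mem_ker, LinearMap.sub_apply, Module.End.one_apply, sub_eq_zero]
  have h1 : finrank K (LinearMap.ker (ρ a - 1)) ≤ finrank K (LinearMap.ker (ρ (y * a * y⁻¹) - 1)) := by
    have h2 : (LinearMap.ker (ρ a - 1)).map (ρ y) ≤ LinearMap.ker (ρ (y * a * y⁻¹) - 1) := by
      rintro _ ⟨v, hv, rfl⟩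
      rw [hmem, map_mul, map_mul, Module.End.mul_apply, Module.End.mul_apply]
      have h3 : ρ y⁻¹ (ρ y v) = v := by
        rw [← Module.End.mul_apply, ← map_mul, inv_mul_cancel, map_one]; rfl
      rw [h3, (hmem a v).1 hv]
    exact (LinearEquiv.finrank_eq (Submodule.equivMapOfInjective (ρ y) (rho_injective ρ y) _)).trans_le
      (Submodule.finrank_mono h2)
  have h2 := Submodule.finrank_sup_add_finrank_inf_eq (LinearMap.ker (ρ a - 1)) (LinearMap.ker (ρ (y * a * y⁻¹) - 1))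
  have h3 := Submodule.finrank_le (LinearMap.ker (ρ a - 1) ⊔ LinearMap.ker (ρ (y * a * y⁻¹) - 1))
  have h4 : finrank K ↥(LinearMap.ker (ρ a - 1) ⊓ LinearMap.ker (ρ (y * a * y⁻¹) - 1)) ≤
      finrank K (LinearMap.ker (ρ (a * (y * a * y⁻¹)) - 1)) := by
    refine Submodule.finrank_mono ?_
    rintro v ⟨hv1, hv2⟩
    rw [hmem, map_mul, Module.End.mul_apply, (hmem _ v).1 hv2, (hmem _ v).1 hv1]
  omega

end fp

end Cfsg.Agent.H572.RIM
end

-- part: H572/RIM/Ek
section
/-!
# S4816 (RIM), module side: `EK p S` from Frobenius pairs (helper572)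

* `ek_frob1` : `FP r x a` in `S`, `x` of order `p`, `p ∤ r`, `a ≠ 1`, `p² ∤ |S|`, `|S| < p ^ p`: `EK p S`;
* `ek_frob2` : `FP 2 x a` in `S`, `|S| < p ^ (2 p - 1)`, `a y = y⁻¹ a`, `y` of prime order `q ≠ 2, p` with
  `q ∤ p ^ k - 1` for `1 ≤ k ≤ 8`: `EK p S`.
-/

set_option autoImplicit false
set_option linter.unusedSectionVars false
set_option linter.style.haveILetI false

namespace Cfsg.Agent.H572.RIM

open Module Cfsg.Agent.H887.RIM Cfsg.Agent.H425.RIM.Tool Cfsg.Agent.H665.RIM Cfsg.Agent.H229.RIM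

universe u

section sit

variable {p : ℕ} {H V S : Type*} [Group H] [Finite H] [AddCommGroup V] [Finite V] [DistribMulAction H V]
  [Group S] {K N : Subgroup H} {φ : N →* ℂˣ} {π : H →* S} (A : Sit (V := V) p K N φ π)

theorem index_mul_le [Finite S] (t : S) (ht : orderOf t = p) :
    (Subgroup.normalizer ((Subgroup.zpowers t : Subgroup S) : Set S)).index * p ≤ Nat.card S := by
  rw [← (Subgroup.normalizer ((Subgroup.zpowers t : Subgroup S) : Set S)).card_mul_index, mul_comm]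
  refine Nat.mul_le_mul_right _ ?_
  rw [← ht, ← Nat.card_zpowers]
  exact Nat.card_le_card_of_injective _ (Subgroup.inclusion_injective (Subgroup.le_normalizer (H := Subgroup.zpowers t)))

include A

/-- the codimension of the fixed space of an element of order `p` -/
theorem codim_lt (hp : p.Prime) (hsq : ¬ p ^ 2 ∣ Nat.card S) {D n c : ℕ} (hcard : Nat.card S < p ^ (D + 1)) {x : H}
    (hx : orderOf x = p) (hx' : orderOf (π x) = p) (hn : Nat.card V = p ^ n)
    (hc : Nat.card {v : V // x • v = v} = p ^ c) : n < c + D := by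
  haveI : Finite S := Finite.of_surjective _ A.surj
  have h1 := A.union hp hsq hx
  have h2 : Nat.card ↥(fx V x) = p ^ c := hc
  rw [h2, hn] at h1
  have h3 := index_mul_le (π x) hx'
  have h4 : p ^ n * p < p ^ (c + D) * p := by
    calc p ^ n * p ≤ ((Subgroup.normalizer ((Subgroup.zpowers (π x) : Subgroup S) : Set S)).index * p ^ c) * p :=
          Nat.mul_le_mul_right _ h1
      _ = ((Subgroup.normalizer ((Subgroup.zpowers (π x) : Subgroup S) : Set S)).index * p) * p ^ c := by ring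
      _ ≤ Nat.card S * p ^ c := Nat.mul_le_mul_right _ h3
      _ < p ^ (D + 1) * p ^ c := Nat.mul_lt_mul_of_pos_right hcard (pow_pos hp.pos c)
      _ = p ^ (c + D) * p := by ring
  exact (Nat.pow_lt_pow_iff_right hp.one_lt).1 (Nat.lt_of_mul_lt_mul_right h4)

theorem act_ne {g : H} (hg : π g ≠ 1) : ¬ ∀ v : V, g • v = v := by
  intro h
  apply hg
  have h1 : g ∈ K := A.core.NK ((A.core.ker g).1 h)
  rw [← A.ker] at h1
  exact h1

end sit

/-- **`EK p S` from a Frobenius pair.** -/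
theorem ek_frob1 {p r : ℕ} (hp : p.Prime) (hpr : ¬ p ∣ r) {S : Type u} [Group S] (hsq : ¬ p ^ 2 ∣ Nat.card S)
    (hcard : Nat.card S < p ^ p) {x a : S} (hx : orderOf x = p) (h : FP r x a) (ha : a ≠ 1) : EK p S := by
  intro H V _ _ _ _ _ K N φ π hC hs hk hcen
  have A : Sit (V := V) p K N φ π := ⟨hC, hs, hk, hcen⟩
  obtain ⟨x', hx', ho⟩ := A.exists_lift_p hp hx
  subst hx'
  obtain ⟨α, hα, hF⟩ := FP.lift hs (fun k hk h => A.K_cen hk h) h
  obtain ⟨K', _, _, _, W, _, _, _, ρ, hcV, hker, hfix⟩ := exists_lin (H := H) hp A.core.exp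
  have h1 : ρ α ≠ 1 := fun e => act_ne A (g := α) (by rw [hα]; exact ha) ((hker α).1 e)
  have h2 := hF.lin1 ρ hp hpr (by rw [← ho]; exact pow_orderOf_eq_one x') h1
  have h3 := codim_lt A hp hsq (D := p - 1) (by rwa [Nat.sub_add_cancel hp.one_lt.le]) ho hx hcV (hfix x')
  omega

/-- **`EK p S` from a Frobenius pair and a dihedral group.** -/
theorem ek_frob2 {p q : ℕ} (hp : p.Prime) (hp2 : p ≠ 2) {S : Type u} [Group S] (hsq : ¬ p ^ 2 ∣ Nat.card S)
    (hcard : Nat.card S < p ^ (2 * p - 1)) {x a y : S} (hx : orderOf x = p) (h : FP 2 x a)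
    (hq : q.Prime) (hq2 : q ≠ 2) (hqp : q ≠ p) (hy : orderOf y = q) (hay : a * y = y⁻¹ * a)
    (hmod : ∀ k, 1 ≤ k → k ≤ 8 → ¬ q ∣ p ^ k - 1) : EK p S := by
  intro H V _ _ _ _ _ K N φ π hC hs hk hcen
  have A : Sit (V := V) p K N φ π := ⟨hC, hs, hk, hcen⟩
  obtain ⟨x', hx', ho⟩ := A.exists_lift_p hp hx
  subst hx'
  obtain ⟨α, hα, hF⟩ := FP.lift hs (fun k hk h => A.K_cen hk h) h
  obtain ⟨y', hy'⟩ := hs y
  obtain ⟨K', _, _, _, W, _, _, _, ρ, hcV, hker, hfix⟩ := exists_lin (H := H) hp A.core.exp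
  have h3 := codim_lt A hp hsq (D := 2 * (p - 1)) (by
    have : 2 * (p - 1) + 1 = 2 * p - 1 := by have := hp.one_lt; omega
    rwa [this]) ho hx hcV (hfix x')
  have h4 := hF.lin2 ρ hp hp2 (by rw [← ho]; exact pow_orderOf_eq_one x') h3
  have h5 := codim_mul ρ α y' h4
  -- the element `z` over `y⁻²`
  obtain ⟨z, hz⟩ : ∃ z, z = α * (y' * α * y'⁻¹) := ⟨_, rfl⟩
  rw [← hz] at h5
  have haa : a * a = 1 := by rw [← pow_two]; exact h.ar
  have hπz : π z = (y ^ 2)⁻¹ := by
    rw [hz, map_mul, map_mul, map_mul, map_inv, hα, hy']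
    calc a * (y * a * y⁻¹) = (a * y) * a * y⁻¹ := by group
      _ = y⁻¹ * (a * a) * y⁻¹ := by rw [hay]; group
      _ = (y ^ 2)⁻¹ := by rw [haa, pow_two]; group
  have hoz : orderOf (π z) = q := by
    rw [hπz, orderOf_inv, Nat.Coprime.orderOf_pow (by rw [hy]; exact (Nat.coprime_primes hq Nat.prime_two).2 hq2), hy]
  obtain ⟨j, m, hm, hjm⟩ := Nat.exists_eq_pow_mul_and_not_dvd (orderOf_pos z).ne' q hq.one_lt.ne'
  have hwj : (z ^ m) ^ q ^ j = 1 := by rw [← pow_mul, mul_comm, ← hjm, pow_orderOf_eq_one]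
  have hw1 : π (z ^ m) ≠ 1 := by
    intro e
    rw [map_pow] at e
    have := orderOf_dvd_of_pow_eq_one e
    rw [hoz] at this
    exact hm this
  -- its fixed space
  have h6 : finrank K' (LinearMap.ker (ρ z - 1)) ≤ finrank K' (LinearMap.ker (ρ (z ^ m) - 1)) := by
    refine Submodule.finrank_mono ?_
    intro v hv
    rw [LinearMap.mem_ker, LinearMap.sub_apply, Module.End.one_apply, sub_eq_zero] at hv ⊢
    have : ∀ i : ℕ, ρ (z ^ i) v = v := by
      intro i
      induction i with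
      | zero => rw [pow_zero, map_one]; rfl
      | succ i ih => rw [pow_succ, map_mul, Module.End.mul_apply, hv, ih]
    exact this m
  have h7 : finrank K' (LinearMap.ker (ρ (z ^ m) - 1)) ≤ finrank K' W := Submodule.finrank_le _
  have h8 : Nat.card V ≡ Nat.card {v : V // (z ^ m) • v = v} [MOD q] := by
    have : Fact q.Prime := ⟨hq⟩
    have h1 : IsPGroup q (Subgroup.zpowers (z ^ m)) := by
      have h2 : orderOf (z ^ m) ∣ q ^ j := orderOf_dvd_of_pow_eq_one hwj
      obtain ⟨i, -, hi⟩ := (Nat.dvd_prime_pow hq).1 h2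
      exact IsPGroup.of_card (n := i) (by rw [Nat.card_zpowers, hi])
    have h2 := h1.card_modEq_card_fixedPoints V
    have h3 : Nat.card ↑(MulAction.fixedPoints (Subgroup.zpowers (z ^ m)) V) = Nat.card {v : V // (z ^ m) • v = v} := by
      refine Nat.card_congr (Equiv.subtypeEquivRight fun v => ?_)
      constructor
      · intro hv
        exact hv ⟨z ^ m, Subgroup.mem_zpowers _⟩
      · rintro hv ⟨g, hg⟩
        have h4 : Subgroup.zpowers (z ^ m) ≤ MulAction.stabilizer H v := by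
          rw [Subgroup.zpowers_le]
          exact hv
        exact h4 hg
    rw [h3] at h2
    exact h2
  rw [hcV, hfix (z ^ m)] at h8
  obtain ⟨k, hk'⟩ := Nat.exists_eq_add_of_le h7
  have h9 : k ≤ 8 := by omega
  rw [hk'] at h8
  by_cases hk0 : k = 0
  · apply act_ne A hw1
    rw [← hker]
    rw [hk0, add_zero] at hk'
    have h10 : LinearMap.ker (ρ (z ^ m) - 1) = ⊤ := Submodule.eq_top_of_finrank_eq hk'.symm
    rw [LinearMap.ker_eq_top, sub_eq_zero] at h10
    exact h10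
  · refine hmod k (by omega) h9 ?_
    have h11 : q ∣ p ^ (finrank K' (LinearMap.ker (ρ (z ^ m) - 1)) + k) - p ^ finrank K' (LinearMap.ker (ρ (z ^ m) - 1)) :=
      (Nat.modEq_iff_dvd' (Nat.pow_le_pow_right hp.pos (Nat.le_add_right _ _))).1 h8.symm
    rw [pow_add, ← Nat.mul_sub_one] at h11
    refine (hq.dvd_mul.1 h11).resolve_left ?_
    intro h12
    exact hqp ((Nat.prime_dvd_prime_iff_eq hq hp).1 (hq.dvd_of_dvd_pow h12))

end Cfsg.Agent.H572.RIM
end

-- part: H79/RIM/NegB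
section
/-!
# The Weyl group of type `B_m`, `m ≥ 3`, contains `-1` (helper79)

* `exists_opp` : an element `w` of a finite Weyl group and a map `σ` with `w α_i = -α_{σ i}`;
* `exists_neg` : type `B_m`, `m ≥ 3`.
-/

set_option autoImplicit false
set_option linter.unusedSectionVars false

namespace Cfsg.Agent.H79.RIM

open CoxeterSystem Cfsg.Agent.ChevalleyStructure.CoxeterGeom Cfsg.Agent.Tits.Roots Cfsg.Agent.Tits.Core
  Cfsg.Agent.Tits.Exchange Cfsg.Agent.Nodes.Reps Cfsg.Agent.Nodes.BNOf Cfsg.Agent.Nodes.StabComb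
  Cfsg.Agent.H53.HC Cfsg.Agent.H965.XZ

section opp

variable {I W : Type*} [Fintype I] [DecidableEq I] [Group W] {M : CoxeterMatrix I}
  {cs : CoxeterSystem M W} {A : I → I → ℤ} {h : IsCartan M A}

theorem exists_opp [Finite W] (cs : CoxeterSystem M W) (h : IsCartan M A) :
    ∃ (w : W) (σ : I → I), ∀ i, rep cs h w (sr i) = -sr (σ i) := by
  obtain ⟨w, hw⟩ := RGD.exists_inv_eq_pos (cs := cs) (h := h)
  have h1 : ∀ x, IsRoot cs h x → 0 ≤ x → rep cs h w⁻¹ x ≤ 0 := by
    intro x hx hx0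
    have : x ∈ RGD.Inv cs h w := by rw [hw]; exact ⟨hx, hx0⟩
    exact this.2.2
  have h2 : ∀ x, IsRoot cs h x → 0 ≤ x → rep cs h w x ≤ 0 := by
    intro x hx hx0
    rcases (hx.act w).pos_or_neg with h3 | h3
    · exfalso
      have h4 := h1 _ (hx.act w) h3
      rw [rep_inv_apply] at h4
      exact hx.not_pos_neg hx0 h4
    · exact h3
  have key : ∀ i, ∃ k, rep cs h w (sr k) = -sr i := by
    intro i
    set b : I → ℤ := -rep cs h w⁻¹ (sr i) with hb
    have hb0 : 0 ≤ b := by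
      rw [hb]
      exact neg_nonneg.2 (h1 _ (isRoot_sr cs h i) (sr_nonneg i))
    have hbr : IsRoot cs h b := by
      rw [hb]
      exact ((isRoot_sr cs h i).act w⁻¹).neg
    have hbw : rep cs h w b = -sr i := by
      rw [hb, map_neg, rep_apply_inv]
    have hbne : b ≠ 0 := by
      intro h0
      rw [h0, map_zero] at hbw
      have := congrFun hbw i
      rw [Pi.neg_apply, sr_self] at this
      exact absurd this (by simp)
    obtain ⟨k, hk⟩ : ∃ k, 0 < b k := by
      by_contra hcon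
      push Not at hcon
      exact hbne (le_antisymm hcon hb0)
    refine ⟨k, ?_⟩
    -- `w α_k` is nonpositive with coordinates at least those of `-α_i`
    have h3 : ∀ c, rep cs h w b c = ∑ l, b l * rep cs h w (sr l) c := by
      intro c
      conv_lhs => rw [eq_sum_sr b, map_sum, Finset.sum_apply]
      refine Finset.sum_congr rfl fun l _ => ?_
      rw [map_smul, Pi.smul_apply, smul_eq_mul]
    have hneg : ∀ l c, rep cs h w (sr l) c ≤ 0 := fun l c => h2 _ (isRoot_sr cs h l) (sr_nonneg l) c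
    have h4 : ∀ c, rep cs h w b c ≤ b k * rep cs h w (sr k) c := by
      intro c
      rw [h3, ← Finset.add_sum_erase _ _ (Finset.mem_univ k)]
      have : ∑ l ∈ Finset.univ.erase k, b l * rep cs h w (sr l) c ≤ 0 :=
        Finset.sum_nonpos fun l _ => mul_nonpos_of_nonneg_of_nonpos (hb0 l) (hneg l c)
      linarith
    have h5 : ∀ c, c ≠ i → rep cs h w (sr k) c = 0 := by
      intro c hc
      have h6 := h4 c
      rw [hbw, Pi.neg_apply, sr_ne hc, neg_zero] at h6
      have h7 := hneg k c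
      nlinarith only [hk, h6, h7]
    have h6 : rep cs h w (sr k) i = -1 := by
      have h7 := h4 i
      rw [hbw, Pi.neg_apply, sr_self] at h7
      have h8 := hneg k i
      have h9 : rep cs h w (sr k) i ≠ 0 := by
        intro h0
        have h10 : rep cs h w (sr k) = 0 := by
          funext c
          by_cases hc : c = i
          · rw [hc]; exact h0
          · exact h5 c hc
        exact ((isRoot_sr cs h k).act w).ne_zero h10
      have h10 : rep cs h w (sr k) i ≤ -1 := by omega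
      nlinarith only [hk, h7, h10]
    funext c
    by_cases hc : c = i
    · rw [hc, h6, Pi.neg_apply, sr_self]
    · rw [h5 c hc, Pi.neg_apply, sr_ne hc, neg_zero]
  choose τ hτ using key
  refine ⟨w⁻¹, τ, fun i => ?_⟩
  have h3 := congrArg (rep cs h w⁻¹) (hτ i)
  rw [rep_inv_apply, map_neg] at h3
  rw [h3, neg_neg]

theorem cartan_opp [Finite W] {w : W} {σ : I → I} (hσ : ∀ i, rep cs h w (sr i) = -sr (σ i)) (i j : I) :
    A (σ i) (σ j) = A i j := by
  have h1 : rep cs h (w * cs.simple i) (sr i) = sr (σ i) := by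
    rw [rep_mul_apply, rep_simple_sr, map_neg, hσ, neg_neg]
  have h2 := pairing_rep h1 (rep cs h (cs.simple i) (sr j))
  have h3 : rep cs h (w * cs.simple i) (rep cs h (cs.simple i) (sr j)) = rep cs h w (sr j) := by
    rw [← rep_mul_apply, mul_assoc, cs.simple_mul_simple_self, mul_one]
  rw [h3, hσ, rep_simple_eq] at h2
  have h4 : pairing A (σ i) (-sr (σ j)) = -A (σ i) (σ j) := by
    have e : -sr (σ j) = (-1 : ℤ) • (sr (σ j) : I → ℤ) := by rw [neg_one_smul]
    rw [e, pairing_smul, sr, pairing_single, mul_one, neg_one_mul]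
  have h5 : pairing A i (sr j - pairing A i (sr j) • sr i) = - A i j := by
    have e : (sr j - pairing A i (sr j) • sr i : I → ℤ) = sr j + (-pairing A i (sr j)) • sr i := by
      rw [neg_smul, sub_eq_add_neg]
    rw [e, pairing_add, pairing_smul, sr, sr, pairing_single, pairing_single, mul_one, mul_one, h.diag]
    ring
  rw [h4, h5] at h2
  exact neg_injective h2

theorem sigma_inj {w : W} {σ : I → I} (hσ : ∀ i, rep cs h w (sr i) = -sr (σ i)) : Function.Injective σ := by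
  intro i j hij
  have h1 : rep cs h w (sr i) = rep cs h w (sr j) := by rw [hσ, hσ, hij]
  have h2 := congrArg (rep cs h w⁻¹) h1
  rw [rep_inv_apply, rep_inv_apply] at h2
  by_contra hne
  have := congrFun h2 i
  rw [sr_self, sr_ne hne] at this
  exact one_ne_zero this

end opp

section B

variable {m : ℕ} {W : Type*} [Group W] {cs : CoxeterSystem (CoxeterMatrix.B m) W} {A : Fin m → Fin m → ℤ}
  {h : IsCartan (CoxeterMatrix.B m) A}

/-- `-1` is in the Weyl group -/
theorem exists_neg [Finite W] (hm : 3 ≤ m) : ∃ w₀ : W, ∀ x, rep cs h w₀ x = -x := by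
  obtain ⟨w, σ, hσ⟩ := exists_opp cs h
  have hA := cartan_opp hσ
  have hinj := sigma_inj hσ
  -- adjacency
  have hadj : ∀ i j : Fin m, (i : ℕ) + 1 = j → (σ i : ℕ) + 1 = σ j ∨ (σ j : ℕ) + 1 = σ i := by
    intro i j hij
    have hne : i ≠ j := by rintro rfl; omega
    have hne' : (σ i : ℕ) ≠ σ j := fun e => hne (hinj (Fin.ext e))
    by_contra hcon
    push Not at hcon
    have h0 : A i j ≠ 0 := by
      by_cases hj : (j : ℕ) + 1 < m
      · rw [(cart_adj h hij hj).1]; norm_num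
      · rcases cart_last h hij (by omega) with h1 | h1 <;> rw [h1.1] <;> norm_num
    apply h0
    rw [← hA]
    rcases Nat.lt_or_gt_of_ne hne' with h1 | h1
    · exact (cart_far h (by omega)).1
    · exact (cart_far h (by omega)).2
  have hprod : ∀ i j : Fin m, (i : ℕ) + 1 = j → (A i j * A j i = 2 ↔ (j : ℕ) + 1 = m) := by
    intro i j hij
    constructor
    · intro h1
      by_contra hne
      have h2 := cart_adj h hij (by omega)
      rw [h2.1, h2.2] at h1
      norm_num at h1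
    · intro h1
      rcases cart_last h hij h1 with h2 | h2 <;> rw [h2.1, h2.2] <;> norm_num
  let a : Fin m := ⟨m - 1, by omega⟩
  let b : Fin m := ⟨m - 2, by omega⟩
  let c : Fin m := ⟨m - 3, by omega⟩
  have hba : (b : ℕ) + 1 = a := by simp only [a, b]; omega
  have hcb : (c : ℕ) + 1 = b := by simp only [c, b]; omega
  have ha1 : (a : ℕ) + 1 = m := by simp only [a]; omega
  have h2 : A b a * A a b = 2 := (hprod b a hba).2 ha1
  have h3 : σ a = a ∧ σ b = b := by
    have h4 := hadj b a hba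
    have h5 := hadj c b hcb
    have hca : (σ c : ℕ) ≠ σ a := fun e => by
      have h6 : c = a := hinj (Fin.ext e)
      have h7 := congrArg Fin.val h6
      simp only [a, c] at h7
      omega
    rcases h4 with h4 | h4
    · have h6 : (σ a : ℕ) + 1 = m := (hprod (σ b) (σ a) h4).1 (by rw [hA, hA]; exact h2)
      refine ⟨Fin.ext (by omega), Fin.ext (by omega)⟩
    · exfalso
      have h6 : (σ b : ℕ) + 1 = m := (hprod (σ a) (σ b) h4).1 (by rw [hA, hA, mul_comm]; exact h2)
      have h7 := (σ c).2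
      omega
  have h4 : ∀ d : ℕ, ∀ i : Fin m, (i : ℕ) + d + 1 = m → σ i = i := by
    intro d
    induction d using Nat.strong_induction_on with
    | _ d ih =>
      intro i hi
      rcases Nat.lt_or_ge d 1 with hd | hd
      · have : i = a := Fin.ext (by simp only [a]; (clear * - hi hd; omega))
        rw [this]; exact h3.1
      · rcases Nat.lt_or_ge d 2 with hd2 | hd2
        · have : i = b := Fin.ext (by simp only [b]; (clear * - hi hd hd2; omega))
          rw [this]; exact h3.2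
        · have h5 := ih (d - 1) (by omega) ⟨i + 1, by omega⟩ (by simp only; omega)
          have h6 := ih (d - 2) (by omega) ⟨i + 2, by omega⟩ (by simp only; omega)
          have h7 := hadj i ⟨i + 1, by omega⟩ rfl
          rw [h5] at h7
          simp only at h7
          rcases h7 with h7 | h7
          · exact Fin.ext (by omega)
          · exfalso
            have h8 : σ i = σ ⟨i + 2, by omega⟩ := by
              rw [h6]
              exact Fin.ext (by simp only; omega)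
            have h9 := congrArg Fin.val (hinj h8)
            simp only at h9
            omega
  refine ⟨w, fun x => ?_⟩
  conv_lhs => rw [eq_sum_sr x, map_sum]
  conv_rhs => rw [eq_sum_sr x]
  rw [← Finset.sum_neg_distrib]
  refine Finset.sum_congr rfl fun i _ => ?_
  rw [map_smul, hσ, h4 (m - 1 - i) i (by (clear * -; omega)), smul_neg]

end B

end Cfsg.Agent.H79.RIM
end

-- part: H79/RIM/MainB
section
/-!
# The main case of the root group data of type `B_m`, `m ≥ 3` (S4816, helper79)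

`nb_mainB` : `S` a finite group with a root group datum of type `B_m`, `m ≥ 3`, `J` all the nodes but the last one,
`p ∣ |S : P_J| ∏ (q^(i+1) - 1)`: the central extensions of `S` have irreducible characters of degree divisible by `p` over
each faithful linear character of the kernel.
-/

set_option autoImplicit false
set_option linter.unusedSectionVars false

open scoped ComplexConjugate

namespace Cfsg.Agent.H79.RIM

open Cfsg Cfsg.Agent.Characters CoxeterSystem Cfsg.Agent.ChevalleyStructure.CoxeterGeom Cfsg.Agent.Tits.Roots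
  Cfsg.Agent.Tits.Core Cfsg.Agent.Tits.Exchange Cfsg.Agent.Nodes.Reps Cfsg.Agent.Nodes.BNOf Cfsg.Agent.Nodes.StabComb
  Cfsg.Agent.Nodes.Bruhat Cfsg.Agent.Nodes.OppDec Cfsg.Agent.Nodes.LeviDec Cfsg.Agent.Nodes.RGDLift Cfsg.Agent.H53.HC
open Cfsg.Agent.LieRecognition.BNCox (cA cA_apply)
open Cfsg.Agent.LieRecognition.CoxClass (mA)
open Cfsg.Agent.H643.RIM (GG_lift index_PJ charDegree_cast)
open Cfsg.Agent.H665.RIM (NB)

universe u

/-- the nodes `0, …, l - 1` of `B_{l+1}` -/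
def kc (l : ℕ) : Fin l ↪ Fin (l + 1) := Fin.castSuccEmb

theorem kc_val {l : ℕ} (i : Fin l) : (kc l i : ℕ) = i := rfl

theorem kc_M {l : ℕ} (i j : Fin l) : CoxeterMatrix.B (l + 1) (kc l i) (kc l j) = cA l i j := by
  by_cases hij : i = j
  · subst hij
    rw [CoxeterMatrix.diagonal, CoxeterMatrix.diagonal]
  · have hne : kc l i ≠ kc l j := fun e => hij ((kc l).injective e)
    rw [H965.XZ.B_ne hne, cA_apply]
    unfold mA
    have h1 := i.2
    have h2 := j.2
    have h3 : (i : ℕ) ≠ j := fun e => hij (Fin.ext e)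
    rw [kc_val, kc_val, if_neg (by omega), if_neg h3]
    by_cases h4 : (j : ℕ) + 1 = i ∨ (i : ℕ) + 1 = j
    · rw [if_pos h4, if_pos (by omega)]
    · rw [if_neg h4, if_neg (by omega)]

theorem range_kc (l : ℕ) : Set.range (kc l) = {j : Fin (l + 1) | (j : ℕ) + 1 ≠ l + 1} := by
  ext j
  constructor
  · rintro ⟨i, rfl⟩
    have := i.2
    show (kc l i : ℕ) + 1 ≠ l + 1
    rw [kc_val]
    omega
  · intro hj
    have h1 : (j : ℕ) + 1 ≠ l + 1 := hj
    have h2 := j.2
    exact ⟨⟨j, by omega⟩, Fin.ext rfl⟩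

theorem mem_kc {l : ℕ} (i : Fin (l + 1)) : i ∈ Set.range (kc l) ↔ i ≠ Fin.last l := by
  rw [range_kc]
  have h2 := i.2
  constructor
  · intro h e
    apply h
    rw [e, Fin.val_last]
  · intro h e
    exact h (Fin.ext (by rw [Fin.val_last]; omega))

theorem oneChain_kc {l : ℕ} (hl : 2 ≤ l) : H643.RIM.OneChain (CoxeterMatrix.B (l + 1)) (Set.range (kc l)) (kc l) :=
  ⟨fun i => ⟨i, rfl⟩, kc_M, fun _ ha hk => absurd ha hk, fun _ hk' _ => ⟨⟨0, by omega⟩, hk' _⟩⟩

theorem nb_mainB {l : ℕ} {W : Type*} {S : Type u} [Group W] [Group S] [Finite W] [Finite S] {r : ℕ} [Fact r.Prime]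
    {cs : CoxeterSystem (CoxeterMatrix.B (l + 1)) W} {A : Fin (l + 1) → Fin (l + 1) → ℤ}
    {h : IsCartan (CoxeterMatrix.B (l + 1)) A} {T : Subgroup S} {n : Fin (l + 1) → S}
    {X : (Fin (l + 1) → ℤ) → Subgroup S} (hl : 2 ≤ l) (R : RGD cs h r T n X) (hG : GG cs h T X = ⊤) {p c q : ℕ}
    (hc : ¬ r ∣ c) (hq : ∀ i : Fin (l + 1), (i : ℕ) + 1 < l + 1 → Nat.card (X (sr i)) = q)
    (hd : p ∣ (PJ cs h T X {j | (j : ℕ) + 1 ≠ l + 1}).index * ∏ i ∈ Finset.range l, (q ^ (i + 1) - 1)) : NB p c S := by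
  classical
  intro E _ _ π hs hcen hcomm hcard l₀ hl₀
  have hk : (Nat.card π.ker).Coprime r := by
    rw [hcard]
    exact (((Fact.out : r.Prime).coprime_iff_not_dvd).2 hc).symm
  have : Fintype E := Fintype.ofFinite E
  obtain ⟨n', hn'⟩ : ∃ n' : Fin (l + 1) → E, ∀ i, π (n' i) = n i := by
    choose n' hn' using fun i => hs (n i)
    exact ⟨n', hn'⟩
  have R' := rgd_lift hcen hk hs R hn'
  have hG' := GG_lift hcen hk hs R hG
  have hZT : π.ker ≤ T.comap π := fun z hz => show π z ∈ T by rw [MonoidHom.mem_ker.1 hz]; exact one_mem _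
  obtain ⟨w₀, hw₀⟩ := exists_neg (cs := cs) (h := h) (by omega)
  have hsz : Nat.card ↥(lft r π (X (sr (kc l ⟨0, by omega⟩)))) = q := by
    rw [H643.RIM.card_lft_eq hcen hk hs (R.pgrp' (isRoot_sr cs h _))]
    exact hq _ (by rw [kc_val]; simp only; omega)
  obtain ⟨χ, hχ, ⟨a, ha, hχ1⟩, hχl⟩ := H491.RIM.exists_irr_chain R' hG' hl (kc l) kc_M ⟨0, by omega⟩ hsz hcen hZT l₀
    (fun w hw hp => H643.RIM.reverse_of_neg mem_kc (oneChain_kc hl) hl hw₀ hp hw)
  refine ⟨χ, hχ, fun z => hχl z z.2, ?_⟩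
  rw [index_PJ hcen hk hs R] at hχ1
  have h1 : ((charDegree χ : ℕ) : ℂ) = (((PJ cs h T X (Set.range (kc l))).index *
      (a * ∏ i ∈ Finset.range l, (q ^ (i + 1) - 1)) : ℕ) : ℂ) := by
    rw [charDegree_cast hχ, hχ1, Nat.cast_mul, Nat.cast_mul]
  have h2 : charDegree χ = _ := Nat.cast_injective h1
  rw [h2, range_kc]
  rw [show ∀ x y z : ℕ, x * (y * z) = y * (x * z) from fun x y z => by ring]
  exact Dvd.dvd.mul_left hd _

end Cfsg.Agent.H79.RIM
end

-- part: H79/RIM/OOddBase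
section
/-!
# S4816, odd orthogonal groups, cross characteristic: the order and the multiplier (helper79)

* `hd_of` : the hypothesis of `H521.RIM.arith_odd`;
* `nball_of_two` : `NBall` from `NB p 2`.
-/

set_option autoImplicit false

universe u

namespace Cfsg.Agent.H79.RIM

open Cfsg Cfsg.Agent.H665.RIM

theorem hd_of {F : Type*} [Field F] [Fintype F] {m p : ℕ} (hm : 3 ≤ m) (ho : Odd (Fintype.card F)) (hp : p.Prime)
    (hpq : ¬ p ∣ Fintype.card F) (hd : p ∣ Nat.card (POmega F (quadFormOdd m F))) :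
    p ∣ ∏ i ∈ Finset.range m, (Nat.card F ^ (2 * (i + 1)) - 1) := by
  rw [Nat.card_eq_fintype_card]
  have h1 : p ∣ Fintype.card F ^ (m ^ 2) * ∏ i ∈ Finset.range m, (Fintype.card F ^ (2 * (i + 1)) - 1) := by
    rw [← S0292.result (F := F) rfl ho m hm]
    exact Dvd.dvd.mul_left hd 2
  exact (hp.dvd_mul.1 h1).resolve_left fun h2 => hpq (hp.dvd_of_dvd_pow h2)

theorem nball_of_two {T : Type u} [Group T] {p : ℕ} (hM : HasCyclicSchurMultiplier T 2) (h : NB p 2 T) : NBall p T := by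
  intro m hm hpm E _ _ π hs hc hcomm hcard l hl
  have h1 := (Cfsg.Agent.H68.Bounds.ker_of_hasCyclic hM (π := π) ⟨hs, hc, hcomm⟩).2
  rw [hcard] at h1
  have h2 : m = 2 := ((Nat.dvd_prime Nat.prime_two).1 h1).resolve_left (by omega)
  subst h2
  exact h E π hs hc hcomm hcard l hl

end Cfsg.Agent.H79.RIM
end

-- part: H79/RIM/OOdd
section
/-!
# S4816, odd orthogonal groups, cross characteristic (helper79)

* `nb2_of` : `NB p c` for `PΩ_{2m+1}(q)`, `q` odd, `c` prime to `q`, but the case `m = 3`, `p ∣ q² + q + 1`;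
* `nb2_oodd` : `m ≥ 4`, or `m = 3` and `p ∤ q³ - 1`, or `p ∣ q² - 1`;
* `row_of` : the row of `H325.RIM.RowsNB`, from the case `m = 3`, `p ∣ q² + q + 1`, `q > 3`.
-/

set_option autoImplicit false

universe u

namespace Cfsg.Agent.H79.RIM

open Cfsg Cfsg.Agent.H665.RIM CoxeterSystem Cfsg.Agent.Tits.Core Cfsg.Agent.Nodes.BNOf Cfsg.Agent.Nodes.Bruhat

theorem two_ne_of_odd {F : Type*} [Field F] [Fintype F] (ho : Odd (Fintype.card F)) : (2 : F) ≠ 0 := by
  intro h
  obtain ⟨k, hk⟩ := ho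
  have h1 : ((Fintype.card F : ℕ) : F) = 0 := FiniteField.cast_card_eq_zero F
  rw [hk] at h1
  push_cast at h1
  rw [h, zero_mul, zero_add] at h1
  exact one_ne_zero h1

theorem not_char_dvd {F : Type*} [Field F] [Fintype F] (ho : Odd (Fintype.card F)) {r : ℕ} [Fact r.Prime] [CharP F r] :
    ¬ r ∣ 2 := by
  intro h
  exact two_ne_of_odd ho (by exact_mod_cast (CharP.cast_eq_zero_iff F r 2).2 h)

/-- **The row, except `m = 3`, `p ∣ q² + q + 1`** -/
theorem nb2_of {F : Type} [Field F] [Fintype F] {m p : ℕ} (hm : 3 ≤ m) (ho : Odd (Fintype.card F)) (hp : p.Prime)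
    (hpq : ¬ p ∣ Fintype.card F) (hd : p ∣ Nat.card (POmega F (quadFormOdd m F)))
    (hex : m = 3 → p ∣ Fintype.card F ^ 3 - 1 → (∀ i, 1 ≤ i → i < 3 → ¬ p ∣ Fintype.card F ^ i - 1) →
      NB p 2 (POmega F (quadFormOdd m F))) : NB p 2 (POmega F (quadFormOdd m F)) := by
  obtain ⟨r, hr⟩ := CharP.exists F
  have hrp : Fact r.Prime := ⟨CharP.char_is_prime F r⟩
  have h2 := two_ne_of_odd ho
  obtain ⟨A, h, T, n, X, R, hW, hG, hq⟩ := H568.RIM.exists_odd (m := m) h2 (by omega) (r := r)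
  have hfin : Finite (POmega F (quadFormOdd m F)) := Nat.finite_of_card_ne_zero (by
    intro h0
    have h1 := S0292.result (F := F) rfl ho m hm
    rw [h0, mul_zero] at h1
    have h3 : 1 < Fintype.card F := Fintype.one_lt_card
    have h4 : Fintype.card F ^ (m ^ 2) * ∏ i ∈ Finset.range m, (Fintype.card F ^ (2 * (i + 1)) - 1) ≠ 0 := by
      refine mul_ne_zero (pow_ne_zero _ (by omega)) (Finset.prod_ne_zero_iff.2 fun i _ => ?_)
      have := Nat.one_lt_pow (n := 2 * (i + 1)) (by omega) h3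
      omega
    exact h4 h1.symm)
  have hrc : ¬ r ∣ 2 := not_char_dvd (F := F) ho
  rcases H521.RIM.arith_odd R hG (q := Nat.card F) Nat.card_pos hm hq hp (hd_of hm ho hp hpq hd) with h1 | ⟨h1, h3, h4, h5⟩
  · obtain ⟨l, rfl⟩ : ∃ l, m = l + 1 := ⟨m - 1, by omega⟩
    exact nb_mainB (by omega) R hG hrc (fun i _ => hq i) (by simpa only [_root_.ne_eq, _root_.Nat.add_right_cancel_iff, _root_.Nat.card_eq_fintype_card, _root_.add_tsub_cancel_right] using h1)
  · rcases Nat.lt_or_ge m 4 with h6 | h6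
    · have h7 : m = 3 := by omega
      subst h7
      rw [Nat.card_eq_fintype_card] at h3 h4
      exact hex rfl h3 h4
    · exact H568.RIM.nb_excB' h6 R hG hrc h5

theorem nb2_oodd {F : Type} [Field F] [Fintype F] {m p : ℕ} (hm : 3 ≤ m) (ho : Odd (Fintype.card F)) (hp : p.Prime)
    (hpq : ¬ p ∣ Fintype.card F) (hd : p ∣ Nat.card (POmega F (quadFormOdd m F)))
    (hex : m = 3 → ¬ p ∣ Fintype.card F ^ 3 - 1 ∨ p ∣ Fintype.card F ^ 2 - 1) : NB p 2 (POmega F (quadFormOdd m F)) :=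
  nb2_of hm ho hp hpq hd fun h1 h2 h3 => by
    rcases hex h1 with h4 | h4
    · exact absurd h2 h4
    · exact absurd h4 (h3 2 (by norm_num) (by norm_num))

/-- the remaining case -/
def Three : Prop :=
  ∀ (F : Type) [Field F] [Fintype F] (p : ℕ), p.Prime → Odd (Fintype.card F) → 3 < Fintype.card F →
    p ∣ Fintype.card F ^ 3 - 1 → (∀ i, 1 ≤ i → i < 3 → ¬ p ∣ Fintype.card F ^ i - 1) →
    NB p 2 (POmega F (quadFormOdd 3 F))

open Cfsg.Agent.H325.RIM Cfsg.Agent.OrdDiv Cfsg.Agent.H436 in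
/-- **The row.** -/
theorem row_of (H : Three) (p m q : ℕ) (hp : p.Prime) (hpq : ¬ p ∣ q) (hex : ¬ (m = 3 ∧ q = 3)) :
    NBRow p (.oodd m q) := by
  intro S _ _ hg hd
  obtain ⟨F, _, _, rfl, ⟨e⟩⟩ := hg.real
  obtain ⟨hm, ho, -⟩ := hg.cond
  have h3 : m = 3 → 3 < Fintype.card F := by
    intro h
    have h1 : 1 < Fintype.card F := Fintype.one_lt_card
    obtain ⟨k, hk⟩ := ho
    have h2 : Fintype.card F ≠ 3 := fun h2 => hex ⟨h, h2⟩
    omega
  rw [Nat.card_congr e.toEquiv] at hd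
  refine NBall.congr e (nball_of_two (H63.Odd.main_zero (two_ne_of_odd ho) hm fun h => ?_) (nb2_of hm ho hp hpq hd ?_))
  · rw [Nat.card_eq_fintype_card]
    exact h3 h
  · rintro rfl h1 h2
    exact H F p hp ho (h3 rfl) h1 h2

end Cfsg.Agent.H79.RIM
end

private theorem dce_27f09cb3e4ef : _root_.True := by
  try have : _root_.True := by simp only [_root_.Cfsg.Agent.H887.RIM.cmp.congr_simp]
  try have : _root_.True := by simp only [_root_.Cfsg.Agent.H887.RIM.cjA.congr_simp]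
  try have : _root_.True := by simp only [_root_.Cfsg.Agent.H572.RIM.FA.eq_1]
  exact _root_.True.intro
end

-- part: H759/RIM/SuzUp
section
set_option linter.all false
open scoped Cfsg.Agent.FastGrp

/-!
# S4816, row `Suz`: upper bounds for the number of characters over a faithful central character (helper759)
-/

set_option autoImplicit false
set_option linter.unusedSectionVars false
set_option maxRecDepth 1000000

namespace Cfsg.Agent.H759.RIM.SuzUp

open Cfsg Cfsg.Spor Subgroup Cfsg.Agent.H759.RIM.SuzS Cfsg.Agent.H759.RIM.SuzY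
open Cfsg.Agent.H58.SuzRep (Y q q_z z q_ker q_surj)
open Cfsg.Agent.H264.QS.Suz6 (perf_suz pce_q card_ker ker_le)
open Cfsg.Agent.H622.Over (Lies)
open Cfsg.Agent.H795.RIM.Form

universe u

variable {K : Type u} [Group K] [Finite K] {e : K ≃* Suz} {E : Type u} [Group E] [Finite E] {π : E →* K}

/-- the cover -/
theorem exists_cov (e : K ≃* Suz) (hπ : Function.Surjective π) (hker : π.ker ≤ center E)
    (hperf : commutator E = ⊤) : ∃ θ : Y →* E, Function.Surjective θ ∧ ∀ y, e (π (θ y)) = q y := by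
  have : Finite Y := inferInstance
  obtain ⟨θ, h1, h2⟩ := Cfsg.Agent.H95.StemCover.exists_cover' perf_suz (A := Multiplicative (ZMod 6))
    Cfsg.Agent.S2048.result q pce_q.toStem (by rw [card_ker]; simp) hperf (e.toMonoidHom.comp π)
    (e.surjective.comp hπ) (by
      intro x hx
      refine hker ?_
      rw [MonoidHom.mem_ker] at hx ⊢
      exact e.injective (by rw [map_one]; exact hx))
  exact ⟨θ, h1, h2⟩

/-- the order of a centralizer in a central extension -/
theorem card_cent_le {G H : Type*} [Group G] [Finite G] [Group H] [Finite H] (π : G →* H) (g : G) :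
    Nat.card (centralizer ({g} : Set G)) ≤ Nat.card π.ker * Nat.card (centralizer ({π g} : Set H)) := by
  have h1 := Subgroup.card_eq_card_quotient_mul_card_subgroup (π.comp (centralizer ({g} : Set G)).subtype).ker
  rw [h1, mul_comm]
  refine Nat.mul_le_mul ?_ ?_
  · refine Nat.card_le_card_of_injective (fun x => (⟨x.1.1, x.2⟩ : π.ker)) ?_
    intro x y hxy
    exact Subtype.ext (Subtype.ext (congrArg (fun t : π.ker => (t : G)) hxy))
  · rw [Nat.card_congr (QuotientGroup.quotientKerEquivRange _).toEquiv]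
    refine Nat.card_mono (Set.toFinite _) ?_
    rintro _ ⟨x, rfl⟩
    have h2 := mem_centralizer_singleton_iff.1 x.2
    refine mem_centralizer_singleton_iff.2 ?_
    change π x * π g = π g * π x
    rw [← map_mul, h2, map_mul]

variable {θ : Y →* E}

theorem cent_le (hq : ∀ y, e (π (θ y)) = q y) (y : Y) {A : ℕ}
    (h : Nat.card (centralizer ({q y} : Set Suz)) ≤ A) :
    Nat.card (centralizer ({θ y} : Set E)) ≤ Nat.card π.ker * A := by
  refine (card_cent_le π (θ y)).trans (Nat.mul_le_mul_left _ (le_trans (le_of_eq ?_) h))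
  rw [← hq]
  refine Nat.card_congr (e.toEquiv.subtypeEquiv ?_)
  intro x
  rw [mem_centralizer_singleton_iff, mem_centralizer_singleton_iff]
  show x * π (θ y) = π (θ y) * x ↔ e x * e (π (θ y)) = e (π (θ y)) * e x
  rw [← map_mul, ← map_mul, e.injective.eq_iff]

theorem ker_eq (hθ : Function.Surjective θ) (hq : ∀ y, e (π (θ y)) = q y) : π.ker = zpowers (θ z) := by
  refine le_antisymm ?_ ?_
  · intro x hx
    obtain ⟨y, rfl⟩ := hθ x
    have h1 : q y = 1 := by rw [← hq, MonoidHom.mem_ker.1 hx, map_one]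
    obtain ⟨n, hn⟩ := mem_zpowers_iff.1 (ker_le (MonoidHom.mem_ker.2 h1))
    exact mem_zpowers_iff.2 ⟨n, by rw [← map_zpow, hn]⟩
  · rw [zpowers_le, MonoidHom.mem_ker]
    exact e.injective (by rw [hq, q_z, map_one])

theorem order_z (hθ : Function.Surjective θ) (hq : ∀ y, e (π (θ y)) = q y) : orderOf (θ z) = Nat.card π.ker := by
  rw [ker_eq hθ hq, Nat.card_zpowers]

theorem ζ_mem (hq : ∀ y, e (π (θ y)) = q y) : θ ζ ∈ π.ker := by
  rw [MonoidHom.mem_ker]
  exact e.injective (by rw [hq, ζ, map_pow, q_z, one_pow, map_one])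

theorem ζ_ne {m : ℕ} (hθ : Function.Surjective θ) (hq : ∀ y, e (π (θ y)) = q y) (hm : Nat.card π.ker = m)
    (h2 : 2 ∣ m) : θ ζ ≠ 1 := by
  intro h1
  rw [ζ, map_pow] at h1
  have h3 := orderOf_dvd_of_pow_eq_one h1
  rw [order_z hθ hq, hm] at h3
  exact absurd (h2.trans h3) (by decide)

theorem ζ_sq : ζ * ζ = 1 := by
  rw [ζ, ← pow_add]
  have := Cfsg.Agent.H58.SuzRep.orderOf_z
  exact orderOf_dvd_iff_pow_eq_one.1 (by rw [this])

theorem l_ζ {m : ℕ} (hθ : Function.Surjective θ) (hq : ∀ y, e (π (θ y)) = q y) (hm : Nat.card π.ker = m)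
    (h2 : 2 ∣ m) {l : π.ker →* ℂˣ} (hl : Function.Injective l) : (l ⟨θ ζ, ζ_mem hq⟩ : ℂ) = -1 := by
  have h3 : l ⟨θ ζ, ζ_mem hq⟩ * l ⟨θ ζ, ζ_mem hq⟩ = 1 := by
    rw [← map_mul]
    have : (⟨θ ζ, ζ_mem hq⟩ : π.ker) * ⟨θ ζ, ζ_mem hq⟩ = 1 := Subtype.ext (by
      change θ ζ * θ ζ = 1
      rw [← map_mul, ζ_sq, map_one])
    rw [this, map_one]
  have h4 : (l ⟨θ ζ, ζ_mem hq⟩ : ℂ) * (l ⟨θ ζ, ζ_mem hq⟩ : ℂ) = 1 := by
    rw [← Units.val_mul, h3, Units.val_one]
  rcases mul_self_eq_one_iff.1 h4 with h5 | h5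
  · exfalso
    have h6 : l ⟨θ ζ, ζ_mem hq⟩ = 1 := Units.ext h5
    have h7 := hl (h6.trans (map_one l).symm)
    exact ζ_ne hθ hq hm h2 (congrArg Subtype.val h7)
  · exact h5

theorem ζ_one (hθ : Function.Surjective θ) (hq : ∀ y, e (π (θ y)) = q y) (hm : Nat.card π.ker = 3) :
    θ ζ = 1 := by
  rw [ζ, map_pow, ← hm, ← order_z hθ hq, pow_orderOf_eq_one]

theorem not_mem (hq : ∀ y, e (π (θ y)) = q y) {y : Y} (h : q y ≠ 1) : θ y ∉ π.ker := by
  intro h1
  apply h
  rw [← hq, MonoidHom.mem_ker.1 h1, map_one]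

/-! ### the prime 3 -/

theorem le_three (hθ : Function.Surjective θ) (hq : ∀ y, e (π (θ y)) = q y) (hker : π.ker ≤ center E)
    {l : π.ker →* ℂˣ} (hl : Function.Injective l)
    (hS : ∀ χ : IrrCharacter E, Lies π.ker l (χ : E → ℂ) → ¬ 3 ∣ charDegree (χ : E → ℂ)) :
    Nat.card {χ : IrrCharacter E // Lies π.ker l (χ : E → ℂ)} ≤ 27 := by
  have : Fact (Nat.Prime 3) := ⟨by norm_num⟩
  set R := r w21 with hR
  have hR18 : R ^ 18 = 1 := R21
  have h := F1 (p := 3) (a := 2) (x := θ (R ^ 10)) (y := θ (R ^ 9)) (A := 54) (B := 18) (by norm_num) hker hl hS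
    (by
      rw [← map_pow, ← pow_mul]
      have : R ^ (10 * 3 ^ 2) = (R ^ 18) ^ 5 := by rw [← pow_mul]; norm_num
      rw [this, hR18, one_pow, map_one])
    (by
      show θ (R ^ 10) * θ (R ^ 9) = θ (R ^ 9) * θ (R ^ 10)
      rw [← map_mul, ← map_mul, ← pow_add, ← pow_add])
    (by rw [← map_mul, ← pow_add, hR18, map_one])
    (cent_le hq _ (by rw [map_pow, hR, q_r]; exact c9))
    (by
      rw [← map_mul, ← pow_add]
      have : R ^ (10 + 9) = R := by rw [show 10 + 9 = 18 + 1 from rfl, pow_add, hR18, one_mul, pow_one]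
      rw [this]
      exact cent_le hq _ (by rw [hR, q_r]; exact c18))
  omega

/-! ### the prime 7 -/

theorem pow7 : (r w10 ^ 8) ^ 7 = 1 := by
  have h1 : (r w10 ^ 8) ^ 7 = (r w10 ^ 14) ^ 4 := by rw [← pow_mul, ← pow_mul]
  rw [h1, R10]
  have h2 : ζ ^ 4 = (ζ * ζ) ^ 2 := by rw [← pow_two, ← pow_mul]
  rw [h2, ζ_sq, one_pow]

theorem comm7 : Commute (r w10 ^ 8) (r wT * r w10 ^ 7 * r wT ^ 2) := by
  have h1 : Commute (r w10 ^ 8) (r wT) := TX.symm
  have h2 : Commute (r w10 ^ 8) (r w10 ^ 7) := Commute.pow_pow_self _ _ _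
  exact (h1.mul_right h2).mul_right (h1.pow_right 2)

theorem ζ_comm (y : Y) : ζ * y = y * ζ := by
  have h1 : ζ ∈ center Y := (center Y).pow_mem (q_ker (MonoidHom.mem_ker.2 q_z)) 3
  exact (mem_center_iff.1 h1 y).symm

theorem le_seven_even {m : ℕ} (hθ : Function.Surjective θ) (hq : ∀ y, e (π (θ y)) = q y) (hker : π.ker ≤ center E)
    (hm : Nat.card π.ker = m) (h2 : 2 ∣ m) {l : π.ker →* ℂˣ} (hl : Function.Injective l)
    (hS : ∀ χ : IrrCharacter E, Lies π.ker l (χ : E → ℂ) → ¬ 7 ∣ charDegree (χ : E → ℂ)) :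
    Nat.card {χ : IrrCharacter E // Lies π.ker l (χ : E → ℂ)} ≤ 21 := by
  have : Fact (Nat.Prime 7) := ⟨by norm_num⟩
  have h := F2 (p := 7) (a := 1) (x := θ (r w10 ^ 8)) (i := θ (r w10 ^ 7)) (j := θ (r wT * r w10 ^ 7 * r wT ^ 2))
    (w := ⟨θ ζ, ζ_mem hq⟩) (w' := ⟨θ ζ, ζ_mem hq⟩) (A := 84) hker hl hS
    (by rw [pow_one, ← map_pow, pow7, map_one])
    ((Commute.pow_pow_self (r w10) 8 7).map θ)
    (comm7.map θ)
    (by
      show θ (r w10 ^ 7) * θ (r wT * r w10 ^ 7 * r wT ^ 2) = θ (r wT * r w10 ^ 7 * r wT ^ 2) * θ (r w10 ^ 7) * θ ζ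
      rw [← map_mul, TIJ, ζ_comm, map_mul, map_mul])
    (by
      show θ (r w10 ^ 7) * θ (r w10 ^ 7) = θ ζ
      rw [← map_mul, ← pow_add, R10])
    (l_ζ hθ hq hm h2 hl) (Or.inr (l_ζ hθ hq hm h2 hl))
    (cent_le hq _ (by rw [map_pow, q_r]; exact c7))
  omega

theorem le_seven_three (hθ : Function.Surjective θ) (hq : ∀ y, e (π (θ y)) = q y) (hker : π.ker ≤ center E)
    (hm : Nat.card π.ker = 3) {l : π.ker →* ℂˣ} (hl : Function.Injective l)
    (hS : ∀ χ : IrrCharacter E, Lies π.ker l (χ : E → ℂ) → ¬ 7 ∣ charDegree (χ : E → ℂ)) :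
    Nat.card {χ : IrrCharacter E // Lies π.ker l (χ : E → ℂ)} ≤ 28 := by
  have : Fact (Nat.Prime 7) := ⟨by norm_num⟩
  have hζ := ζ_one hθ hq hm
  have hT : θ (r wT) ^ 3 = 1 := by rw [← map_pow, T3, map_one]
  have hTinv : (θ (r wT))⁻¹ = θ (r wT ^ 2) := by
    rw [inv_eq_iff_mul_eq_one, ← map_mul, ← pow_succ', T3, map_one]
  have hI2 : θ (r w10 ^ 7) * θ (r w10 ^ 7) = 1 := by rw [← map_mul, ← pow_add, R10, hζ]
  have hIJ : θ (r w10 ^ 7) * θ (r wT * r w10 ^ 7 * r wT ^ 2) = θ (r wT * r w10 ^ 7 * r wT ^ 2) * θ (r w10 ^ 7) := by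
    rw [← map_mul, TIJ, map_mul, hζ, one_mul, map_mul]
  have hJ2 : θ (r wT * r w10 ^ 7 * r wT ^ 2) * θ (r wT * r w10 ^ 7 * r wT ^ 2) = 1 := by
    have h1 : r wT * r w10 ^ 7 * r wT ^ 2 * (r wT * r w10 ^ 7 * r wT ^ 2) =
        r wT * r w10 ^ 7 * (r wT ^ 3) * r w10 ^ 7 * r wT ^ 2 := by group
    rw [← map_mul, h1, T3, mul_one, mul_assoc (r wT), ← pow_add, map_mul, map_mul, R10, hζ, mul_one, ← map_mul,
      ← pow_succ', T3, map_one]
  have h := F3 (p := 7) (a := 1) (x := θ (r w10 ^ 8)) (y := θ (r w10 ^ 7))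
    (y' := θ (r wT * r w10 ^ 7 * r wT ^ 2)) (t := θ (r wT)) (A := 84) (B := 28) (by norm_num) hker
    (by rw [hm]; norm_num) hl hS
    (by rw [pow_one, ← map_pow, pow7, map_one])
    ((Commute.pow_pow_self (r w10) 8 7).map θ)
    (comm7.map θ)
    (Commute.map (show Commute (r w10 ^ 8) (r wT) from TX.symm) θ)
    hI2 hJ2 hIJ
    (by rw [hTinv, ← map_mul, ← map_mul])
    (by rw [hTinv, ← map_mul, ← map_mul, TJ, map_mul])
    (not_mem hq (by rw [map_pow, q_r]; exact ne7))
    (cent_le hq _ (by rw [map_pow, q_r]; exact c7))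
    (by
      rw [← map_mul, ← pow_add]
      have : r w10 ^ (8 + 7) = ζ * r w10 := by
        rw [show 8 + 7 = 14 + 1 from rfl, pow_add, R10, pow_one]
      rw [this, map_mul, hζ, one_mul]
      exact cent_le hq _ (by rw [q_r]; exact c14))
  omega

/-! ### the prime 5 -/

theorem pow5 : (r w13 ^ 6) ^ 5 = 1 := by
  have h1 : (r w13 ^ 6) ^ 5 = (r w13 ^ 15) ^ 2 := by rw [← pow_mul, ← pow_mul]
  rw [h1, R13, one_pow]

theorem comm5 : Commute (r w13 ^ 6) (r w13 ^ 10 * r wI * r w13 ^ 5) := by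
  have h1 : Commute (r w13 ^ 6) (r wI) := IX.symm
  exact ((Commute.pow_pow_self (r w13) 6 10).mul_right h1).mul_right (Commute.pow_pow_self (r w13) 6 5)

theorem T5 : r w13 ^ 5 * r w13 ^ 10 = 1 := by rw [← pow_add, R13]

theorem T10 : r w13 ^ 10 * r w13 ^ 5 = 1 := by rw [← pow_add, R13]

theorem le_five_even {m : ℕ} (hθ : Function.Surjective θ) (hq : ∀ y, e (π (θ y)) = q y) (hker : π.ker ≤ center E)
    (hm : Nat.card π.ker = m) (h2 : 2 ∣ m) (h5 : ¬ 5 ∣ m) {l : π.ker →* ℂˣ} (hl : Function.Injective l)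
    (hS : ∀ χ : IrrCharacter E, Lies π.ker l (χ : E → ℂ) → ¬ 5 ∣ charDegree (χ : E → ℂ)) :
    Nat.card {χ : IrrCharacter E // Lies π.ker l (χ : E → ℂ)} ≤ 20 := by
  have : Fact (Nat.Prime 5) := ⟨by norm_num⟩
  have hTinv : (θ (r w13 ^ 10))⁻¹ = θ (r w13 ^ 5) := by
    rw [inv_eq_iff_mul_eq_one, ← map_mul, T10, map_one]
  have h := F4 (p := 5) (a := 1) (x := θ (r w13 ^ 6)) (i := θ (r wI)) (j := θ (r w13 ^ 10 * r wI * r w13 ^ 5))
    (w := ⟨θ ζ, ζ_mem hq⟩) (w' := ⟨θ ζ, ζ_mem hq⟩) (y := θ (r w13 ^ 10)) (s := θ (r [3])) (A := 300) (B := 15)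
    (by norm_num) hker (by rw [hm]; exact h5) hl hS
    (by rw [pow_one, ← map_pow, pow5, map_one])
    (Commute.map (show Commute (r w13 ^ 6) (r wI) from IX.symm) θ)
    (comm5.map θ)
    (by
      show θ (r wI) * θ (r w13 ^ 10 * r wI * r w13 ^ 5) = θ (r w13 ^ 10 * r wI * r w13 ^ 5) * θ (r wI) * θ ζ
      rw [← map_mul, IJ, ζ_comm, map_mul, map_mul])
    (by
      show θ (r wI) * θ (r wI) = θ ζ
      rw [← map_mul, II])
    (l_ζ hθ hq hm h2 hl) (Or.inr (l_ζ hθ hq hm h2 hl))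
    ((Commute.pow_pow_self (r w13) 6 10).map θ)
    (by rw [← map_pow, ← pow_mul, show 10 * 3 = 15 * 2 from rfl, pow_mul, R13, one_pow, map_one])
    (not_mem hq (by rw [map_pow, q_r]; exact neT))
    (Commute.map (show Commute (r w13 ^ 6) (r [3]) from SX.symm) θ)
    (by rw [hTinv, mul_inv_eq_iff_eq_mul, ← map_mul, ← map_mul, SuzY.ST])
    (cent_le hq _ (by rw [map_pow, q_r]; exact c5))
    (by
      rw [← map_mul, ← pow_add, show 6 + 10 = 15 + 1 from rfl, pow_add, R13, one_mul, pow_one]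
      exact cent_le hq _ (by rw [q_r]; exact c15))
  omega

theorem le_five_three (hθ : Function.Surjective θ) (hq : ∀ y, e (π (θ y)) = q y) (hker : π.ker ≤ center E)
    (hm : Nat.card π.ker = 3) {l : π.ker →* ℂˣ} (hl : Function.Injective l)
    (hS : ∀ χ : IrrCharacter E, Lies π.ker l (χ : E → ℂ) → ¬ 5 ∣ charDegree (χ : E → ℂ)) :
    Nat.card {χ : IrrCharacter E // Lies π.ker l (χ : E → ℂ)} ≤ 20 := by
  have hζ := ζ_one hθ hq hm
  have hTinv : (θ (r w13 ^ 10))⁻¹ = θ (r w13 ^ 5) := by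
    rw [inv_eq_iff_mul_eq_one, ← map_mul, T10, map_one]
  have hI2 : θ (r wI) * θ (r wI) = 1 := by rw [← map_mul, II, hζ]
  have hIJ : θ (r wI) * θ (r w13 ^ 10 * r wI * r w13 ^ 5) = θ (r w13 ^ 10 * r wI * r w13 ^ 5) * θ (r wI) := by
    rw [← map_mul, IJ, map_mul, hζ, one_mul, map_mul]
  have hJ2 : θ (r w13 ^ 10 * r wI * r w13 ^ 5) * θ (r w13 ^ 10 * r wI * r w13 ^ 5) = 1 := by
    have h1 : r w13 ^ 10 * r wI * r w13 ^ 5 * (r w13 ^ 10 * r wI * r w13 ^ 5) =
        r w13 ^ 10 * (r wI * (r w13 ^ 5 * r w13 ^ 10) * r wI) * r w13 ^ 5 := by group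
    rw [← map_mul, h1, T5, mul_one, II, map_mul, map_mul, hζ, mul_one, ← map_mul, T10, map_one]
  have h := F5 (a := 1) (x := θ (r w13 ^ 6)) (y := θ (r wI))
    (y' := θ (r w13 ^ 10 * r wI * r w13 ^ 5)) (t := θ (r w13 ^ 10)) (s := θ (r [3])) (A := 300) (B₂ := 20) (B₃ := 15)
    hker (by rw [hm]; norm_num) hl hS
    (by rw [pow_one, ← map_pow, pow5, map_one])
    (Commute.map (show Commute (r w13 ^ 6) (r wI) from IX.symm) θ)
    (comm5.map θ)
    ((Commute.pow_pow_self (r w13) 6 10).map θ)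
    (Commute.map (show Commute (r w13 ^ 6) (r [3]) from SX.symm) θ)
    hI2 hJ2 hIJ
    (by rw [hTinv, ← map_mul, ← map_mul])
    (by rw [hTinv, ← map_mul, ← map_mul, JK, map_mul])
    (by rw [← map_pow, ← pow_mul, show 10 * 3 = 15 * 2 from rfl, pow_mul, R13, one_pow, map_one])
    (by rw [hTinv, mul_inv_eq_iff_eq_mul, ← map_mul, ← map_mul, SuzY.ST])
    (not_mem hq (by rw [q_r]; exact neI))
    (cent_le hq _ (by rw [map_pow, q_r]; exact c5))
    (by
      rw [← map_mul]
      exact cent_le hq _ (by rw [map_mul, map_pow, q_r, q_r]; exact c10))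
    (by
      rw [← map_mul, ← pow_add, show 6 + 10 = 15 + 1 from rfl, pow_add, R13, one_mul, pow_one]
      exact cent_le hq _ (by rw [q_r]; exact c15))
  omega

end Cfsg.Agent.H759.RIM.SuzUp
end
end
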